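import Mathlib

/-!
Counting in an abstract group with the local structure found in the maximality proof.
-/

set_option autoImplicit false
set_option linter.unusedSectionVars false

namespace CfsgLib.HessianMax.Abs

variable {G : Type*} [Group G] [Finite G]

/-- The conjugates of the elements of a set. -/
def cl (S : Set G) : Set G := {g | ∃ m, ∃ s ∈ S, g = m * s * m⁻¹}

theorem cl_conj {S : Set G} {g : G} (hg : g ∈ cl S) (m : G) : m * g * m⁻¹ ∈ cl S := by
  obtain ⟨n, s, hs, rfl⟩ := hg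
  exact ⟨m * n, s, hs, by group⟩

/-- Counting the conjugates of a set that meets its conjugates only inside the stabiliser. -/
theorem card_cl {S : Set G} {H : Subgroup G} (inv : ∀ m ∈ H, ∀ s ∈ S, m * s * m⁻¹ ∈ S)
    (ti : ∀ m, ∀ s ∈ S, m * s * m⁻¹ ∈ S → m ∈ H) :
    Nat.card (cl S) * Nat.card H = Nat.card G * Nat.card S := by
  rw [← Nat.card_prod, ← Nat.card_prod]
  let f : G × S → cl S := fun q => ⟨q.1 * q.2 * q.1⁻¹, q.1, q.2, q.2.2, rfl⟩
  refine Nat.card_congr (Equiv.trans (Equiv.symm ?_) (Equiv.sigmaFiberEquiv f))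
  refine Equiv.trans (Equiv.sigmaCongrRight fun u => ?_) (Equiv.sigmaEquivProd (cl S) H)
  choose m s hs e using u.2
  have key : ∀ q : {q : G × S // f q = u}, q.1.1⁻¹ * m * s * (q.1.1⁻¹ * m)⁻¹ = q.1.2 := fun q => by
    have e' : q.1.1 * q.1.2 * q.1.1⁻¹ = m * s * m⁻¹ := (congrArg Subtype.val q.2).trans e
    calc q.1.1⁻¹ * m * s * (q.1.1⁻¹ * m)⁻¹ = q.1.1⁻¹ * (m * s * m⁻¹) * q.1.1 := by group
      _ = _ := by rw [← e']; group
  exact
    { toFun := fun q => ⟨q.1.1⁻¹ * m, ti _ s hs (by rw [key q]; exact q.1.2.2)⟩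
      invFun := fun a => ⟨(m * (a : G)⁻¹, ⟨a * s * (a : G)⁻¹, inv a a.2 s hs⟩), Subtype.ext (by
        show m * (a : G)⁻¹ * ((a : G) * s * (a : G)⁻¹) * (m * (a : G)⁻¹)⁻¹ = u
        rw [e]; group)⟩
      left_inv := fun q => by
        apply Subtype.ext
        refine Prod.ext ?_ (Subtype.ext (key q))
        show m * (q.1.1⁻¹ * m)⁻¹ = q.1.1
        group
      right_inv := fun a => Subtype.ext (by
        show (m * (a : G)⁻¹)⁻¹ * m = a
        group) }

/-- The local data: scalars `z`, the involution `t`, rotations `c`, a reflection `j` and an element `x` of order three. -/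
structure Ax (k : ℕ) (z t c j x : G) : Prop where
  four : 4 ∣ k
  kpos : 0 < k
  z3 : z ^ 3 = 1
  zc : ∀ g : G, z * g = g * z
  tsq : t * t = 1
  ck : c ^ k = t
  jj : j * j = t
  jc : j * c = c⁻¹ * t * j
  ord : ∀ i n : ℕ, z ^ i * c ^ n = 1 → 3 ∣ i ∧ 2 * k ∣ n
  jnot : ∀ i n : ℕ, z ^ i * c ^ n ≠ j
  cover : ∀ g, g * t = t * g → ∃ i n : ℕ, g = z ^ i * c ^ n ∨ g = z ^ i * c ^ n * j
  fit : ∀ i n g, ¬ k ∣ n → g * (z ^ i * c ^ n) = z ^ i * c ^ n * g → g * t = t * g
  x3 : x ^ 3 = 1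
  xne : ∀ i : ℕ, x ≠ z ^ i
  cx : ∀ g, g * x = x * g → ∃ i l : ℕ, g = z ^ i * x ^ l

namespace Ax

variable {k : ℕ} {z t c j x : G} (A : Ax k z t c j x)
include A

theorem c2k : c ^ (2 * k) = 1 := by rw [mul_comm, pow_mul, A.ck, pow_two, A.tsq]

theorem zcomm (g : G) : Commute z g := A.zc g

theorem tc : t * c = c * t := by rw [← A.ck, ← pow_succ, ← pow_succ']

theorem tj : t * j = j * t := by rw [← A.jj, mul_assoc]

theorem rot_inj {i n i' n' : ℕ} (hi : i < 3) (hi' : i' < 3) (hn : n < 2 * k) (hn' : n' < 2 * k)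
    (e : z ^ i * c ^ n = z ^ i' * c ^ n') : i = i' ∧ n = n' := by
  have h : z ^ (i + (3 - i')) * c ^ (n + (2 * k - n')) = 1 := by
    have e1 : z ^ i' * z ^ (3 - i') = 1 := by rw [← pow_add, Nat.add_sub_cancel' hi'.le, A.z3]
    have e2 : c ^ n' * c ^ (2 * k - n') = 1 := by rw [← pow_add, Nat.add_sub_cancel' hn'.le, A.c2k]
    rw [pow_add, pow_add, ← mul_assoc, mul_assoc (z ^ i), ((A.zcomm (c ^ n)).pow_left _).eq, ← mul_assoc, e,
      mul_assoc (z ^ i'), ← ((A.zcomm (c ^ n')).pow_left _).eq, ← mul_assoc, e1, one_mul, e2]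
  obtain ⟨⟨a, ha⟩, ⟨b, hb⟩⟩ := A.ord _ _ h
  constructor
  · omega
  · have : b = 1 := by nlinarith [Nat.sub_add_cancel hn'.le]
    rw [this] at hb
    omega

theorem reduce (i n : ℕ) : z ^ i * c ^ n = z ^ (i % 3) * c ^ (n % (2 * k)) := by
  rw [← pow_eq_pow_mod i A.z3, ← pow_eq_pow_mod n A.c2k]

theorem t_eq : t = z ^ 0 * c ^ k := by rw [pow_zero, one_mul, A.ck]

theorem t_ne : t ≠ 1 := fun e => by
  have := A.kpos
  obtain ⟨-, h⟩ := A.ord 0 k (by rw [pow_zero, one_mul, A.ck, e])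
  exact absurd (Nat.le_of_dvd A.kpos h) (by omega)

theorem j_pow (n : ℕ) : j * c ^ n = c⁻¹ ^ n * t ^ n * j := by
  have hct : Commute c⁻¹ t := (show Commute c t from A.tc.symm).inv_left
  induction n with
  | zero => simp
  | succ n ih =>
    rw [pow_succ, ← mul_assoc, ih, mul_assoc, A.jc]
    calc c⁻¹ ^ n * t ^ n * (c⁻¹ * t * j) = c⁻¹ ^ n * (t ^ n * c⁻¹) * t * j := by simp only [mul_assoc]
      _ = _ := by rw [← (hct.pow_right n).eq, pow_succ, pow_succ]; simp only [mul_assoc]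

theorem rot_of_comm_j {n : ℕ} (h : j * c ^ n = c ^ n * j) : k ∣ n := by
  rw [A.j_pow] at h
  have e : t ^ n = c ^ n * c ^ n := by
    calc t ^ n = c ^ n * (c⁻¹ ^ n * t ^ n) := by rw [← mul_assoc, inv_pow, mul_inv_cancel, one_mul]
      _ = _ := by rw [mul_right_cancel h]
  have e1 : z ^ 0 * c ^ (n + n + k * n) = 1 := by
    rw [pow_zero, one_mul, pow_add, pow_add, ← e, pow_mul, A.ck, ← pow_add, ← two_mul, pow_mul, pow_two, A.tsq, one_pow]
  obtain ⟨-, hd⟩ := A.ord _ _ e1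
  obtain ⟨q, hq⟩ := A.four
  rw [hq, show n + n + 4 * q * n = 2 * (n * (2 * q + 1)) by ring] at hd
  rw [hq]
  refine Nat.Coprime.dvd_of_dvd_mul_right (Nat.Coprime.mul_left ?_ ?_) ((Nat.mul_dvd_mul_iff_left two_pos).1 hd)
  · exact Nat.Coprime.pow_left 2 (Nat.coprime_two_left.2 (odd_two_mul_add_one q))
  · simp

omit A in
theorem cent_t {g : G} : g ∈ Subgroup.centralizer {t} ↔ g * t = t * g := Subgroup.mem_centralizer_singleton_iff

theorem rot_t (i n : ℕ) : z ^ i * c ^ n * t = t * (z ^ i * c ^ n) :=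
  ((((A.zcomm t).pow_left i).mul_left ((show Commute c t from A.tc.symm).pow_left n))).eq

theorem refl_t (i n : ℕ) : z ^ i * c ^ n * j * t = t * (z ^ i * c ^ n * j) := by
  rw [mul_assoc, ← A.tj, ← mul_assoc, A.rot_t, mul_assoc]

theorem card_C : Nat.card (Subgroup.centralizer ({t} : Set G)) = 12 * k := by
  let f : Fin 3 × Fin (2 * k) × Fin 2 → Subgroup.centralizer ({t} : Set G) := fun q =>
    ⟨z ^ q.1.1 * c ^ q.2.1.1 * j ^ q.2.2.1, cent_t.2 (by
      obtain ⟨i, n, b⟩ := q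
      fin_cases b
      · simpa using A.rot_t i n
      · simpa using A.refl_t i n)⟩
  have hb : Function.Bijective f := by
    constructor
    · rintro ⟨i, n, b⟩ ⟨i', n', b'⟩ e
      have e' := congrArg Subtype.val e
      have mixed : ∀ {a d a' d' : ℕ}, a' < 3 → d' < 2 * k → z ^ a * c ^ d ≠ z ^ a' * c ^ d' * j := by
        intro a d a' d' ha hd e
        refine A.jnot (3 - a' + a) (2 * k - d' + d) ?_
        calc z ^ (3 - a' + a) * c ^ (2 * k - d' + d) = z ^ (3 - a') * c ^ (2 * k - d') * (z ^ a * c ^ d) := by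
              rw [pow_add, pow_add, mul_assoc, ← mul_assoc (z ^ a), ((A.zcomm _).pow_left a).eq]
              simp only [mul_assoc]
          _ = _ := by
            rw [e, ← mul_assoc, ← mul_assoc, mul_assoc (z ^ (3 - a')), ← ((A.zcomm _).pow_left a').eq, ← mul_assoc,
              ← pow_add, Nat.sub_add_cancel ha.le, A.z3, one_mul, ← pow_add, Nat.sub_add_cancel hd.le, A.c2k, one_mul]
      fin_cases b <;> fin_cases b' <;> simp [f] at e'
      · obtain ⟨h1, h2⟩ := A.rot_inj i.2 i'.2 n.2 n'.2 e'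
        simp [Fin.ext_iff, h1, h2]
      · exact absurd e' (mixed i'.2 n'.2)
      · exact absurd e'.symm (mixed i.2 n.2)
      · obtain ⟨h1, h2⟩ := A.rot_inj i.2 i'.2 n.2 n'.2 e'
        simp [Fin.ext_iff, h1, h2]
    · rintro ⟨g, hg⟩
      have := A.kpos
      obtain ⟨i, n, e | e⟩ := A.cover g (cent_t.1 hg)
      · refine ⟨(⟨i % 3, Nat.mod_lt _ (by norm_num)⟩, ⟨n % (2 * k), Nat.mod_lt _ (by omega)⟩, 0), Subtype.ext ?_⟩
        show z ^ (i % 3) * c ^ (n % (2 * k)) * j ^ 0 = g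
        rw [pow_zero, mul_one, e, ← A.reduce]
      · refine ⟨(⟨i % 3, Nat.mod_lt _ (by norm_num)⟩, ⟨n % (2 * k), Nat.mod_lt _ (by omega)⟩, 1), Subtype.ext ?_⟩
        show z ^ (i % 3) * c ^ (n % (2 * k)) * j ^ 1 = g
        rw [pow_one, e, ← A.reduce]
  rw [← Nat.card_congr (Equiv.ofBijective f hb)]
  simp [Nat.card_prod]
  ring

/-- The centraliser of a rotation that is no multiple of `t`. -/
theorem cent_rot {i n : ℕ} (hn : ¬ k ∣ n) {g : G} (hg : g * (z ^ i * c ^ n) = z ^ i * c ^ n * g) :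
    ∃ a b : ℕ, g = z ^ a * c ^ b := by
  obtain ⟨a, b, e | e⟩ := A.cover g (A.fit i n g hn hg)
  · exact ⟨a, b, e⟩
  · refine absurd (A.rot_of_comm_j ?_) hn
    have hz : ∀ l : ℕ, ∀ y : G, Commute (z ^ l) y := fun l y => (A.zcomm y).pow_left l
    have h1 : Commute g (c ^ n) := by
      have h' : Commute g (z ^ i * c ^ n) := hg
      have := h'.mul_right ((hz i g).symm.inv_right)
      rwa [(hz i (c ^ n)).eq, mul_inv_cancel_right] at this
    have h2 : Commute (z ^ a * c ^ b) (c ^ n) := (hz a _).mul_left (Commute.pow_pow_self c b n)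
    have h3 := h2.inv_left.mul_left h1
    rwa [e, inv_mul_cancel_left] at h3

theorem inv_rot {i n : ℕ} (h : (z ^ i * c ^ n) * (z ^ i * c ^ n) = 1) :
    z ^ i * c ^ n = 1 ∨ z ^ i * c ^ n = t := by
  have e : (z ^ i * c ^ n) * (z ^ i * c ^ n) = z ^ (2 * i) * c ^ (2 * n) := by
    rw [mul_assoc, ← mul_assoc (c ^ n), ← ((A.zcomm (c ^ n)).pow_left i).eq, two_mul, two_mul, pow_add, pow_add]
    simp only [mul_assoc]
  rw [e] at h
  obtain ⟨h1, h2⟩ := A.ord _ _ h
  obtain ⟨a, rfl⟩ : 3 ∣ i := (Nat.Coprime.dvd_of_dvd_mul_left (by norm_num) h1)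
  obtain ⟨b, rfl⟩ := (Nat.mul_dvd_mul_iff_left two_pos).1 h2
  rw [pow_mul, A.z3, one_pow, one_mul, pow_mul, A.ck]
  rcases Nat.even_or_odd' b with ⟨q, rfl | rfl⟩
  · left; rw [pow_mul, pow_two, A.tsq, one_pow]
  · right; rw [pow_succ, pow_mul, pow_two, A.tsq, one_pow, one_mul]

/-- Conjugation by rotations moves reflections by steps of `k + 2`. -/
theorem shift (n m : ℕ) : ∃ u, u * t = t * u ∧ u * (c ^ n * j) * u⁻¹ = c ^ (n + m * (k + 2)) * j := by
  refine ⟨c ^ m, by simpa using A.rot_t 0 m, ?_⟩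
  induction m with
  | zero => simp
  | succ m ih =>
    have e1 : j * c⁻¹ = c * t * j := by
      have h := A.jc
      calc j * c⁻¹ = c * t * (c⁻¹ * t * j) * c⁻¹ := by
            rw [mul_assoc c⁻¹, mul_assoc c t, ← mul_assoc t c⁻¹, ← (show Commute c t from A.tc.symm).inv_left.eq,
              mul_assoc c⁻¹, ← mul_assoc t t, A.tsq, one_mul, mul_inv_cancel_left]
        _ = _ := by rw [← h]; group
    calc c ^ (m + 1) * (c ^ n * j) * (c ^ (m + 1))⁻¹ = c * (c ^ m * (c ^ n * j) * (c ^ m)⁻¹) * c⁻¹ := by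
          rw [pow_succ']; group
      _ = c * (c ^ (n + m * (k + 2)) * (j * c⁻¹)) := by rw [ih]; group
      _ = _ := by
        rw [e1, ← A.ck, show n + (m + 1) * (k + 2) = (n + m * (k + 2) + 1) + (1 + k) by ring, pow_add c (n + m * (k + 2) + 1) (1 + k), pow_succ c (n + m * (k + 2)), pow_add c 1 k,
          pow_one, ← mul_assoc c (c ^ (n + m * (k + 2))), (Commute.self_pow c _).eq]
        simp only [mul_assoc]

theorem refl_class (n : ℕ) : ∃ u, u * t = t * u ∧
    (u * (c ^ n * j) * u⁻¹ = j ∨ u * (c ^ n * j) * u⁻¹ = c * j) := by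
  obtain ⟨q, hq⟩ := A.four
  have hkp := A.kpos
  have back : ∀ a m b : ℕ, a + m * (k + 2) = n + b * (2 * k) → ∃ u, u * t = t * u ∧ u * (c ^ n * j) * u⁻¹ = c ^ a * j := by
    intro a m b e
    obtain ⟨u, hu, hu'⟩ := A.shift a m
    refine ⟨u⁻¹, (show Commute u t from hu).inv_left.eq, ?_⟩
    have e2 : c ^ (a + m * (k + 2)) = c ^ n := by rw [e, pow_add, mul_comm b, pow_mul, A.c2k, one_pow, mul_one]
    rw [e2] at hu'
    rw [← hu']
    group
  have hmain : ∀ a, a ≤ n → 2 ∣ n - a → ∃ u, u * t = t * u ∧ u * (c ^ n * j) * u⁻¹ = c ^ a * j := by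
    intro a ha hd
    obtain ⟨d, hd⟩ := hd
    rcases Nat.even_or_odd' d with ⟨r, rfl | rfl⟩
    · refine back a (2 * r) r ?_
      have : n = a + 4 * r := by omega
      rw [this]; ring
    · refine back a (1 + 2 * (r + q)) (1 + r + q) ?_
      have : n = a + (4 * r + 2) := by omega
      rw [this, hq]; ring
  rcases Nat.even_or_odd' n with ⟨r, hr | hr⟩
  · obtain ⟨u, hu, hu'⟩ := hmain 0 (Nat.zero_le _) ⟨r, by omega⟩
    exact ⟨u, hu, Or.inl (by rw [hu', pow_zero, one_mul])⟩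
  · obtain ⟨u, hu, hu'⟩ := hmain 1 (by omega) ⟨r, by omega⟩
    exact ⟨u, hu, Or.inr (by rw [hu', pow_one])⟩

theorem cj_sq : (c * j) * (c * j) = 1 := by
  rw [mul_assoc, ← mul_assoc j, A.jc, mul_assoc (c⁻¹ * t), A.jj, mul_assoc c⁻¹, A.tsq, mul_one, mul_inv_cancel]

/-- An involution commuting with `t` is `t` or a conjugate of `c j` by an element commuting with `t`. -/
theorem inv_cent {v : G} (hv : v * v = 1) (hv1 : v ≠ 1) (hvt : v * t = t * v) :
    v = t ∨ ∃ u, v = u⁻¹ * (c * j) * u := by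
  obtain ⟨i, n, e | e⟩ := A.cover v hvt
  · rcases A.inv_rot (e ▸ hv) with e' | e'
    · exact absurd (e.trans e') hv1
    · exact Or.inl (e.trans e')
  · obtain ⟨u, hu, hu'⟩ := A.refl_class n
    have hz : ∀ y : G, Commute (z ^ i) y := fun y => (A.zcomm y).pow_left i
    have ev : u * v * u⁻¹ = z ^ i * (u * (c ^ n * j) * u⁻¹) := by
      calc u * v * u⁻¹ = (u * z ^ i) * (c ^ n * j) * u⁻¹ := by rw [e]; group
        _ = _ := by rw [(hz u).symm.eq]; group
    rcases hu' with hu' | hu' <;> rw [hu'] at ev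
    · exfalso
      have h4 : z ^ (2 * i) * c ^ k = 1 := by
        calc z ^ (2 * i) * c ^ k = (z ^ i * j) * (z ^ i * j) := by
              rw [mul_assoc, ← mul_assoc j, ← (hz j).eq, mul_assoc (z ^ i), A.jj, ← mul_assoc, ← pow_add, A.ck, two_mul]
          _ = _ := by rw [← ev, conj_mul, hv, mul_one, mul_inv_cancel]
      obtain ⟨-, hd⟩ := A.ord _ _ h4
      exact absurd (Nat.le_of_dvd A.kpos hd) (by have := A.kpos; omega)
    · have h4 : z ^ (2 * i) = 1 := by
        calc z ^ (2 * i) = (z ^ i * (c * j)) * (z ^ i * (c * j)) := by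
              rw [mul_assoc, ← mul_assoc (c * j), ← (hz (c * j)).eq, mul_assoc (z ^ i) (c * j), A.cj_sq, mul_one,
                two_mul, pow_add]
          _ = _ := by rw [← ev, conj_mul, hv, mul_one, mul_inv_cancel]
      obtain ⟨h5, -⟩ := A.ord (2 * i) 0 (by rw [h4, pow_zero, one_mul])
      obtain ⟨a, rfl⟩ : 3 ∣ i := Nat.Coprime.dvd_of_dvd_mul_left (by norm_num) h5
      rw [pow_mul, A.z3, one_pow, one_mul] at ev
      exact Or.inr ⟨u, by rw [← ev]; group⟩

/-- All involutions are conjugate. -/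
theorem one_class (cls : ∃ m, m * t * m⁻¹ = c * j) {s : G} (hs : s * s = 1) (hs1 : s ≠ 1) : ∃ m, m * t * m⁻¹ = s := by
  have inC : ∀ {v : G}, v * v = 1 → v ≠ 1 → v * t = t * v → ∃ m, m * t * m⁻¹ = v := by
    intro v hv hv1 hvt
    rcases A.inv_cent hv hv1 hvt with rfl | ⟨u, rfl⟩
    · exact ⟨1, by group⟩
    · obtain ⟨m, hm⟩ := cls
      exact ⟨u⁻¹ * m, by rw [← hm]; group⟩
  have sinv : s⁻¹ = s := inv_eq_of_mul_eq_one_right hs
  have tinv : t⁻¹ = t := inv_eq_of_mul_eq_one_right A.tsq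
  set w := s * t with hw
  have hsw : s * w * s = w⁻¹ := by
    rw [hw, mul_inv_rev, tinv, sinv, ← mul_assoc s s, hs, one_mul]
  have htw : t * w * t = w⁻¹ := by
    rw [hw, mul_inv_rev, tinv, sinv, mul_assoc, mul_assoc s, A.tsq, mul_one]
  have powconj : ∀ {v : G}, v * v = 1 → v * w * v = w⁻¹ → ∀ n : ℕ, v * w ^ n * v = w⁻¹ ^ n := by
    intro v hv hv' n
    have h' : v * w * v⁻¹ = w⁻¹ := by rw [inv_eq_of_mul_eq_one_right hv]; exact hv'
    rw [← h', conj_pow, inv_eq_of_mul_eq_one_right hv]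
  rcases Nat.even_or_odd' (orderOf w) with ⟨r, hr | hr⟩
  · -- an involution commuting with both
    have hr0 : r ≠ 0 := fun e => by
      have := orderOf_pos w
      omega
    have hv2 : w ^ r * w ^ r = 1 := by rw [← pow_add, ← two_mul, ← hr, pow_orderOf_eq_one]
    have hv1 : w ^ r ≠ 1 := fun e => by
      have := Nat.le_of_dvd (by omega) (orderOf_dvd_of_pow_eq_one e)
      omega
    have fixed : ∀ {v : G}, v * v = 1 → v * w * v = w⁻¹ → v * w ^ r = w ^ r * v := by
      intro v hv hv'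
      have := powconj hv hv' r
      rw [inv_pow, inv_eq_of_mul_eq_one_right hv2] at this
      calc v * w ^ r = v * w ^ r * (v * v) := by rw [hv, mul_one]
        _ = _ := by rw [← mul_assoc, this]
    obtain ⟨m, hm⟩ := inC hv2 hv1 (fixed A.tsq htw).symm
    have hs' : (m⁻¹ * s * m) * t = t * (m⁻¹ * s * m) := by
      calc m⁻¹ * s * m * t = m⁻¹ * (s * (m * t * m⁻¹)) * m := by group
        _ = m⁻¹ * ((m * t * m⁻¹) * s) * m := by rw [hm, fixed hs hsw]
        _ = _ := by group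
    have hsq' : (m⁻¹ * s * m) * (m⁻¹ * s * m) = 1 := by
      calc (m⁻¹ * s * m) * (m⁻¹ * s * m) = m⁻¹ * (s * s) * m := by group
        _ = 1 := by rw [hs]; group
    obtain ⟨m', hm'⟩ := inC hsq' (fun e => hs1 (by
      calc s = m * (m⁻¹ * s * m) * m⁻¹ := by group
        _ = 1 := by rw [e]; group)) hs'
    refine ⟨m * m', ?_⟩
    calc m * m' * t * (m * m')⁻¹ = m * (m' * t * m'⁻¹) * m⁻¹ := by group
      _ = s := by rw [hm']; group
  · -- conjugate
    refine ⟨w ^ (r + 1), ?_⟩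
    have e1 : t * (w ^ (r + 1))⁻¹ = w ^ (r + 1) * t := by
      have := powconj A.tsq htw (r + 1)
      rw [inv_pow] at this
      calc t * (w ^ (r + 1))⁻¹ = t * (t * w ^ (r + 1) * t) := by rw [this]
        _ = _ := by rw [← mul_assoc, ← mul_assoc, A.tsq, one_mul]
    rw [mul_assoc, e1, ← mul_assoc, ← pow_add, show r + 1 + (r + 1) = 2 * r + 1 + 1 by ring, pow_succ, ← hr,
      pow_orderOf_eq_one, one_mul, hw, mul_assoc, A.tsq, mul_one]

/-- The elements counted by hand. -/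
def Cov (k : ℕ) (z c j x g : G) : Prop :=
  (∃ i, g = z ^ i) ∨ g ∈ cl ({x} : Set G) ∨ g ∈ cl {g | ∃ i < 3, g = z ^ i * j} ∨
    g ∈ cl {g | ∃ i < 3, ∃ n, 0 < n ∧ n < 2 * k ∧ g = z ^ i * c ^ n}

/-- An element commuting with an involution is covered. -/
theorem cov_of_comm (cls : ∃ m, m * t * m⁻¹ = c * j) {g s : G} (hs : s * s = 1) (hs1 : s ≠ 1) (h : g * s = s * g) : Cov k z c j x g := by
  obtain ⟨m, hm⟩ := A.one_class cls hs hs1
  have hg : (m⁻¹ * g * m) * t = t * (m⁻¹ * g * m) := by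
    calc m⁻¹ * g * m * t = m⁻¹ * (g * (m * t * m⁻¹)) * m := by group
      _ = m⁻¹ * ((m * t * m⁻¹) * g) * m := by rw [hm, h]
      _ = _ := by group
  have eg : g = m * (m⁻¹ * g * m) * m⁻¹ := by group
  have hz : ∀ (i : ℕ) (y : G), Commute (z ^ i) y := fun i y => (A.zcomm y).pow_left i
  have hk := A.kpos
  have i3 : ∀ i : ℕ, i % 3 < 3 := fun i => Nat.mod_lt _ (by norm_num)
  obtain ⟨i, n, e | e⟩ := A.cover _ hg
  · rw [A.reduce] at e
    rcases Nat.eq_zero_or_pos (n % (2 * k)) with h0 | h0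
    · left
      refine ⟨i % 3, ?_⟩
      rw [eg, e, h0, pow_zero, mul_one, ← (hz _ m).eq, mul_inv_cancel_right]
    · exact Or.inr (Or.inr (Or.inr ⟨m, _, ⟨_, i3 i, _, h0, Nat.mod_lt _ (by omega), rfl⟩, by rw [eg, e]⟩))
  · rw [pow_eq_pow_mod i A.z3] at e
    obtain ⟨u, -, hu'⟩ := A.refl_class n
    rcases hu' with hu' | hu'
    · refine Or.inr (Or.inr (Or.inl ⟨m * u⁻¹, z ^ (i % 3) * j, ⟨_, i3 i, rfl⟩, ?_⟩))
      rw [eg, e]
      calc _ = m * (z ^ (i % 3) * (u⁻¹ * (u * (c ^ n * j) * u⁻¹) * u)) * m⁻¹ := by group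
        _ = m * ((z ^ (i % 3) * u⁻¹) * j * u) * m⁻¹ := by rw [hu']; group
        _ = _ := by rw [(hz _ u⁻¹).eq]; group
    · obtain ⟨l, hl⟩ := cls
      refine Or.inr (Or.inr (Or.inr ⟨m * u⁻¹ * l, z ^ (i % 3) * c ^ k,
        ⟨_, i3 i, k, hk, by omega, rfl⟩, ?_⟩))
      rw [A.ck, eg, e]
      calc _ = m * (z ^ (i % 3) * (c ^ n * j)) * m⁻¹ := by group
        _ = m * (z ^ (i % 3) * (u⁻¹ * (l * t * l⁻¹) * u)) * m⁻¹ := by rw [hl, ← hu']; group
        _ = m * ((z ^ (i % 3) * (u⁻¹ * l)) * t * (l⁻¹ * u)) * m⁻¹ := by group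
        _ = _ := by rw [(hz _ (u⁻¹ * l)).eq]; group

theorem cx_pow {g : G} (h : g * x = x * g) : g ^ 3 = 1 := by
  obtain ⟨i, l, rfl⟩ := A.cx g h
  rw [((A.zcomm (x ^ l)).pow_left i).mul_pow, ← pow_mul, ← pow_mul, mul_comm i, mul_comm l, pow_mul, pow_mul, A.z3,
    A.x3, one_pow, one_pow, mul_one]

theorem card_cx : Nat.card (Subgroup.centralizer ({x} : Set G)) = 9 := by
  let f : Fin 3 × Fin 3 → Subgroup.centralizer ({x} : Set G) := fun q =>
    ⟨z ^ q.1.1 * x ^ q.2.1, Subgroup.mem_centralizer_singleton_iff.2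
      (((A.zcomm x).pow_left _).mul_left (Commute.pow_self x _)).eq⟩
  have hb : Function.Bijective f := by
    constructor
    · rintro ⟨a, b⟩ ⟨a', b'⟩ e
      have e' : z ^ a.1 * x ^ b.1 = z ^ a'.1 * x ^ b'.1 := congrArg Subtype.val e
      have key : ∀ {a b a' b' : ℕ}, a < 3 → b < 3 → a' < 3 → b' < 3 → z ^ a * x ^ b = z ^ a' * x ^ b' → b = b' := by
        intro a b a' b' ha hb ha' hb' e
        have e1 : x ^ (b + (3 - b')) = z ^ (3 - a + a') := by
          have h1 : z ^ (3 - a) * z ^ a = 1 := by rw [← pow_add, Nat.sub_add_cancel ha.le, A.z3]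
          have h2 : x ^ b' * x ^ (3 - b') = 1 := by rw [← pow_add, Nat.add_sub_cancel' hb'.le, A.x3]
          calc x ^ (b + (3 - b')) = z ^ (3 - a) * (z ^ a * x ^ b) * x ^ (3 - b') := by
                rw [← mul_assoc, h1, one_mul, pow_add]
            _ = _ := by rw [e, pow_add, ← mul_assoc, mul_assoc, h2, mul_one]
        rw [pow_eq_pow_mod _ A.x3] at e1
        by_contra hne
        have h0 : (b + (3 - b')) % 3 = 1 ∨ (b + (3 - b')) % 3 = 2 := by omega
        rcases h0 with h0 | h0 <;> rw [h0] at e1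
        · exact A.xne _ (pow_one x ▸ e1)
        · refine A.xne ((3 - a + a') + (3 - a + a')) ?_
          rw [pow_add, ← e1, ← pow_add, pow_eq_pow_mod _ A.x3, pow_one]
      have hb := key a.2 b.2 a'.2 b'.2 e'
      rw [hb] at e'
      have hzz := mul_right_cancel e'
      obtain ⟨h1, -⟩ := A.rot_inj a.2 a'.2 (show 0 < 2 * k from Nat.mul_pos two_pos A.kpos)
        (show 0 < 2 * k from Nat.mul_pos two_pos A.kpos) (show z ^ a.1 * c ^ 0 = z ^ a'.1 * c ^ 0 by rw [hzz])
      exact Prod.ext (Fin.ext h1) (Fin.ext hb)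
    · rintro ⟨g, hg⟩
      obtain ⟨i, l, e⟩ := A.cx g (Subgroup.mem_centralizer_singleton_iff.1 hg)
      refine ⟨(⟨i % 3, Nat.mod_lt _ (by norm_num)⟩, ⟨l % 3, Nat.mod_lt _ (by norm_num)⟩), Subtype.ext ?_⟩
      show z ^ (i % 3) * x ^ (l % 3) = g
      rw [e, ← pow_eq_pow_mod i A.z3, ← pow_eq_pow_mod l A.x3]
  rw [← Nat.card_congr (Equiv.ofBijective f hb)]
  simp [Nat.card_prod]

theorem cent_zj {i : ℕ} {g : G} : g * (z ^ i * j) = z ^ i * j * g ↔ g * j = j * g := by
  have hz : Commute (z ^ i) g := (A.zcomm g).pow_left i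
  rw [← mul_assoc, ← hz.eq, mul_assoc, mul_assoc (z ^ i) j g]
  exact mul_right_inj _

theorem card_cj : Nat.card (Subgroup.centralizer ({j} : Set G)) = 12 := by
  have hk := A.kpos
  obtain ⟨q, hq⟩ := A.four
  let f : Fin 3 × Fin 2 × Fin 2 → Subgroup.centralizer ({j} : Set G) := fun u =>
    ⟨z ^ u.1.1 * c ^ (k * u.2.1.1) * j ^ u.2.2.1, Subgroup.mem_centralizer_singleton_iff.2 (by
      have h1 : Commute (c ^ (k * u.2.1.1)) j := by
        rw [pow_mul, A.ck]; exact (show Commute t j from A.tj).pow_left _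
      exact ((((A.zcomm j).pow_left _).mul_left h1).mul_left (Commute.pow_self j _)).eq)⟩
  have hb : Function.Bijective f := by
    constructor
    · rintro ⟨a, b, d⟩ ⟨a', b', d'⟩ e
      have e' := congrArg Subtype.val e
      have bd : ∀ b : Fin 2, k * b.1 < 2 * k := fun b => by fin_cases b <;> simp <;> omega
      have hr : ∀ {a a' : Fin 3} {b b' : Fin 2}, z ^ a.1 * c ^ (k * b.1) = z ^ a'.1 * c ^ (k * b'.1) → a = a' ∧ b = b' := by
        intro a a' b b' h
        obtain ⟨h1, h2⟩ := A.rot_inj a.2 a'.2 (bd b) (bd b') h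
        exact ⟨Fin.ext h1, Fin.ext (Nat.eq_of_mul_eq_mul_left hk h2)⟩
      have mixed : ∀ {a d a' d' : ℕ}, a' < 3 → d' < 2 * k → z ^ a * c ^ d ≠ z ^ a' * c ^ d' * j := by
        intro a d a' d' ha hd e
        refine A.jnot (3 - a' + a) (2 * k - d' + d) ?_
        calc z ^ (3 - a' + a) * c ^ (2 * k - d' + d) = z ^ (3 - a') * c ^ (2 * k - d') * (z ^ a * c ^ d) := by
              rw [pow_add, pow_add, mul_assoc, ← mul_assoc (z ^ a), ((A.zcomm _).pow_left a).eq]
              simp only [mul_assoc]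
          _ = _ := by
            rw [e, ← mul_assoc, ← mul_assoc, mul_assoc (z ^ (3 - a')), ← ((A.zcomm _).pow_left a').eq, ← mul_assoc,
              ← pow_add, Nat.sub_add_cancel ha.le, A.z3, one_mul, ← pow_add, Nat.sub_add_cancel hd.le, A.c2k, one_mul]
      fin_cases d <;> fin_cases d' <;> simp [f] at e'
      · obtain ⟨rfl, rfl⟩ := hr e'; rfl
      · exact absurd e' (mixed a'.2 (bd b'))
      · exact absurd e'.symm (mixed a.2 (bd b))
      · obtain ⟨rfl, rfl⟩ := hr e'; rfl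
    · rintro ⟨g, hg⟩
      have hgj : Commute g j := Subgroup.mem_centralizer_singleton_iff.1 hg
      have hgt : g * t = t * g := by rw [← A.jj]; exact (hgj.mul_right hgj).eq
      have hz : ∀ l : ℕ, Commute (z ^ l) j := fun l => (A.zcomm j).pow_left l
      have fin : ∀ {i n : ℕ}, Commute (z ^ i * c ^ n) j →
          ∃ a : Fin 3, ∃ b : Fin 2, z ^ i * c ^ n = z ^ a.1 * c ^ (k * b.1) := by
        intro i n h
        have h1 : j * c ^ n = c ^ n * j := by
          have := (hz i).inv_left.mul_left h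
          rw [inv_mul_cancel_left] at this
          exact this.symm.eq
        obtain ⟨d, rfl⟩ := A.rot_of_comm_j h1
        refine ⟨⟨i % 3, Nat.mod_lt _ (by norm_num)⟩, ⟨d % 2, Nat.mod_lt _ (by norm_num)⟩, ?_⟩
        show z ^ i * c ^ (k * d) = z ^ (i % 3) * c ^ (k * (d % 2))
        rw [← pow_eq_pow_mod i A.z3, pow_mul, pow_mul, A.ck, ← pow_eq_pow_mod d (by rw [pow_two, A.tsq] : t ^ 2 = 1)]
      obtain ⟨i, n, e | e⟩ := A.cover g hgt
      · obtain ⟨a, b, e'⟩ := fin (e ▸ hgj)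
        exact ⟨(a, b, 0), Subtype.ext (by simp [f, e, e'])⟩
      · obtain ⟨a, b, e'⟩ := fin (i := i) (n := n) (by
          have := hgj.mul_left (Commute.refl j).inv_left
          rwa [e, mul_inv_cancel_right] at this)
        exact ⟨(a, b, 1), Subtype.ext (by simp [f, e, e'])⟩
  rw [← Nat.card_congr (Equiv.ofBijective f hb)]
  simp [Nat.card_prod]

/-- The elements that are not covered. -/
def Rest (k : ℕ) (z c j x : G) : Set G := {g | ¬ Cov k z c j x g}

/-- The number of uncovered elements. -/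
theorem rest_card : 36 * k * Nat.card (Rest k z c j x) + 108 * k = Nat.card G * (5 * k + 9) := by
  classical
  haveI := Fintype.ofFinite G
  have hk := A.kpos
  have hz : ∀ (i : ℕ) (y : G), Commute (z ^ i) y := fun i y => (A.zcomm y).pow_left i
  set Sx : Set G := {x}
  set Sj : Set G := {g | ∃ i < 3, g = z ^ i * j} with hSj
  set Sc : Set G := {g | ∃ i < 3, ∃ n, 0 < n ∧ n < 2 * k ∧ g = z ^ i * c ^ n} with hSc
  set Z : Set G := {g | ∃ i, g = z ^ i} with hZ
  have zconj : ∀ (m : G) (i : ℕ) (g : G), m * (z ^ i * g) * m⁻¹ = z ^ i * (m * g * m⁻¹) := fun m i g => by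
    rw [← mul_assoc, ← (hz i m).eq]; group
  -- scalars
  have cardZ : Nat.card Z = 3 := by
    let f : Fin 3 → Z := fun a => ⟨z ^ a.1, a.1, rfl⟩
    have hb : Function.Bijective f := ⟨fun a b e => Fin.ext (A.rot_inj a.2 b.2 (show 0 < 2 * k by omega)
        (show 0 < 2 * k by omega) (show z ^ a.1 * c ^ 0 = z ^ b.1 * c ^ 0 by
          rw [show z ^ a.1 = z ^ b.1 from congrArg Subtype.val e])).1,
      fun ⟨g, i, e⟩ => ⟨⟨i % 3, Nat.mod_lt _ (by norm_num)⟩, Subtype.ext (by
        show z ^ (i % 3) = g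
        rw [e, ← pow_eq_pow_mod i A.z3])⟩⟩
    rw [← Nat.card_congr (Equiv.ofBijective f hb), Nat.card_fin]
  have cardSj : Nat.card Sj = 3 := by
    let f : Fin 3 → Sj := fun a => ⟨z ^ a.1 * j, a.1, a.2, rfl⟩
    have hb : Function.Bijective f := ⟨fun a b e => Fin.ext (A.rot_inj a.2 b.2 (show 0 < 2 * k by omega)
        (show 0 < 2 * k by omega) (show z ^ a.1 * c ^ 0 = z ^ b.1 * c ^ 0 by
          rw [mul_right_cancel (congrArg Subtype.val e)])).1,
      fun ⟨g, i, hi, e⟩ => ⟨⟨i, hi⟩, Subtype.ext e.symm⟩⟩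
    rw [← Nat.card_congr (Equiv.ofBijective f hb), Nat.card_fin]
  have cardSc : Nat.card Sc + 3 = 6 * k := by
    let f : Fin 3 × Fin (2 * k - 1) → Sc := fun u =>
      ⟨z ^ u.1.1 * c ^ (u.2.1 + 1), u.1.1, u.1.2, u.2.1 + 1, by omega, by have := u.2.2; omega, rfl⟩
    have hb : Function.Bijective f := ⟨fun u v e => by
        obtain ⟨h1, h2⟩ := A.rot_inj u.1.2 v.1.2 (show u.2.1 + 1 < 2 * k by have := u.2.2; omega)
          (show v.2.1 + 1 < 2 * k by have := v.2.2; omega) (congrArg Subtype.val e)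
        exact Prod.ext (Fin.ext h1) (Fin.ext (by omega)),
      fun ⟨g, i, hi, n, h0, hn, e⟩ => ⟨(⟨i, hi⟩, ⟨n - 1, by omega⟩), Subtype.ext (by
        show z ^ i * c ^ (n - 1 + 1) = g
        rw [e, Nat.sub_add_cancel h0])⟩⟩
    rw [← Nat.card_congr (Equiv.ofBijective f hb), Nat.card_prod, Nat.card_fin, Nat.card_fin]
    omega
  have clx : Nat.card (cl Sx) * 9 = Nat.card G := by
    rw [← A.card_cx, card_cl (H := Subgroup.centralizer ({x} : Set G))]
    · simp [Sx]
    · rintro m hm s (hs : s = x)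
      subst s
      show _ = _
      rw [Subgroup.mem_centralizer_singleton_iff.1 hm, mul_inv_cancel_right]
    · rintro m s (hs : s = x) (hm : _ = _)
      subst s
      exact Subgroup.mem_centralizer_singleton_iff.2 (mul_inv_eq_iff_eq_mul.1 hm)
  have clj : Nat.card (cl Sj) * 12 = Nat.card G * 3 := by
    rw [← A.card_cj, card_cl (H := Subgroup.centralizer ({j} : Set G)), cardSj]
    · rintro m hm _ ⟨i, hi, rfl⟩
      exact ⟨i, hi, by rw [zconj, Subgroup.mem_centralizer_singleton_iff.1 hm, mul_inv_cancel_right]⟩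
    · rintro m _ ⟨i, hi, rfl⟩ ⟨l, hl, e⟩
      rw [zconj] at e
      have h4 : z ^ (4 * i) = z ^ (4 * l) := by
        have j4 : j ^ 4 = 1 := by rw [show 4 = 2 + 2 from rfl, pow_add, pow_two, A.jj, A.tsq]
        have := congrArg (· ^ 4) e
        simp only [(hz i _).mul_pow, (hz l _).mul_pow, conj_pow, j4, mul_one, mul_inv_cancel] at this
        rwa [← pow_mul, ← pow_mul, mul_comm i, mul_comm l] at this
      rw [pow_eq_pow_mod (4 * i) A.z3, pow_eq_pow_mod (4 * l) A.z3] at h4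
      obtain ⟨h5, -⟩ := A.rot_inj (Nat.mod_lt _ (by norm_num)) (Nat.mod_lt _ (by norm_num))
        (show 0 < 2 * k by omega) (show 0 < 2 * k by omega)
        (show z ^ (4 * i % 3) * c ^ 0 = z ^ (4 * l % 3) * c ^ 0 by rw [h4])
      obtain rfl : i = l := by omega
      exact Subgroup.mem_centralizer_singleton_iff.2 (mul_inv_eq_iff_eq_mul.1 (mul_left_cancel e))
  have sc_t : ∀ {g : G}, g ∈ Sc → g * t = t * g := by
    rintro _ ⟨i, -, n, -, -, rfl⟩
    exact A.rot_t i n
  have small : ∀ {i n : ℕ}, 0 < n → n < 2 * k → k ∣ n → z ^ i * c ^ n = z ^ i * t := by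
    rintro i n h0 hn ⟨d, rfl⟩
    have : d = 1 := by nlinarith
    rw [this, mul_one, A.ck]
  have sq_rot : ∀ i n : ℕ, (z ^ i * c ^ n) * (z ^ i * c ^ n) = z ^ (2 * i) * c ^ (2 * n) := fun i n => by
    rw [mul_assoc, ← mul_assoc (c ^ n), ← (hz i (c ^ n)).eq, two_mul, two_mul, pow_add, pow_add]
    simp only [mul_assoc]
  have clc : Nat.card (cl Sc) * (12 * k) + 3 * Nat.card G = Nat.card G * (6 * k) := by
    rw [← A.card_C, card_cl (H := Subgroup.centralizer ({t} : Set G)), ← cardSc]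
    · ring
    · rintro m hm _ ⟨i, hi, n, h0, hn, rfl⟩
      obtain ⟨a, b, e | e⟩ := A.cover m (Subgroup.mem_centralizer_singleton_iff.1 hm)
      · refine ⟨i, hi, n, h0, hn, ?_⟩
        rw [zconj, e]
        have hc : Commute (z ^ a * c ^ b) (c ^ n) := (hz a _).mul_left (Commute.pow_pow_self c b n)
        rw [hc.eq, mul_inv_cancel_right]
      · -- reflections invert the rotations modulo `t`
        have e1 : m * c ^ n * m⁻¹ = c⁻¹ ^ n * t ^ n := by
          rw [mul_inv_eq_iff_eq_mul, e, mul_assoc, A.j_pow]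
          have hcc : Commute (z ^ a * c ^ b) (c⁻¹ ^ n * t ^ n) := by
            refine (hz a _).mul_left ?_
            exact ((((Commute.refl c).inv_right).pow_pow b n).mul_right ((show Commute c t from A.tc.symm).pow_pow b n))
          calc z ^ a * c ^ b * (c⁻¹ ^ n * t ^ n * j) = (z ^ a * c ^ b * (c⁻¹ ^ n * t ^ n)) * j := by group
            _ = _ := by rw [hcc.eq, mul_assoc]
        refine ⟨i, hi, ((2 * k - n) + k * n) % (2 * k), ?_, Nat.mod_lt _ (by omega), ?_⟩
        · by_contra h'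
          have h1 : m * c ^ n * m⁻¹ = 1 := by
            rw [e1, ← A.ck, ← pow_mul, inv_pow]
            have h2 : c ^ n * c ^ (2 * k - n) = 1 := by rw [← pow_add, Nat.add_sub_cancel' hn.le, A.c2k]
            rw [inv_eq_of_mul_eq_one_right h2, ← pow_add, pow_eq_pow_mod _ A.c2k, Nat.eq_zero_of_not_pos h', pow_zero]
          rw [mul_inv_eq_one, mul_eq_left] at h1
          obtain ⟨-, hd⟩ := A.ord 0 n (by rw [h1, pow_zero, one_mul])
          exact absurd (Nat.le_of_dvd h0 hd) (by omega)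
        · rw [zconj, e1, ← pow_eq_pow_mod _ A.c2k, pow_add, ← A.ck, ← pow_mul, inv_pow]
          congr 2
          exact inv_eq_of_mul_eq_one_right (by rw [← pow_add, Nat.add_sub_cancel' hn.le, A.c2k])
    · rintro m s hs' hms
      obtain ⟨i, hi, n, h0, hn, rfl⟩ := hs'
      obtain ⟨l, hl, q, q0, hq, e⟩ := hms
      rw [Subgroup.mem_centralizer_singleton_iff]
      rw [zconj] at e
      by_cases hkq : k ∣ q
      · by_cases hkn : k ∣ n
        · have e2 : z ^ i * (m * t * m⁻¹) = z ^ l * t := by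
            have h1 : c ^ n = t := mul_left_cancel (small (i := i) h0 hn hkn)
            rw [h1, small q0 hq hkq] at e
            exact e
          have h2 : z ^ (2 * i) = z ^ (2 * l) := by
            have h3 := congrArg (fun g => g * g) e2
            simp only [(hz i _).symm.mul_mul_mul_comm, (hz l t).symm.mul_mul_mul_comm, conj_mul, A.tsq, mul_one,
              mul_inv_cancel] at h3
            rwa [two_mul, two_mul, pow_add, pow_add]
          rw [pow_eq_pow_mod (2 * i) A.z3, pow_eq_pow_mod (2 * l) A.z3] at h2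
          obtain ⟨h5, -⟩ := A.rot_inj (Nat.mod_lt _ (by norm_num)) (Nat.mod_lt _ (by norm_num))
            (show 0 < 2 * k by omega) (show 0 < 2 * k by omega)
            (show z ^ (2 * i % 3) * c ^ 0 = z ^ (2 * l % 3) * c ^ 0 by rw [h2])
          obtain rfl : i = l := by omega
          exact mul_inv_eq_iff_eq_mul.1 (mul_left_cancel e2)
        · exfalso
          have e2 : m * (z ^ (2 * i) * c ^ (2 * n)) * m⁻¹ = z ^ (2 * l) * c ^ (2 * q) := by
            rw [← sq_rot, ← sq_rot, ← e, ← zconj, conj_mul]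
          obtain ⟨d, rfl⟩ := hkq
          rw [show 2 * (k * d) = 2 * k * d by ring, pow_mul c (2 * k), A.c2k, one_pow, mul_one, mul_inv_eq_iff_eq_mul,
            (hz (2 * l) m).eq, mul_right_inj] at e2
          have e3 : z ^ (2 * i + 2 * (2 * l)) * c ^ (2 * n) = 1 := by
            rw [pow_add, mul_assoc, (hz _ (c ^ (2 * n))).eq, ← mul_assoc, e2, ← pow_add,
              show 2 * l + 2 * (2 * l) = 3 * (2 * l) by ring, pow_mul, A.z3, one_pow]
          exact hkn ((Nat.mul_dvd_mul_iff_left two_pos).1 (A.ord _ _ e3).2)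
      · have hcomm : (m * t * m⁻¹) * (z ^ l * c ^ q) = z ^ l * c ^ q * (m * t * m⁻¹) := by
          rw [← e, ← zconj, conj_mul, conj_mul, A.rot_t]
        obtain ⟨a, b, e'⟩ := A.cent_rot hkq hcomm
        have h2 : (z ^ a * c ^ b) * (z ^ a * c ^ b) = 1 := by
          rw [← e', conj_mul, A.tsq, mul_one, mul_inv_cancel]
        rcases A.inv_rot h2 with e'' | e''
        · rw [← e', mul_inv_eq_one, mul_eq_left] at e''
          exact absurd e'' A.t_ne
        · rw [← e', mul_inv_eq_iff_eq_mul] at e''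
          exact e''
  -- disjointness
  have dz : ∀ {g : G}, g ∈ Z → g ∉ cl Sx ∧ g ∉ cl Sj ∧ g ∉ cl Sc := by
    rintro g ⟨i, rfl⟩
    refine ⟨?_, ?_, ?_⟩
    · rintro ⟨m, s, (hs : s = x), e⟩
      subst s
      refine A.xne i ?_
      rw [eq_mul_inv_iff_mul_eq, (hz i m).eq] at e
      exact (mul_left_cancel e).symm
    · rintro ⟨m, s, ⟨l, -, rfl⟩, e⟩
      rw [eq_mul_inv_iff_mul_eq, (hz i m).eq] at e
      refine A.jnot (i + (3 - l % 3)) 0 ?_
      rw [pow_zero, mul_one, pow_add, mul_left_cancel e, (hz l j).eq, mul_assoc, ← pow_add,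
        pow_eq_pow_mod _ A.z3, show (l + (3 - l % 3)) % 3 = 0 by omega, pow_zero, mul_one]
    · rintro ⟨m, s, ⟨l, hl, n, h0, hn, rfl⟩, e⟩
      rw [eq_mul_inv_iff_mul_eq, (hz i m).eq] at e
      have e1 := mul_left_cancel e
      obtain ⟨-, h2⟩ := A.rot_inj (Nat.mod_lt i (by norm_num : 3 > 0)) hl (show 0 < 2 * k by omega) hn
        (show z ^ (i % 3) * c ^ 0 = z ^ l * c ^ n by rw [pow_zero, mul_one, ← pow_eq_pow_mod i A.z3, e1])
      omega
  have dx : ∀ {g : G}, g ∈ cl Sx → g ∉ cl Sj ∧ g ∉ cl Sc := by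
    rintro g ⟨m, s, (hs : s = x), hg⟩
    subst s
    subst g
    have no : ∀ {n : G} {r : G}, r * t = t * r → m * x * m⁻¹ = n * r * n⁻¹ → False := by
      intro n r hr e
      have hc : (m⁻¹ * n * t * n⁻¹ * m) * x = x * (m⁻¹ * n * t * n⁻¹ * m) := by
        have ex : x = m⁻¹ * (n * r * n⁻¹) * m := by rw [← e]; group
        rw [ex]
        calc _ = m⁻¹ * n * (t * r) * n⁻¹ * m := by group
          _ = m⁻¹ * n * (r * t) * n⁻¹ * m := by rw [hr]
          _ = _ := by group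
      have h3 := A.cx_pow hc
      apply A.t_ne
      have h2 : t ^ 2 = 1 := by rw [pow_two, A.tsq]
      calc t = t ^ 3 := by rw [pow_succ, h2, one_mul]
        _ = n⁻¹ * m * (m⁻¹ * n * t * n⁻¹ * m) ^ 3 * (m⁻¹ * n) := by
          rw [pow_succ, pow_two, pow_succ, pow_two]; group
        _ = 1 := by rw [h3]; group
    constructor
    · rintro ⟨n, s, ⟨i, -, rfl⟩, e⟩
      exact no (by simpa using A.refl_t i 0) e
    · rintro ⟨n, s, hs, e⟩
      exact no (sc_t hs) e
  have dj : ∀ {g : G}, g ∈ cl Sj → g ∉ cl Sc := by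
    rintro _ ⟨m, s, ⟨i, hi, rfl⟩, rfl⟩ ⟨n, s, ⟨l, hl, q, q0, hq, rfl⟩, e⟩
    set w := n⁻¹ * m
    have e1 : z ^ i * (w * j * w⁻¹) = z ^ l * c ^ q := by
      rw [← zconj]
      calc w * (z ^ i * j) * w⁻¹ = n⁻¹ * (m * (z ^ i * j) * m⁻¹) * n := by simp only [w]; group
        _ = _ := by rw [e]; group
    have e2 : w * j * w⁻¹ = z ^ (3 - i + l) * c ^ q := by
      rw [pow_add, mul_assoc (z ^ (3 - i)), ← e1, ← mul_assoc, ← pow_add, Nat.sub_add_cancel hi.le, A.z3, one_mul]
    have e3 := congrArg (fun g => g * g) e2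
    simp only [conj_mul, A.jj, sq_rot] at e3
    rcases A.inv_rot (i := 2 * (3 - i + l)) (n := 2 * q) (by rw [← e3, conj_mul, A.tsq, mul_one, mul_inv_cancel]) with
      e4 | e4
    · rw [← e3, mul_inv_eq_one, mul_eq_left] at e4
      exact A.t_ne e4
    · rw [← e3, mul_inv_eq_iff_eq_mul] at e4
      obtain ⟨a, b, ew⟩ := A.cover w e4
      have hwj : ∃ a' b', j = z ^ a' * c ^ b' := by
        rcases ew with ew | ew
        · refine ⟨3 - i + l, q, ?_⟩
          have hc : Commute (z ^ a * c ^ b) (z ^ (3 - i + l) * c ^ q) :=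
            (hz a _).mul_left (((hz (3 - i + l) (c ^ b)).symm).mul_right (Commute.pow_pow_self c b q))
          rw [← ew] at hc
          have := hc.eq
          rw [← e2] at this
          have h' := this
          calc j = w⁻¹ * (w * j * w⁻¹) * w := by group
            _ = w⁻¹ * (w * (w * j * w⁻¹)) := by rw [this]; group
            _ = _ := by rw [e2]; group
        · refine ⟨3 - i + l, q, ?_⟩
          have hwj' : w * j * w⁻¹ = (z ^ a * c ^ b) * j * (z ^ a * c ^ b)⁻¹ := by rw [ew]; group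
          have hc : Commute (z ^ a * c ^ b) (z ^ (3 - i + l) * c ^ q) :=
            (hz a _).mul_left (((hz (3 - i + l) (c ^ b)).symm).mul_right (Commute.pow_pow_self c b q))
          calc j = (z ^ a * c ^ b)⁻¹ * (w * j * w⁻¹) * (z ^ a * c ^ b) := by rw [hwj']; group
            _ = _ := by rw [e2, mul_assoc, ← hc.eq]; group
      obtain ⟨a', b', ej⟩ := hwj
      exact A.jnot a' b' ej.symm
  -- the partition
  have d1 : Disjoint Z.toFinset (cl Sx).toFinset := Set.disjoint_toFinset.2 (Set.disjoint_left.2 fun g h => (dz h).1)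
  have d2 : Disjoint (Z.toFinset ∪ (cl Sx).toFinset) (cl Sj).toFinset := by
    rw [← Set.toFinset_union]
    exact Set.disjoint_toFinset.2 (Set.disjoint_left.2 fun g h => h.elim (fun a => (dz a).2.1) fun a => (dx a).1)
  have d3 : Disjoint (Z.toFinset ∪ (cl Sx).toFinset ∪ (cl Sj).toFinset) (cl Sc).toFinset := by
    rw [← Set.toFinset_union, ← Set.toFinset_union]
    exact Set.disjoint_toFinset.2 (Set.disjoint_left.2 fun g h => h.elim
      (fun h => h.elim (fun a => (dz a).2.2) fun a => (dx a).2) fun a => dj a)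
  have hcompl : (Rest k z c j x).toFinset =
      (Z.toFinset ∪ (cl Sx).toFinset ∪ (cl Sj).toFinset ∪ (cl Sc).toFinset)ᶜ := by
    ext g
    rw [Set.mem_toFinset]
    simp [Rest, Cov, Sx, Sj, Sc, Z, or_assoc, not_or]
  have cnt : Nat.card (Rest k z c j x) + (3 + Nat.card (cl Sx) + Nat.card (cl Sj) + Nat.card (cl Sc)) = Nat.card G := by
    have h := Finset.card_compl_add_card (Z.toFinset ∪ (cl Sx).toFinset ∪ (cl Sj).toFinset ∪ (cl Sc).toFinset)
    rw [← hcompl, Finset.card_union_of_disjoint d3, Finset.card_union_of_disjoint d2,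
      Finset.card_union_of_disjoint d1] at h
    simp only [Set.toFinset_card, ← Nat.card_eq_fintype_card, cardZ] at h
    exact h
  zify at clx clj clc cnt ⊢
  linear_combination (36 * (k : ℤ)) * cnt - 4 * (k : ℤ) * clx - 3 * (k : ℤ) * clj - 3 * clc

end Ax

end CfsgLib.HessianMax.Abs
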