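import Cfsg.Agent.Lib.HessianMax.Abs
import Cfsg.Agent.Lib.ZStar.Main
import Cfsg.Agent.Lib.PSolvable.Core

/-!
Two classes of involutions: a subgroup of index two in which the central involution is isolated.
-/

set_option autoImplicit false
set_option linter.unusedSectionVars false

namespace CfsgLib.HessianMax.Abs.Ax

variable {G : Type*} [Group G] [Finite G] {k : ℕ} {z t c j x : G} (A : Ax k z t c j x)
include A

/-- Membership in the subgroup of index two of the centraliser of `t`. -/
def Even' (z c j g : G) : Prop := ∃ i n e : ℕ, Even n ∧ g = z ^ i * c ^ n * j ^ e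

theorem j_pow_c (e n : ℕ) (hn : Even n) : ∃ n', Even n' ∧ j ^ e * c ^ n = c ^ n' * j ^ e := by
  induction e with
  | zero => exact ⟨n, hn, by simp⟩
  | succ e ih =>
    obtain ⟨m, hm, he⟩ := ih
    refine ⟨(2 * k - 1) * m + k * m, ((hm.mul_left _).add (hm.mul_left _)), ?_⟩
    have hi : c⁻¹ = c ^ (2 * k - 1) := inv_eq_of_mul_eq_one_right (by
      rw [← pow_succ', Nat.sub_add_cancel (by have := A.kpos; omega), A.c2k])
    rw [pow_succ', mul_assoc, he, ← mul_assoc, A.j_pow, hi, ← pow_mul, ← A.ck, ← pow_mul, ← pow_add, mul_assoc,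
      ← pow_succ']

theorem even'_mul {g g' : G} (h : Even' z c j g) (h' : Even' z c j g') : Even' z c j (g * g') := by
  obtain ⟨a, m, e, hm, rfl⟩ := h
  obtain ⟨b, n, f, hn, rfl⟩ := h'
  obtain ⟨n', hn', he⟩ := A.j_pow_c e n hn
  have hz : ∀ y : G, Commute (z ^ b) y := fun y => (A.zcomm y).pow_left b
  refine ⟨a + b, m + n', e + f, hm.add hn', ?_⟩
  calc z ^ a * c ^ m * j ^ e * (z ^ b * c ^ n * j ^ f) = z ^ a * (c ^ m * (j ^ e * z ^ b) * c ^ n * j ^ f) := by group
    _ = z ^ a * (c ^ m * z ^ b * (j ^ e * c ^ n) * j ^ f) := by rw [← (hz (j ^ e)).eq]; group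
    _ = z ^ a * (c ^ m * z ^ b * (c ^ n' * j ^ e) * j ^ f) := by rw [he]
    _ = z ^ a * (z ^ b * c ^ m * (c ^ n' * j ^ e) * j ^ f) := by rw [(hz (c ^ m)).eq]
    _ = _ := by simp only [pow_add, mul_assoc]

theorem even'_one : Even' z c j (1 : G) := ⟨0, 0, 0, Even.zero, by simp⟩

theorem even'_pow {g : G} (h : Even' z c j g) (n : ℕ) : Even' z c j (g ^ n) := by
  induction n with
  | zero => rw [pow_zero]; exact A.even'_one
  | succ n ih => rw [pow_succ]; exact A.even'_mul ih h

theorem even'_inv {g : G} (h : Even' z c j g) : Even' z c j g⁻¹ := by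
  rw [inv_eq_of_mul_eq_one_left (show g ^ (orderOf g - 1) * g = 1 by
    rw [← pow_succ, Nat.sub_add_cancel (orderOf_pos g), pow_orderOf_eq_one])]
  exact A.even'_pow h _

theorem jfac (e : ℕ) : ∃ q, j ^ e = c ^ (k * q) ∨ j ^ e = c ^ (k * q) * j := by
  rcases Nat.even_or_odd' e with ⟨q, rfl | rfl⟩
  · exact ⟨q, Or.inl (by rw [pow_mul, pow_two, A.jj, pow_mul c, A.ck])⟩
  · exact ⟨q, Or.inr (by rw [pow_succ, pow_mul, pow_two, A.jj, pow_mul c, A.ck])⟩

theorem even'_cj : ¬ Even' z c j (c * j) := by
  rintro ⟨i, n, e, hn, h⟩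
  obtain ⟨q, hq⟩ := A.four
  have hk := A.kpos
  have hz : ∀ (l : ℕ) (y : G), Commute (z ^ l) y := fun l y => (A.zcomm y).pow_left l
  obtain ⟨d, hd | hd⟩ := A.jfac e <;> rw [hd] at h
  · refine A.jnot i (2 * k - 1 + (n + k * d)) ?_
    rw [pow_add, ← mul_assoc, (hz i _).eq, mul_assoc, pow_add, ← mul_assoc (z ^ i), ← h, ← mul_assoc, ← pow_succ,
      Nat.sub_add_cancel (by omega), A.c2k, one_mul]
  · have e1 : c = z ^ i * c ^ (n + k * d) := by
      rw [pow_add, ← mul_assoc]
      exact mul_right_cancel (by rw [h, mul_assoc _ (c ^ (k * d))])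
    have e2 : z ^ i * c ^ (n + k * d + (2 * k - 1)) = 1 := by
      rw [pow_add, ← mul_assoc, ← e1, ← pow_succ', Nat.sub_add_cancel (by omega), A.c2k]
    obtain ⟨-, r, hr⟩ := A.ord _ _ e2
    obtain ⟨n', rfl⟩ := hn
    have h4 : k * d = 4 * (q * d) := by rw [hq]; ring
    have h5 : 2 * k * r = 2 * (k * r) := by ring
    omega

theorem even'_invol {v : G} (h : Even' z c j v) (hv : v * v = 1) (hv1 : v ≠ 1) : v = t := by
  obtain ⟨i, n, e, hn, rfl⟩ := h
  obtain ⟨d, hd | hd⟩ := A.jfac e <;> rw [hd] at hv hv1 ⊢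
  · have e := mul_assoc (z ^ i) (c ^ n) (c ^ (k * d))
    rw [e, ← pow_add] at hv hv1 ⊢
    exact (A.inv_rot hv).resolve_left hv1
  · exfalso
    obtain ⟨q, hq⟩ := A.four
    have hk := A.kpos
    set m := n + k * d with hm
    have hme : Even m := hn.add (Nat.even_mul.2 (Or.inl ⟨2 * q, by omega⟩))
    have hz : ∀ y : G, Commute (z ^ i) y := fun y => (A.zcomm y).pow_left i
    have h1 : (c ^ m * j) * (c ^ m * j) = t := by
      obtain ⟨b, hb⟩ := hme
      have htm : t ^ m = 1 := by rw [hb, ← two_mul, pow_mul, pow_two, A.tsq, one_pow]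
      calc (c ^ m * j) * (c ^ m * j) = c ^ m * (j * c ^ m) * j := by group
        _ = _ := by
          rw [A.j_pow, htm, mul_one, ← mul_assoc, inv_pow, mul_inv_cancel, one_mul, A.jj]
    have e1 : z ^ (2 * i) * c ^ k = 1 := by
      calc z ^ (2 * i) * c ^ k = (z ^ i * (c ^ m * j)) * (z ^ i * (c ^ m * j)) := by
            rw [(hz (c ^ m * j)).symm.mul_mul_mul_comm, h1, A.ck, two_mul, pow_add]
        _ = _ := by
          rw [← hv, hm, pow_add]
          simp only [mul_assoc]
    obtain ⟨-, hdd⟩ := A.ord _ _ e1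
    exact absurd (Nat.le_of_dvd hk hdd) (by omega)

/-- Two classes of involutions: there is a normal subgroup of odd order holding all commutators of `t` with the
elements of order three. -/
theorem exists_core (ncls : ¬ ∃ m, m * t * m⁻¹ = c * j) :
    ∃ N : Subgroup G, N.Normal ∧ Odd (Nat.card N) ∧ ∀ g : G, g ^ 3 = 1 → t * g * t⁻¹ * g⁻¹ ∈ N := by
  classical
  haveI := Fintype.ofFinite G
  haveI : Fact (Nat.Prime 2) := ⟨Nat.prime_two⟩
  have hk := A.kpos
  obtain ⟨q, hq⟩ := A.four
  set C : Subgroup G := Subgroup.centralizer {t}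
  let T : Subgroup G :=
    { carrier := {g | Even' z c j g}
      one_mem' := A.even'_one
      mul_mem' := fun {_ _} a b => A.even'_mul a b
      inv_mem' := fun {_} a => A.even'_inv a }
  have htC : ∀ {v : G}, v * v = 1 → v ≠ 1 → v ∈ C → v = t ∨ ∃ u, v = u⁻¹ * (c * j) * u := fun h1 h2 h3 =>
    A.inv_cent h1 h2 (Subgroup.mem_centralizer_singleton_iff.1 h3)
  have hconj : ∀ g : G, (g⁻¹ * t * g) * (g⁻¹ * t * g) = 1 ∧ g⁻¹ * t * g ≠ 1 := fun g => by
    refine ⟨by calc (g⁻¹ * t * g) * (g⁻¹ * t * g) = g⁻¹ * (t * t) * g := by group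
                _ = 1 := by rw [A.tsq]; group, fun e => A.t_ne ?_⟩
    calc t = g * (g⁻¹ * t * g) * g⁻¹ := by group
      _ = 1 := by rw [e]; group
  -- the class of `t` has odd size
  have hCodd : Odd C.index := by
    let σ : Equiv.Perm (G ⧸ C) := MulAction.toPerm t
    have hσ : σ ^ 2 = 1 := by
      ext q
      show t • t • q = q
      rw [smul_smul, A.tsq, one_smul]
    have hsupp : σ.support = Finset.univ.erase ((1 : G) : G ⧸ C) := by
      ext q
      induction q using QuotientGroup.induction_on with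
      | H g =>
        simp only [Equiv.Perm.mem_support, Finset.mem_erase, Finset.mem_univ, and_true, σ, MulAction.toPerm_apply,
          MulAction.Quotient.smul_coe, smul_eq_mul, ne_eq, QuotientGroup.eq, mul_one, not_iff_not]
        constructor
        · intro h
          have h' : g⁻¹ * t * g ∈ C := by
            have := inv_mem h
            rwa [mul_inv_rev, inv_inv, ← mul_assoc] at this
          rcases htC (hconj g).1 (hconj g).2 h' with e | ⟨u, e⟩
          · refine inv_mem (Subgroup.mem_centralizer_singleton_iff.2 ?_)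
            calc g * t = g * (g⁻¹ * t * g) := by rw [e]
              _ = t * g := by group
          · refine absurd ⟨u * g⁻¹, ?_⟩ ncls
            calc u * g⁻¹ * t * (u * g⁻¹)⁻¹ = u * (g⁻¹ * t * g) * u⁻¹ := by group
              _ = c * j := by rw [e]; group
        · intro h
          have hg : g * t = t * g := Subgroup.mem_centralizer_singleton_iff.1 (by simpa using inv_mem h)
          rw [mul_inv_rev, inv_eq_of_mul_eq_one_right A.tsq, mul_assoc, ← hg, ← mul_assoc, inv_mul_cancel, one_mul]
          exact Subgroup.mem_centralizer_singleton_iff.2 rfl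
    have h2 := Equiv.Perm.two_dvd_card_support hσ
    rw [hsupp, Finset.card_erase_of_mem (Finset.mem_univ _), Finset.card_univ, ← Nat.card_eq_fintype_card] at h2
    have hpos : 0 < C.index := Nat.pos_of_ne_zero C.index_ne_zero_of_finite
    obtain ⟨r, hr⟩ := h2
    exact ⟨r, by show Nat.card (G ⧸ C) = _; have : 0 < Nat.card (G ⧸ C) := hpos; omega⟩
  have hTC : T ≤ C := by
    rintro _ ⟨i, n, e, -, rfl⟩
    refine Subgroup.mem_centralizer_singleton_iff.2 ?_
    exact ((((A.zcomm t).pow_left i).mul_left ((show Commute c t from A.tc.symm).pow_left n)).mul_left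
      ((show Commute j t from A.tj.symm).pow_left e)).eq
  have hTi : T.relIndex C = 2 := by
    rw [Subgroup.relIndex_eq_two_iff]
    refine ⟨c * j, Subgroup.mem_centralizer_singleton_iff.2 (by simpa using A.refl_t 0 1), fun b hb => ?_⟩
    obtain ⟨i, n, e | e⟩ := A.cover b (Subgroup.mem_centralizer_singleton_iff.1 hb)
    all_goals
      rcases Nat.even_or_odd n with hn | hn
    · refine Or.inr ⟨⟨i, n, 0, hn, by rw [e, pow_zero, mul_one]⟩, fun h => A.even'_cj ?_⟩
      have := A.even'_mul (A.even'_inv (show Even' z c j b from ⟨i, n, 0, hn, by rw [e, pow_zero, mul_one]⟩)) h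
      rwa [inv_mul_cancel_left] at this
    · refine Or.inl ⟨⟨i, n + 1, 1, hn.add_one, by rw [e, pow_one, pow_succ]; simp only [mul_assoc]⟩, ?_⟩
      rintro ⟨l, m, f, hm, h⟩
      apply A.even'_cj
      have h1 : Even' z c j (b * (c * j)) :=
        ⟨i, n + 1, 1, hn.add_one, by rw [e, pow_one, pow_succ]; simp only [mul_assoc]⟩
      have := A.even'_mul (A.even'_inv (show Even' z c j b from ⟨l, m, f, hm, h⟩)) h1
      rwa [inv_mul_cancel_left] at this
    · refine Or.inr ⟨⟨i, n, 1, hn, by rw [e, pow_one]⟩, fun h => A.even'_cj ?_⟩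
      have := A.even'_mul (A.even'_inv (show Even' z c j b from ⟨i, n, 1, hn, by rw [e, pow_one]⟩)) h
      rwa [inv_mul_cancel_left] at this
    · have h1 : Even' z c j (b * (c * j)) := by
        refine ⟨i, n + (2 * k - 1) + k, 2, ?_, ?_⟩
        · obtain ⟨r, rfl⟩ := hn
          exact ⟨r + k + 2 * q, by omega⟩
        · rw [e, pow_add, pow_add, pow_two]
          have hi : c⁻¹ = c ^ (2 * k - 1) := inv_eq_of_mul_eq_one_right (by
            rw [← pow_succ', Nat.sub_add_cancel (by omega), A.c2k])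
          calc z ^ i * c ^ n * j * (c * j) = z ^ i * c ^ n * (j * c) * j := by group
            _ = _ := by rw [A.jc, hi, A.ck]; simp only [mul_assoc]
      refine Or.inl ⟨h1, fun h => A.even'_cj ?_⟩
      have := A.even'_mul (A.even'_inv h) h1
      rwa [inv_mul_cancel_left] at this
  have hTindex : T.index = 2 * C.index := by rw [← Subgroup.relIndex_mul_index hTC, hTi]
  -- the sign of the action on the cosets
  let act : G →* Equiv.Perm (G ⧸ T) := MulAction.toPermHom G (G ⧸ T)
  let φ : G →* ℤˣ := Equiv.Perm.sign.comp act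
  have hφs : φ (c * j) = -1 := by
    show Equiv.Perm.sign (act (c * j)) = -1
    have hfix : Fintype.card (Function.fixedPoints (act (c * j))) = 0 := by
      rw [Fintype.card_eq_zero_iff]
      refine ⟨fun ⟨q, hq⟩ => ?_⟩
      induction q using QuotientGroup.induction_on with
      | H g =>
        have h1 : g⁻¹ * (c * j) * g ∈ T := by
          have h0 := Function.mem_fixedPoints_iff.1 hq
          change ((c * j * g : G) : G ⧸ T) = (g : G ⧸ T) at h0
          have := QuotientGroup.eq.1 h0
          rw [mul_inv_rev, inv_eq_of_mul_eq_one_right A.cj_sq] at this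
          exact this
        have h2 : (g⁻¹ * (c * j) * g) * (g⁻¹ * (c * j) * g) = 1 := by
          calc (g⁻¹ * (c * j) * g) * (g⁻¹ * (c * j) * g) = g⁻¹ * ((c * j) * (c * j)) * g := by group
            _ = 1 := by rw [A.cj_sq]; group
        have h3 := A.even'_invol h1 h2 (fun e => A.even'_cj (by
          have : c * j = 1 := by
            calc c * j = g * (g⁻¹ * (c * j) * g) * g⁻¹ := by group
              _ = 1 := by rw [e]; group
          rw [this]; exact A.even'_one))
        exact ncls ⟨g, by rw [← h3]; group⟩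
    rw [Equiv.Perm.sign_of_pow_two_eq_one (by rw [← map_pow, pow_two, A.cj_sq, map_one]), hfix, Nat.sub_zero,
      ← Nat.card_eq_fintype_card, show Nat.card (G ⧸ T) = 2 * C.index from hTindex,
      Nat.mul_div_cancel_left _ two_pos, hCodd.neg_one_pow]
  have hφt : φ t = 1 := by
    rw [← A.jj, map_mul, ← pow_two]
    exact Int.units_sq _
  set K := φ.ker
  have hiso : Cfsg.IsIsolatedInvolution (⟨t, hφt⟩ : K) := by
    refine ⟨orderOf_eq_prime (Subtype.ext (by rw [Subgroup.coe_pow, pow_two]; exact A.tsq))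
      (fun e => A.t_ne (congrArg Subtype.val e)), fun g hg => Subtype.ext ?_⟩
    set v := (g : G) * t * (g : G)⁻¹
    have hv : v * v = 1 := by rw [conj_mul, A.tsq, mul_one, mul_inv_cancel]
    have hv1 : v ≠ 1 := fun e => A.t_ne (by simpa [v] using e)
    have hvt : v * t = t * v := (congrArg Subtype.val hg.eq).symm
    rcases A.inv_cent hv hv1 hvt with e | ⟨u, e⟩
    · exact e
    · exfalso
      have h1 : φ v = 1 := by rw [map_mul, map_mul, map_inv, hφt, mul_one, mul_inv_cancel]
      rw [e, map_mul, map_mul, map_inv, mul_right_comm, inv_mul_cancel, one_mul, hφs] at h1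
      exact absurd h1 (by decide)
  have hcore := CfsgLib.ZStar.commutatorsInCore_of_isolated hiso
  refine ⟨(Cfsg.pPrimeCore 2 K).map K.subtype, CfsgLib.PSolvable.normal_map_of_characteristic K _, ?_, fun g hg => ?_⟩
  · rw [Subgroup.card_map_of_injective K.subtype_injective]
    exact CfsgLib.ZStar.odd_card_core
  · have hg' : φ g = 1 := by
      have h1 : φ g ^ 3 = 1 := by rw [← map_pow, hg, map_one]
      rwa [pow_succ, Int.units_sq, one_mul] at h1
    exact Subgroup.mem_map_of_mem K.subtype (hcore ⟨g, hg'⟩)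

end CfsgLib.HessianMax.Abs.Ax
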