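import Mathlib

/-!
The arithmetic of the class count.
-/

set_option autoImplicit false

namespace CfsgLib.HessianMax

theorem count_small {p e k M : ℤ} (hp : 7 ≤ p) (he0 : 0 < e) (he : e ≤ 4) (hk : 4 ≤ k) (hM : 0 < M)
    (h : M * (p * e * (5 * k + 9) - 36 * k * (p - 1)) = 108 * k * p * e) : False := by
  have h1 : p * e * (5 * k + 9) ≤ p * 4 * (5 * k + 9) :=
    mul_le_mul_of_nonneg_right (mul_le_mul_of_nonneg_left he (by omega)) (by omega)
  have h2 : p * 4 * (5 * k + 9) < 36 * k * (p - 1) := by nlinarith
  have h3 : p * e * (5 * k + 9) - 36 * k * (p - 1) < 0 := by linarith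
  have h4 : 0 < 108 * k * p * e := by positivity
  nlinarith [mul_neg_of_pos_of_neg hM h3]

/-- The equation for the number of uncounted elements has one solution, excluded by a divisor five. -/
theorem count_big {p e f m : ℕ} (hpr : p.Prime) (hp : 7 ≤ p) (he : 5 ≤ e) (hdvd : e ∣ p - 1) (h4 : 4 ∣ e * f)
    (hf : 0 < f) (h : (m : ℤ) * ((f : ℤ) * (5 * p * e - 36 * p + 36) + 9 * p) = 9) : p = 7 ∧ 5 ∣ e * f := by
  have hm : 0 < m := Nat.pos_of_ne_zero (by rintro rfl; rw [Nat.cast_zero, zero_mul] at h; norm_num at h)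
  set r : ℤ := (f : ℤ) * (5 * p * e - 36 * p + 36) + 9 * p with hr
  have hmZ : (1 : ℤ) ≤ m := by exact_mod_cast hm
  have hrpos : 0 < r := by nlinarith
  have hr9 : r ≤ 9 := by nlinarith
  have hrm : r = 1 ∨ r = 3 ∨ r = 9 := by
    obtain ⟨rn, hrn⟩ : ∃ rn : ℕ, r = rn := ⟨r.toNat, by omega⟩
    have hd : rn ∣ 9 := ⟨m, by rw [hrn] at h; norm_cast at h; rw [mul_comm]; exact h.symm⟩
    have := (Nat.le_of_dvd (by norm_num) hd)
    clear_value r
    interval_cases rn <;> first | omega | (norm_num [hrn]; done) | exact absurd hd (by decide)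
  obtain ⟨q, hq⟩ := hdvd
  have hpq : p = e * q + 1 := by omega
  have hfZ : (1 : ℤ) ≤ f := by exact_mod_cast hf
  have hpZ : (7 : ℤ) ≤ p := by exact_mod_cast hp
  have he8 : e < 8 := by
    by_contra hc
    have heZ : (8 : ℤ) ≤ e := by exact_mod_cast not_lt.1 hc
    have h5 : (5 : ℤ) * p * 8 ≤ 5 * p * e := by nlinarith
    nlinarith
  interval_cases e
  · -- five
    exfalso
    push_cast at hr
    have hb : p ≤ 17 := by
      have : (0 : ℤ) ≤ (f - 1) * (11 * p - 36) := mul_nonneg (by omega) (by omega)
      have : (p : ℤ) ≤ 17 := by nlinarith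
      omega
    interval_cases p <;> first | omega | (norm_num at hpr)
  · -- six
    push_cast at hr
    rcases Nat.lt_or_ge p 13 with h13 | h13
    · interval_cases p <;> first | omega | (norm_num at hpr) | skip
    · exfalso
      have hb : p ≤ 23 := by
        by_contra hc
        have hpc : (24 : ℤ) ≤ p := by omega
        rcases Nat.lt_or_ge f 2 with f2 | f2
        · interval_cases f
          omega
        · have : (0 : ℤ) ≤ ((f : ℤ) - 2) * (6 * p - 36) := mul_nonneg (by omega) (by omega)
          nlinarith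
      interval_cases p <;> omega
  · -- seven
    exfalso
    push_cast at hr
    obtain ⟨f', rfl⟩ : 4 ∣ f := (Nat.Coprime.dvd_of_dvd_mul_left (by norm_num) h4)
    have hf10 : 10 ≤ 4 * f' := by
      by_contra hc
      have h9 : (4 * f' : ℤ) ≤ 9 := by omega
      push_cast at hr
      nlinarith
    obtain ⟨d, hd⟩ : ∃ d, 4 * f' = d + 9 := ⟨4 * f' - 9, by omega⟩
    have hpz : 36 < p := by
      by_contra hc
      have h36 : (p : ℤ) ≤ 36 := by omega
      have : (0 : ℤ) ≤ (4 * f' : ℤ) * (36 - p) := mul_nonneg (by omega) (by omega)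
      push_cast at hr
      nlinarith
    obtain ⟨s, hs⟩ : ∃ s, p = s + 36 := ⟨p - 36, by omega⟩
    have key : (d : ℤ) * s = 324 - r := by
      have h1 : (4 * f' : ℤ) = d + 9 := by exact_mod_cast hd
      have h2 : (p : ℤ) = s + 36 := by exact_mod_cast hs
      push_cast at hr
      rw [hr, h1, h2]
      ring
    rcases hrm with e' | e' | e' <;> rw [e'] at key <;> norm_num at key
    · have k' : d * s = 323 := by exact_mod_cast key
      have hdm : d ∈ Nat.divisors 323 := Nat.mem_divisors.2 ⟨⟨s, k'.symm⟩, by norm_num⟩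
      rw [show Nat.divisors 323 = {1, 17, 19, 323} from by decide +kernel] at hdm
      simp only [Finset.mem_insert, Finset.mem_singleton] at hdm
      rcases hdm with rfl | rfl | rfl | rfl <;> omega
    · have k' : d * s = 321 := by exact_mod_cast key
      have hdm : d ∈ Nat.divisors 321 := Nat.mem_divisors.2 ⟨⟨s, k'.symm⟩, by norm_num⟩
      rw [show Nat.divisors 321 = {1, 3, 107, 321} from by decide +kernel] at hdm
      simp only [Finset.mem_insert, Finset.mem_singleton] at hdm
      rcases hdm with rfl | rfl | rfl | rfl <;> omega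
    · have k' : d * s = 315 := by exact_mod_cast key
      have hdm : d ∈ Nat.divisors 315 := Nat.mem_divisors.2 ⟨⟨s, k'.symm⟩, by norm_num⟩
      rw [show Nat.divisors 315 = {1, 3, 5, 7, 9, 15, 21, 35, 45, 63, 105, 315} from by decide +kernel] at hdm
      simp only [Finset.mem_insert, Finset.mem_singleton] at hdm
      rcases hdm with rfl | rfl | rfl | rfl | rfl | rfl | rfl | rfl | rfl | rfl | rfl | rfl <;>
        first
          | omega
          | (have hp' : p = 141 := by omega
             rw [hp'] at hpr; norm_num at hpr)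
          | (have hp' : p = 57 := by omega
             rw [hp'] at hpr; norm_num at hpr)

end CfsgLib.HessianMax
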