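import Mathlib

/-!
Vocabulary for the maximality of the Hessian normaliser: transvections, blocks of shape one plus two, homologies.
-/

set_option autoImplicit false
set_option linter.unusedSectionVars false

namespace CfsgLib.HessianMax

open Matrix

variable {K : Type*} [Field K]

abbrev GL3 (K : Type*) [Field K] := GL (Fin 3) K

/-- A transvection. -/
def IsTv (g : Matrix (Fin 3) (Fin 3) K) : Prop := g ≠ 1 ∧ (g - 1) * (g - 1) = 0

/-- A group of matrices without transvections. -/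
def NoTv (S : Subgroup (GL3 K)) : Prop := ∀ g ∈ S, ¬ IsTv (g : Matrix (Fin 3) (Fin 3) K)

theorem NoTv.mono {S T : Subgroup (GL3 K)} (h : NoTv T) (hle : S ≤ T) : NoTv S := fun g hg => h g (hle hg)

/-- An element of p-power order has `g - 1` nilpotent of index at most three, hence order dividing p. -/
theorem cube_zero_of_ppow {p : ℕ} [hp : Fact p.Prime] [CharP K p] {g : Matrix (Fin 3) (Fin 3) K}
    {i : ℕ} (h : g ^ p ^ i = 1) : (g - 1) ^ 3 = 0 := by
  have h1 : (g - 1) ^ p ^ i = 0 := by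
    rw [sub_pow_char_pow_of_commute p i (Commute.one_right g), h, one_pow, sub_self]
  have hn : IsNilpotent (g - 1) := ⟨_, h1⟩
  have := Matrix.isNilpotent_charpoly_sub_pow_of_isNilpotent hn
  have hX : (g - 1).charpoly = Polynomial.X ^ 3 := by
    have h2 := this.eq_zero
    rwa [Fintype.card_fin, sub_eq_zero] at h2
  have h3 := Matrix.aeval_self_charpoly (g - 1)
  rwa [hX, map_pow, Polynomial.aeval_X] at h3

theorem pow_p_of_ppow {p : ℕ} [hp : Fact p.Prime] [CharP K p] (h3 : 3 ≤ p) {g : Matrix (Fin 3) (Fin 3) K}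
    {i : ℕ} (h : g ^ p ^ i = 1) : g ^ p = 1 := by
  have h1 := cube_zero_of_ppow h
  have h2 : (g - 1) ^ p = 0 := by rw [← Nat.sub_add_cancel h3, pow_add, h1, mul_zero]
  rwa [sub_pow_char_of_commute p (Commute.one_right g), one_pow, sub_eq_zero] at h2

/-- A splitting of the space into a plane and a line, given by matrices. -/
structure Blk (K : Type*) [Field K] where
  E : Matrix (Fin 3) (Fin 2) K
  D : Matrix (Fin 2) (Fin 3) K
  k : Fin 3 → K
  χ : Fin 3 → K
  DE : D * E = 1
  sum : E * D + vecMulVec k χ = 1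
  χk : χ ⬝ᵥ k = 1

namespace Blk

variable (b : Blk K)

theorem Dk : b.D *ᵥ b.k = 0 := by
  have h := congrArg (fun M => b.D *ᵥ (M *ᵥ b.k)) b.sum
  simp only [add_mulVec, one_mulVec, mulVec_add, mulVec_mulVec, vecMulVec_mulVec, b.χk] at h
  rw [← Matrix.mul_assoc, b.DE, Matrix.one_mul] at h
  simpa using h

theorem χE : b.χ ᵥ* b.E = 0 := by
  have h := congrArg (fun M => b.χ ᵥ* M ᵥ* b.E) b.sum
  simp only [vecMul_add, add_vecMul, vecMul_one, vecMul_vecMulVec, b.χk, one_smul, ← vecMul_vecMul] at h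
  rw [show b.χ ᵥ* b.E ᵥ* b.D ᵥ* b.E = b.χ ᵥ* b.E from by
    rw [vecMul_vecMul, b.DE, vecMul_one]] at h
  simpa using h

/-- The projector on the plane. -/
def prj : Matrix (Fin 3) (Fin 3) K := b.E * b.D

theorem one_sub_prj : 1 - b.prj = vecMulVec b.k b.χ := by rw [prj, sub_eq_iff_eq_add', b.sum]

/-- The matrix respects the splitting. -/
def Fits (g : Matrix (Fin 3) (Fin 3) K) : Prop := g * b.prj = b.prj * g

/-- The plane part. -/
def pl (g : Matrix (Fin 3) (Fin 3) K) : Matrix (Fin 2) (Fin 2) K := b.D * g * b.E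

/-- The line part. -/
def ln (g : Matrix (Fin 3) (Fin 3) K) : K := b.χ ⬝ᵥ (g *ᵥ b.k)

variable {b} {g h : Matrix (Fin 3) (Fin 3) K}

theorem fits_one : b.Fits (1 : Matrix (Fin 3) (Fin 3) K) := by rw [Fits, Matrix.one_mul, Matrix.mul_one]

theorem Fits.mul (hg : b.Fits g) (hh : b.Fits h) : b.Fits (g * h) := by
  rw [Fits] at *
  rw [Matrix.mul_assoc, hh, ← Matrix.mul_assoc, hg, Matrix.mul_assoc]

theorem Fits.inv {g : GL3 K} (hg : b.Fits (g : Matrix (Fin 3) (Fin 3) K)) :
    b.Fits ((g⁻¹ : GL3 K) : Matrix (Fin 3) (Fin 3) K) := by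
  rw [Fits] at *
  calc ((g⁻¹ : GL3 K) : Matrix (Fin 3) (Fin 3) K) * b.prj
      = ((g⁻¹ : GL3 K) : Matrix (Fin 3) (Fin 3) K) * (b.prj * (g : Matrix (Fin 3) (Fin 3) K)) *
          ((g⁻¹ : GL3 K) : Matrix (Fin 3) (Fin 3) K) := by
        simp only [Matrix.mul_assoc, ← Units.val_mul, mul_inv_cancel, Units.val_one, Matrix.mul_one]
    _ = _ := by
        rw [← hg]
        simp only [← Matrix.mul_assoc, ← Units.val_mul, inv_mul_cancel, Units.val_one, Matrix.one_mul]

theorem pl_one : b.pl 1 = 1 := by rw [pl, Matrix.mul_one, b.DE]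

theorem pl_mul (hh : b.Fits h) : b.pl (g * h) = b.pl g * b.pl h := by
  have e : h * b.E = b.prj * (h * b.E) := by
    calc h * b.E = h * b.prj * b.E := by
          rw [prj, Matrix.mul_assoc, Matrix.mul_assoc b.E, b.DE, Matrix.mul_one]
      _ = _ := by rw [hh, Matrix.mul_assoc]
  simp only [pl, Matrix.mul_assoc]
  rw [show b.E * (b.D * (h * b.E)) = h * b.E from by rw [← Matrix.mul_assoc]; exact e.symm]

theorem Fits.mulVec_k (hg : b.Fits g) : g *ᵥ b.k = b.ln g • b.k := by
  have h1 : g * vecMulVec b.k b.χ = vecMulVec b.k b.χ * g := by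
    rw [← b.one_sub_prj, Matrix.mul_sub, Matrix.sub_mul, Matrix.mul_one, Matrix.one_mul, hg]
  have h2 := congrArg (fun M => M *ᵥ b.k) h1
  simp only [← mulVec_mulVec, vecMulVec_mulVec, b.χk, op_smul_eq_smul, one_smul] at h2
  exact h2

theorem ln_one : b.ln 1 = 1 := by rw [ln, one_mulVec, b.χk]

theorem ln_mul (hh : b.Fits h) : b.ln (g * h) = b.ln g * b.ln h := by
  rw [ln, ln, ← mulVec_mulVec, hh.mulVec_k, mulVec_smul, dotProduct_smul, smul_eq_mul, mul_comm]

theorem pl_vec (v w : Fin 3 → K) : b.pl (vecMulVec v w) = vecMulVec (b.D *ᵥ v) (w ᵥ* b.E) := by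
  rw [pl, mul_vecMulVec, vecMulVec_mul]

theorem ln_vec (v w : Fin 3 → K) : b.ln (vecMulVec v w) = (b.χ ⬝ᵥ v) * (w ⬝ᵥ b.k) := by
  rw [ln, vecMulVec_mulVec, op_smul_eq_smul, dotProduct_smul, smul_eq_mul, mul_comm]

/-- A fitting matrix is determined by its two parts. -/
theorem Fits.decomp (hg : b.Fits g) : g = b.E * b.pl g * b.D + b.ln g • vecMulVec b.k b.χ := by
  calc g = g * (b.prj + vecMulVec b.k b.χ) := by rw [prj, b.sum, Matrix.mul_one]
    _ = _ := by
      rw [Matrix.mul_add, mul_vecMulVec, hg.mulVec_k, smul_vecMulVec]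
      congr 1
      calc g * b.prj = g * b.prj * b.prj := by
            rw [Matrix.mul_assoc, prj, Matrix.mul_assoc b.E b.D, ← Matrix.mul_assoc b.D b.E, b.DE, Matrix.one_mul]
        _ = _ := by rw [hg]; simp only [prj, pl, Matrix.mul_assoc]

theorem Fits.ext (hg : b.Fits g) (hh : b.Fits h) (h1 : b.pl g = b.pl h) (h2 : b.ln g = b.ln h) : g = h := by
  rw [hg.decomp, hh.decomp, h1, h2]

theorem pl_smul (c : K) (g : Matrix (Fin 3) (Fin 3) K) : b.pl (c • g) = c • b.pl g := by
  rw [pl, pl, Matrix.mul_smul, Matrix.smul_mul]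

theorem ln_smul (c : K) (g : Matrix (Fin 3) (Fin 3) K) : b.ln (c • g) = c * b.ln g := by
  rw [ln, ln, smul_mulVec, dotProduct_smul, smul_eq_mul]

theorem pl_pow (hg : b.Fits g) : ∀ n : ℕ, b.Fits (g ^ n) ∧ b.pl (g ^ n) = b.pl g ^ n ∧ b.ln (g ^ n) = b.ln g ^ n
  | 0 => by simp [fits_one, pl_one, ln_one]
  | n + 1 => by
    obtain ⟨h1, h2, h3⟩ := pl_pow hg n
    exact ⟨by rw [pow_succ]; exact h1.mul hg, by rw [pow_succ, pl_mul hg, h2, pow_succ],
      by rw [pow_succ, ln_mul hg, h3, pow_succ]⟩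

theorem Fits.det_eq (hg : b.Fits g) : g.det = b.ln g * (b.pl g).det := by
  let B : Matrix (Fin 3) (Fin 3) K := Matrix.of fun i j => (![b.k i, b.E i 0, b.E i 1] : Fin 3 → K) j
  let B' : Matrix (Fin 3) (Fin 3) K := Matrix.of ![b.χ, b.D 0, b.D 1]
  have hB : B * B' = 1 := by
    rw [← b.sum]
    ext i j
    simp [B, B', Matrix.mul_apply, Fin.sum_univ_three, Fin.sum_univ_two, vecMulVec_apply]
    ring
  have hN : B' * g * B = !![b.ln g, 0, 0; 0, b.pl g 0 0, b.pl g 0 1; 0, b.pl g 1 0, b.pl g 1 1] := by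
    have hDk : ∀ i, (b.D *ᵥ (g *ᵥ b.k)) i = 0 := fun i => by
      rw [hg.mulVec_k, mulVec_smul, b.Dk, smul_zero, Pi.zero_apply]
    have hχE : ∀ j, (b.χ ᵥ* g ᵥ* b.E) j = 0 := fun j => by
      have e : b.χ ᵥ* g = b.ln g • b.χ := by
        have h1 : g * vecMulVec b.k b.χ = vecMulVec b.k b.χ * g := by
          rw [← b.one_sub_prj, Matrix.mul_sub, Matrix.sub_mul, Matrix.mul_one, Matrix.one_mul, hg]
        have h2 := congrArg (fun M => b.χ ᵥ* M) h1
        simp only [← vecMul_vecMul, vecMul_vecMulVec, b.χk, one_smul] at h2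
        rw [← dotProduct_mulVec] at h2
        rw [← h2]; rfl
      rw [e, smul_vecMul, b.χE, smul_zero, Pi.zero_apply]
    have hk0 := hDk 0
    have hk1 := hDk 1
    have hE0 := hχE 0
    have hE1 := hχE 1
    simp [mulVec, dotProduct, vecMul, Fin.sum_univ_three] at hk0 hk1 hE0 hE1
    ext i j
    fin_cases i <;> fin_cases j <;>
      simp [B, B', pl, ln, Matrix.mul_apply, mulVec, vecMul, dotProduct, Fin.sum_univ_three] <;>
      first
        | ring1
        | linear_combination hk0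
        | linear_combination hk1
        | linear_combination hE0
        | linear_combination hE1
  have hd : (B' * g * B).det = g.det := by
    rw [det_mul, det_mul, mul_right_comm, ← det_mul, mul_eq_one_comm.1 hB, det_one, one_mul]
  rw [← hd, hN, det_fin_three, det_fin_two]
  simp
  ring

/-- A unipotent fitting matrix is a transvection or trivial. -/
theorem Fits.sq_zero (hg : b.Fits g) (h : (g - 1) ^ 3 = 0) : (g - 1) * (g - 1) = 0 := by
  have hN : b.Fits (g - 1) := by
    rw [Fits, Matrix.sub_mul, Matrix.mul_sub, Matrix.one_mul, Matrix.mul_one, hg]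
  obtain ⟨h1, h2, h3⟩ := pl_pow hN 3
  rw [h] at h2 h3
  have hl : b.ln (g - 1) = 0 := by
    have : (0 : K) = b.ln (g - 1) ^ 3 := by rw [← h3]; simp [ln]
    exact pow_eq_zero_iff (by norm_num) |>.1 this.symm
  set A := b.pl (g - 1)
  have hA : A ^ 3 = 0 := by rw [← h2]; simp [pl]
  have hA2 : A * A = 0 := by
    have hch := Matrix.aeval_self_charpoly A
    rw [Matrix.charpoly_fin_two] at hch
    simp [pow_two, Algebra.smul_def] at hch
    have hdet : A.det = 0 := by
      have h0 := congrArg Matrix.det hA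
      rw [det_pow, det_zero] at h0
      exact pow_eq_zero_iff (by norm_num) |>.1 h0
    rw [hdet, map_zero, add_zero, sub_eq_zero] at hch
    rw [← Algebra.smul_def] at hch
    by_cases ht : A.trace = 0
    · rw [hch, ht, zero_smul]
    · have h4 : A.trace ^ 2 • A = 0 := by
        rw [← hA, pow_succ A 2, pow_two A, hch, Matrix.smul_mul, hch, smul_smul, pow_two]
      rw [smul_eq_zero] at h4
      rw [h4.resolve_left (pow_ne_zero 2 ht), Matrix.mul_zero]
  apply (hN.mul hN).ext (show b.Fits (0 : Matrix (Fin 3) (Fin 3) K) by simp [Fits])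
  · rw [pl_mul hN, hA2]; simp [pl]
  · rw [ln_mul hN, hl, mul_zero]; simp [ln]

theorem Fits.isTv (hg : b.Fits g) (h : (g - 1) ^ 3 = 0) (h1 : g ≠ 1) : IsTv g := ⟨h1, hg.sq_zero h⟩

end Blk

/-- The homology with centre `a` and axis kernel of `φ`. -/
def hm (ν : K) (a φ : Fin 3 → K) : Matrix (Fin 3) (Fin 3) K := 1 + (ν - 1) • vecMulVec a φ

end CfsgLib.HessianMax
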