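import Cfsg.Agent.Lib.HessianMax.Core

/-!
Eigenbases and the centraliser of a regular nilpotent matrix.
-/

set_option autoImplicit false
set_option linter.unusedSectionVars false

namespace CfsgLib.HessianMax

open Matrix Polynomial

variable {K : Type*} [Field K]

local notation "M3" => Matrix (Fin 3) (Fin 3) K

/-- An eigenbasis, as a pair of inverse matrices. -/
structure Eig (g : M3) where
  P : M3
  P' : M3
  d : Fin 3 → K
  inv : P * P' = 1
  inv' : P' * P = 1
  eq : P' * g * P = diagonal d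

namespace Eig

variable {g : Matrix (Fin 3) (Fin 3) K} (B : Eig g)

/-- Coordinates in the eigenbasis. -/
def φ (a : M3) : M3 := B.P' * a * B.P

theorem φ_mul (a b : M3) : B.φ (a * b) = B.φ a * B.φ b := by
  simp only [φ, Matrix.mul_assoc]
  rw [← Matrix.mul_assoc B.P B.P', B.inv, Matrix.one_mul]

theorem φ_one : B.φ 1 = 1 := by rw [φ, Matrix.mul_one, B.inv']

theorem φ_back (a : M3) : B.P * B.φ a * B.P' = a := by
  simp only [φ, Matrix.mul_assoc, B.inv, Matrix.mul_one]
  rw [← Matrix.mul_assoc, B.inv, Matrix.one_mul]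

theorem φ_inj {a b : M3} (h : B.φ a = B.φ b) : a = b := by rw [← B.φ_back a, h, B.φ_back]

theorem φ_scalar (c : K) : B.φ (c • 1) = c • 1 := by
  rw [φ, Matrix.mul_smul, Matrix.mul_one, Matrix.smul_mul, B.inv']

theorem φ_det (a : M3) : (B.φ a).det = a.det := by
  rw [φ, det_mul, det_mul, mul_right_comm, ← det_mul, B.inv', det_one, one_mul]

theorem φ_g : B.φ g = diagonal B.d := B.eq

theorem φ_pow (a : M3) : ∀ n : ℕ, B.φ (a ^ n) = B.φ a ^ n
  | 0 => by rw [pow_zero, pow_zero, B.φ_one]
  | n + 1 => by rw [pow_succ, pow_succ, B.φ_mul, φ_pow a n]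

theorem prod_d : g.det = B.d 0 * B.d 1 * B.d 2 := by
  rw [← B.φ_det g, B.φ_g, det_diagonal, Fin.prod_univ_three]

/-- Entries of a commuting matrix between different eigenvalues vanish. -/
theorem comm_zero {a : M3} (h : a * g = g * a) {i l : Fin 3} (hne : B.d i ≠ B.d l) : B.φ a i l = 0 := by
  have e := congrArg B.φ h
  rw [B.φ_mul, B.φ_mul, B.φ_g] at e
  have e' := congrFun (congrFun e i) l
  rw [mul_diagonal, diagonal_mul] at e'
  exact (mul_eq_zero.1 (show (B.d l - B.d i) * B.φ a i l = 0 by linear_combination e')).resolve_left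
    (sub_ne_zero.2 (Ne.symm hne))

/-- With distinct eigenvalues commuting matrices are diagonal. -/
theorem diag_of_comm (hd : Function.Injective B.d) {a : M3} (h : a * g = g * a) :
    B.φ a = diagonal fun i => B.φ a i i := by
  ext i l
  by_cases e : i = l
  · subst e; rw [diagonal_apply_eq]
  · rw [diagonal_apply_ne _ e, B.comm_zero h (fun e' => e (hd e'))]

/-- Every eigenvalue is one of the diagonal entries. -/
theorem eigval_mem {x : K} {v : Fin 3 → K} (hv : v ≠ 0) (h : g *ᵥ v = x • v) : ∃ i, x = B.d i := by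
  set w := B.P' *ᵥ v
  have hw : w ≠ 0 := fun e => hv (by
    calc v = (B.P * B.P') *ᵥ v := by rw [B.inv, one_mulVec]
      _ = 0 := by rw [← mulVec_mulVec]; show B.P *ᵥ w = 0; rw [e, mulVec_zero])
  have e : diagonal B.d *ᵥ w = x • w := by
    rw [← B.φ_g, φ, mulVec_mulVec, Matrix.mul_assoc (B.P' * g), B.inv, Matrix.mul_one, ← mulVec_mulVec, h,
      mulVec_smul]
  obtain ⟨i, hi⟩ : ∃ i, w i ≠ 0 := Function.ne_iff.1 hw
  refine ⟨i, mul_right_cancel₀ hi ?_⟩
  have := congrFun e i
  rw [mulVec_diagonal, Pi.smul_apply, smul_eq_mul] at this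
  exact this.symm

/-- Powers are scalar as soon as the powers of the eigenvalues agree. -/
theorem pow_scalar {n : ℕ} {c : K} (h : ∀ i, B.d i ^ n = c) : g ^ n = c • 1 := by
  apply B.φ_inj
  rw [B.φ_pow, B.φ_g, diagonal_pow, B.φ_scalar, smul_one_eq_diagonal]
  congr 1
  funext i
  exact h i

/-- Reordering an eigenbasis. -/
def perm (σ : Equiv.Perm (Fin 3)) : Eig g where
  P := B.P.submatrix id σ
  P' := B.P'.submatrix σ id
  d := B.d ∘ σ
  inv := by rw [submatrix_mul_equiv, B.inv, submatrix_one _ Function.injective_id]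
  inv' := by rw [← submatrix_mul _ _ _ _ _ Function.bijective_id, B.inv', submatrix_one _ σ.injective]
  eq := by
    rw [← submatrix_diagonal _ _ σ.injective, ← B.eq]
    ext i l
    simp [Matrix.mul_apply, submatrix]

end Eig

/-- Eigenvectors with distinct eigenvalues give an eigenbasis. -/
theorem exists_eig_of_vec {g : M3} {d : Fin 3 → K} (hd : Function.Injective d) {v : Fin 3 → Fin 3 → K}
    (hv : ∀ i, v i ≠ 0) (h : ∀ i, g *ᵥ v i = d i • v i) : ∃ B : Eig g, B.d = d := by
  have hind : LinearIndependent K v := Module.End.eigenvectors_linearIndependent' (Matrix.toLin' g) d hd v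
    fun i => ⟨Module.End.mem_eigenspace_iff.2 (by rw [Matrix.toLin'_apply]; exact h i), hv i⟩
  set P : M3 := (Matrix.of v)ᵀ
  have hu : IsUnit P := linearIndependent_cols_iff_isUnit.1 (by exact hind)
  obtain ⟨u, hu⟩ := hu
  refine ⟨⟨P, ((u⁻¹ : GL3 K) : M3), d, by rw [← hu, ← Units.val_mul, mul_inv_cancel, Units.val_one],
    by rw [← hu, ← Units.val_mul, inv_mul_cancel, Units.val_one], ?_⟩, rfl⟩
  have e : g * P = P * diagonal d := by
    ext i l
    rw [mul_diagonal]
    have := congrFun (h l) i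
    rw [Pi.smul_apply, smul_eq_mul] at this
    show (∑ m, g i m * P m l) = P i l * d l
    simp only [P, transpose_apply, of_apply]
    rw [show (∑ m, g i m * v l m) = (g *ᵥ v l) i from rfl, this, mul_comm]
  rw [Matrix.mul_assoc, e, ← Matrix.mul_assoc, ← hu, ← Units.val_mul, inv_mul_cancel, Units.val_one, Matrix.one_mul]

/-- A matrix of order prime to the characteristic with split polynomial has an eigenbasis. -/
theorem exists_eig {g : M3} {N : ℕ} (hN : (N : K) ≠ 0) (hg : g ^ N = 1) (hs : g.charpoly.Splits) :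
    Nonempty (Eig g) := by
  classical
  set m := minpoly K g
  have hint : IsIntegral K g := Matrix.isIntegral g
  have hm : m.Monic := minpoly.monic hint
  have hmN : m ∣ X ^ N - 1 := minpoly.dvd K g (by simp [hg])
  have hmc : m ∣ g.charpoly := minpoly.dvd K g (Matrix.aeval_self_charpoly g)
  have hnd : m.roots.Nodup := nodup_roots ((X_pow_sub_one_separable_iff.2 hN).of_dvd hmN)
  have hms : m.Splits := hs.of_dvd g.charpoly_monic.ne_zero hmc
  set S := m.roots.toFinset
  have hprod : aeval g (∏ x ∈ S, (X - C x)) = 0 := by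
    have e : (∏ x ∈ S, (X - C x)) = m := by
      conv_rhs => rw [hms.eq_prod_roots_of_monic hm]
      rw [Finset.prod_eq_multiset_prod, Multiset.toFinset_val, hnd.dedup]
    rw [e]
    exact minpoly.aeval K g
  let E : Set (Fin 3 → K) := {v | ∃ x : K, g *ᵥ v = x • v}
  have key : ∀ T : Finset K, ∀ v, (aeval g (∏ x ∈ T, (X - C x))) *ᵥ v = 0 →
      v ∈ Submodule.span K {w | ∃ x ∈ T, g *ᵥ w = x • w} := by
    intro T
    induction T using Finset.induction with
    | empty => intro v hv; simp at hv; rw [hv]; exact zero_mem _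
    | insert a T ha ih =>
      intro v hv
      rw [Finset.prod_insert ha, mul_comm, map_mul, ← mulVec_mulVec] at hv
      set W := {w : Fin 3 → K | ∃ x ∈ insert a T, g *ᵥ w = x • w}
      have hT : ∀ w ∈ Submodule.span K {w : Fin 3 → K | ∃ x ∈ T, g *ᵥ w = x • w},
          ∃ w' ∈ Submodule.span K W, g *ᵥ w' - a • w' = w := by
        intro w hw
        induction hw using Submodule.span_induction with
        | mem w hw =>
          obtain ⟨x, hx, e⟩ := hw
          have hxa : x - a ≠ 0 := sub_ne_zero.2 fun e' => ha (e' ▸ hx)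
          refine ⟨(x - a)⁻¹ • w, Submodule.smul_mem _ _ (Submodule.subset_span ⟨x, Finset.mem_insert_of_mem hx, e⟩), ?_⟩
          rw [mulVec_smul, e, smul_smul, smul_smul, ← sub_smul, mul_comm a, ← mul_sub, inv_mul_cancel₀ hxa, one_smul]
        | zero => exact ⟨0, zero_mem _, by simp⟩
        | add w₁ w₂ _ _ h₁ h₂ =>
          obtain ⟨u₁, m₁, e₁⟩ := h₁
          obtain ⟨u₂, m₂, e₂⟩ := h₂
          exact ⟨u₁ + u₂, add_mem m₁ m₂, by rw [mulVec_add, smul_add, ← e₁, ← e₂]; abel⟩
        | smul c w _ h =>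
          obtain ⟨u, m, e⟩ := h
          exact ⟨c • u, Submodule.smul_mem _ _ m, by rw [mulVec_smul, smul_comm a, ← smul_sub, e]⟩
      obtain ⟨w', hw', e⟩ := hT _ (ih _ hv)
      have hv' : g *ᵥ (v - w') = a • (v - w') := by
        rw [map_sub, aeval_X, aeval_C, sub_mulVec, Algebra.algebraMap_eq_smul_one, smul_mulVec, one_mulVec] at e
        rw [mulVec_sub, smul_sub, sub_eq_sub_iff_sub_eq_sub]
        exact e.symm
      have := add_mem hw' (Submodule.subset_span (R := K) (show v - w' ∈ W from ⟨a, Finset.mem_insert_self a T, hv'⟩))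
      rwa [add_sub_cancel] at this
  have hspan : Submodule.span K E = ⊤ := by
    refine eq_top_iff.2 fun v _ => Submodule.span_mono ?_ (key S v (by rw [hprod, zero_mulVec]))
    exact fun w ⟨x, _, e⟩ => ⟨x, e⟩
  obtain ⟨b, hbE, hbspan, hbind⟩ := exists_linearIndependent K E
  rw [hspan] at hbspan
  let Bb : Module.Basis b K (Fin 3 → K) := Module.Basis.mk hbind (by rw [Subtype.range_coe, hbspan])
  haveI : Fintype b := FiniteDimensional.fintypeBasisIndex Bb
  have hcard : Fintype.card b = 3 := by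
    rw [← Module.finrank_eq_card_basis Bb]; simp
  let e : Fin 3 ≃ b := (Fintype.equivFinOfCardEq hcard).symm
  set P : M3 := (Matrix.of fun i => (e i : Fin 3 → K))ᵀ
  obtain ⟨u, hu⟩ : IsUnit P := linearIndependent_cols_iff_isUnit.1 (hbind.comp e e.injective)
  choose d hd using fun i => hbE (e i).2
  refine ⟨⟨P, ((u⁻¹ : GL3 K) : M3), d, by rw [← hu, ← Units.val_mul, mul_inv_cancel, Units.val_one],
    by rw [← hu, ← Units.val_mul, inv_mul_cancel, Units.val_one], ?_⟩⟩
  have e' : g * P = P * diagonal d := by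
    ext i l
    rw [mul_diagonal]
    have := congrFun (hd l) i
    rw [Pi.smul_apply, smul_eq_mul] at this
    show (∑ m, g i m * P m l) = P i l * d l
    simp only [P, transpose_apply, of_apply]
    rw [show (∑ m, g i m * (e l : Fin 3 → K) m) = (g *ᵥ (e l : Fin 3 → K)) i from rfl, this, mul_comm]
  rw [Matrix.mul_assoc, e', ← Matrix.mul_assoc, ← hu, ← Units.val_mul, inv_mul_cancel, Units.val_one, Matrix.one_mul]

/-- The centraliser of a regular nilpotent matrix consists of polynomials in it. -/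
theorem exists_regnil {n g : M3} (h3 : n ^ 3 = 0) (h2 : n * n ≠ 0) (hc : g * n = n * g) :
    ∃ x : Fin 3 → K, (n * n) *ᵥ x ≠ 0 ∧ LinearIndependent K ![x, n *ᵥ x, (n * n) *ᵥ x] ∧
      ∃ a b c : K, g *ᵥ x = a • x + b • (n *ᵥ x) + c • ((n * n) *ᵥ x) ∧ g = a • 1 + b • n + c • (n * n) := by
  have h3' : n * (n * n) = 0 := by rw [← h3, pow_succ, pow_two, mul_assoc]
  obtain ⟨x, hx⟩ : ∃ x, (n * n) *ᵥ x ≠ 0 := by
    by_contra h
    push Not at h
    exact h2 (Matrix.ext_iff_mulVec.2 fun v => by rw [h v, zero_mulVec])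
  have hind : LinearIndependent K ![x, n *ᵥ x, (n * n) *ᵥ x] := by
    rw [Fintype.linearIndependent_iff]
    intro f hf
    simp [Fin.sum_univ_three] at hf
    have e2 := congrArg (fun v => (n * n) *ᵥ v) hf
    simp only [mulVec_add, mulVec_smul, mulVec_mulVec, mulVec_zero] at e2
    rw [mul_assoc n n n, h3', mul_assoc n n (n * n), h3', mul_zero, zero_mulVec, smul_zero, smul_zero, add_zero,
      add_zero, smul_eq_zero] at e2
    have f0 := e2.resolve_right hx
    have e1 := congrArg (fun v => n *ᵥ v) hf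
    simp only [f0, zero_smul, zero_add, mulVec_add, mulVec_smul, mulVec_mulVec, mulVec_zero, h3', zero_mulVec, smul_zero,
      add_zero, smul_eq_zero] at e1
    have f1 := e1.resolve_right hx
    simp only [f0, f1, zero_smul, zero_add, smul_eq_zero] at hf
    intro i
    fin_cases i
    exacts [f0, f1, hf.resolve_right hx]
  have htop := hind.span_eq_top_of_card_eq_finrank (by simp)
  obtain ⟨f, hf⟩ := Submodule.mem_span_range_iff_exists_fun K |>.1 (htop ▸ Submodule.mem_top : g *ᵥ x ∈ _)
  simp [Fin.sum_univ_three] at hf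
  refine ⟨x, hx, hind, f 0, f 1, f 2, hf.symm, ?_⟩
  set G := f 0 • (1 : M3) + f 1 • n + f 2 • (n * n)
  have hG : G * n = n * G := by
    simp only [G, Matrix.add_mul, Matrix.mul_add, Matrix.smul_mul, Matrix.mul_smul, Matrix.one_mul, Matrix.mul_one,
      Matrix.mul_assoc]
  have hGx : G *ᵥ x = g *ᵥ x := by rw [← hf]; simp [G, add_mulVec, smul_mulVec]
  have hD : (g - G) * n = n * (g - G) := by rw [Matrix.sub_mul, Matrix.mul_sub, hc, hG]
  have hDx : (g - G) *ᵥ x = 0 := by rw [sub_mulVec, hGx, sub_self]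
  have hall : ∀ v, (g - G) *ᵥ v = 0 := by
    intro v
    obtain ⟨f', hf'⟩ := Submodule.mem_span_range_iff_exists_fun K |>.1 (htop ▸ Submodule.mem_top : v ∈ _)
    simp [Fin.sum_univ_three] at hf'
    rw [← hf', mulVec_add, mulVec_add, mulVec_smul, mulVec_smul, mulVec_smul, hDx, mulVec_mulVec, mulVec_mulVec,
      ← mul_assoc, hD, mul_assoc n, hD, ← mul_assoc, ← mulVec_mulVec, ← mulVec_mulVec, hDx]
    simp
  exact sub_eq_zero.1 (Matrix.ext_iff_mulVec.2 fun v => by rw [hall v, zero_mulVec])

variable {p : ℕ} [hp : Fact p.Prime] [CharP K p]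

/-- The p-th power of a matrix commuting with a regular unipotent is scalar. -/
theorem pow_p_scalar (h3 : 3 ≤ p) {n g : M3} (hn : n ^ 3 = 0) (h2 : n * n ≠ 0) (hc : g * n = n * g) :
    ∃ c : K, g ^ p = c • 1 := by
  obtain ⟨x, -, -, a, b, c, -, e⟩ := exists_regnil hn h2 hc
  refine ⟨a ^ p, ?_⟩
  have hcomm : Commute (a • (1 : M3)) (b • n + c • (n * n)) := (Commute.one_left _).smul_left a
  have hm : (b • n + c • (n * n)) ^ 3 = 0 := by
    have e1 : b • n + c • (n * n) = n * (b • 1 + c • n) := by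
      rw [Matrix.mul_add, Matrix.mul_smul, Matrix.mul_smul, Matrix.mul_one]
    have hc' : Commute n (b • 1 + c • n) :=
      ((Commute.one_right n).smul_right b).add_right ((Commute.refl n).smul_right c)
    rw [e1, hc'.mul_pow, hn, zero_mul]
  rw [e, add_assoc, add_pow_char_of_commute p hcomm, _root_.smul_pow, one_pow,
    show (b • n + c • (n * n)) ^ p = 0 from by rw [← Nat.sub_add_cancel h3, pow_add, hm, mul_zero], add_zero]

end CfsgLib.HessianMax
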