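import Mathlib
import Cfsg.Agent.Lib.SL2.PSLCensus

/-!
Subgroups of `SL(2, K)` of order prime to the characteristic, as needed for the Hessian normaliser.
-/

set_option autoImplicit false
set_option linter.unusedSectionVars false

namespace CfsgLib.HessianMax.TwoDim

open Matrix CfsgLib.SL2
open scoped MatrixGroups

variable {K : Type*} [Field K] [Finite K] (p : ℕ) [hp : Fact p.Prime] [CharP K p]

local notation "SL2" => SpecialLinearGroup (Fin 2) K
local notation "PSL" => ProjectiveSpecialLinearGroup (Fin 2) K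

/-- Plus or minus one. -/
def Pm (x : SL2) : Prop := x = 1 ∨ x = -1

theorem pm_iff (x : SL2) : Pm x ↔ proj x = 1 := by
  constructor
  · rintro (rfl | rfl)
    · exact map_one _
    · exact (QuotientGroup.eq_one_iff _).2 (Subgroup.mem_center_iff.2 fun g => by simp)
  · intro h
    rcases eq_or_eq_neg_of_proj_eq (h.trans (map_one proj).symm) with e | e
    · exact Or.inl e.symm
    · exact Or.inr (by rw [e, neg_neg])

theorem eq_of_proj {a b : SL2} (h : proj a = proj b) : a = b ∨ a = -b := by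
  rcases eq_or_eq_neg_of_proj_eq h with e | e
  · exact Or.inl e.symm
  · exact Or.inr (by rw [e, neg_neg])

/-- No element of order p. -/
def PFree (H : Subgroup SL2) : Prop := ∀ x ∈ H, x ^ p = 1 → x = 1

theorem not_dvd_card_image {H : Subgroup SL2} (hH : PFree p H) (hp2 : p ≠ 2) :
    ¬ p ∣ Nat.card (H.map proj) := by
  intro hd
  obtain ⟨y, hy⟩ := exists_prime_orderOf_dvd_card' p hd
  obtain ⟨x, hx, hxy⟩ := y.2
  have h1 : Pm (x ^ p) := by
    rw [pm_iff, map_pow, hxy, ← Subgroup.coe_pow, ← hy, pow_orderOf_eq_one, Subgroup.coe_one]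
  have h2 : (x ^ 2) ^ p = 1 := by
    rw [← pow_mul, mul_comm, pow_mul]
    rcases h1 with e | e <;> rw [e] <;> simp
  have h3 := hH _ (pow_mem hx 2) h2
  have h4 : (y : PSL) ^ 2 = 1 := by rw [← hxy, ← map_pow, h3, map_one]
  have h5 : orderOf y ∣ 2 := orderOf_dvd_of_pow_eq_one (Subtype.ext (by simpa using h4))
  rw [hy] at h5
  exact hp2 ((Nat.prime_dvd_prime_iff_eq hp.out Nat.prime_two).1 h5)

/-- The possible shapes of the image in `PSL(2, K)`. -/
theorem shape {H : Subgroup SL2} (hH : PFree p H) (hp2 : p ≠ 2) :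
    Census.TameShape (H.map proj : Subgroup PSL) p :=
  Census.tame (census p (H.map proj)) (not_dvd_card_image p hH hp2)

/-- Two elements whose images lie in the cyclic group of one image commute. -/
theorem commute_of_zpow {l a b : SL2} {i j : ℤ} (ha : proj a = proj l ^ i) (hb : proj b = proj l ^ j) :
    a * b = b * a := by
  rw [← map_zpow] at ha hb
  have hc : l ^ i * l ^ j = l ^ j * l ^ i := by rw [← _root_.zpow_add, ← _root_.zpow_add, add_comm]
  rcases eq_of_proj ha with rfl | rfl <;> rcases eq_of_proj hb with rfl | rfl <;> simp [hc]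

/-- Facts on the three exceptional groups. -/
theorem exc_a4 : ∀ x : alternatingGroup (Fin 4), (∃ n : Fin 4, x ^ (n.1 + 1) = 1) ∧ (x ^ 4 = 1 → x ^ 2 = 1) := by
  decide +kernel

theorem exc_a5 : ∀ x : alternatingGroup (Fin 5), (∃ n : Fin 5, x ^ (n.1 + 1) = 1) ∧ (x ^ 4 = 1 → x ^ 2 = 1) := by
  decide +kernel

theorem exc_s4 : ∀ x : Equiv.Perm (Fin 4), (∃ n : Fin 4, x ^ (n.1 + 1) = 1) ∧
    ∀ y : Equiv.Perm (Fin 4), x ^ 3 = 1 → y ^ 3 = 1 → (x * y) ^ 4 = 1 → (x * y) ^ 2 = 1 := by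
  decide +kernel

/-- Small image: all projective orders at most five, and two elements of order three never give order four. -/
def Small (H : Subgroup SL2) : Prop :=
  (∀ x ∈ H, ∃ n, 1 ≤ n ∧ n ≤ 5 ∧ Pm (x ^ n)) ∧
    ∀ x ∈ H, ∀ y ∈ H, Pm (x ^ 3) → Pm (y ^ 3) → Pm ((x * y) ^ 4) → Pm ((x * y) ^ 2)

theorem small_of_equiv {H : Subgroup SL2} {Y : Type*} [Group Y] (e : (H.map proj : Subgroup PSL) ≃* Y) {N : ℕ}
    (hN : N ≤ 5) (h1 : ∀ x : Y, ∃ n : Fin N, x ^ (n.1 + 1) = 1)
    (h2 : ∀ x y : Y, x ^ 3 = 1 → y ^ 3 = 1 → (x * y) ^ 4 = 1 → (x * y) ^ 2 = 1) : Small H := by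
  have key : ∀ x (hx : x ∈ H) (n : ℕ), Pm (x ^ n) ↔ e ⟨proj x, x, hx, rfl⟩ ^ n = 1 := fun x hx n => by
    rw [pm_iff, map_pow, ← map_pow e, EmbeddingLike.map_eq_one_iff, ← Subtype.coe_inj, Subgroup.coe_pow,
      Subgroup.coe_one]
  refine ⟨fun x hx => ?_, fun x hx y hy hx3 hy3 h4 => ?_⟩
  · obtain ⟨n, hn⟩ := h1 (e ⟨proj x, x, hx, rfl⟩)
    exact ⟨n.1 + 1, by omega, by omega, (key x hx _).2 hn⟩
  · rw [key _ (mul_mem hx hy)] at h4 ⊢
    have hm : e ⟨proj (x * y), x * y, mul_mem hx hy, rfl⟩ = e ⟨proj x, x, hx, rfl⟩ * e ⟨proj y, y, hy, rfl⟩ := by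
      rw [← map_mul e]
      exact congrArg e (Subtype.ext (map_mul proj x y))
    rw [hm] at h4 ⊢
    exact h2 _ _ ((key x hx 3).1 hx3) ((key y hy 3).1 hy3) h4

/-- A subgroup prime to p: elements that are not involutions projectively commute, or the image is small. -/
theorem cases {H : Subgroup SL2} (hH : PFree p H) (hp2 : p ≠ 2) :
    (∀ a ∈ H, ∀ b ∈ H, ¬ Pm (a ^ 2) → ¬ Pm (b ^ 2) → a * b = b * a) ∨ Small H := by
  rcases shape p hH hp2 with h | ⟨c, -, ⟨e⟩⟩ | ⟨⟨e⟩⟩ | ⟨⟨e⟩⟩ | ⟨⟨e⟩⟩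
  · refine Or.inl fun a ha b hb _ _ => ?_
    obtain ⟨g, hg⟩ := h.exists_generator
    obtain ⟨l, -, hlg⟩ := g.2
    obtain ⟨i, hi⟩ := hg ⟨proj a, a, ha, rfl⟩
    obtain ⟨j, hj⟩ := hg ⟨proj b, b, hb, rfl⟩
    refine commute_of_zpow (l := l) (i := i) (j := j) ?_ ?_
    · rw [hlg, ← Subgroup.coe_zpow]; exact (congrArg Subtype.val hi).symm
    · rw [hlg, ← Subgroup.coe_zpow]; exact (congrArg Subtype.val hj).symm
  · refine Or.inl fun a ha b hb ha2 hb2 => ?_
    obtain ⟨l, -, hlg⟩ := (e.symm (DihedralGroup.r 1)).2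
    have key : ∀ x (hx : x ∈ H), ¬ Pm (x ^ 2) → ∃ i : ℤ, proj x = proj l ^ i := fun x hx h2 => by
      generalize hd : e ⟨proj x, x, hx, rfl⟩ = d
      cases d with
      | sr i =>
        refine absurd ((pm_iff _).2 ?_) h2
        have h := congrArg (fun z => ((e.symm (z * z) : (H.map proj : Subgroup PSL)) : PSL)) hd
        simp only [DihedralGroup.sr_mul_self, map_one, map_mul, MulEquiv.symm_apply_apply, Subgroup.coe_mul,
          Subgroup.coe_one] at h
        rw [pow_two, map_mul, h]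
      | r i =>
        refine ⟨i.cast, ?_⟩
        have h := congrArg (fun z => ((e.symm z : (H.map proj : Subgroup PSL)) : PSL)) hd
        simp only [MulEquiv.symm_apply_apply] at h
        rw [h, hlg, ← Subgroup.coe_zpow, ← map_zpow, DihedralGroup.r_one_zpow, ZMod.intCast_zmod_cast]
    obtain ⟨i, hi⟩ := key a ha ha2
    obtain ⟨j, hj⟩ := key b hb hb2
    exact commute_of_zpow hi hj
  · refine Or.inr (small_of_equiv e (by norm_num : 4 ≤ 5) (fun x => (exc_a4 x).1) fun x y _ _ => (exc_a4 _).2)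
  · exact Or.inr (small_of_equiv e (by norm_num : 4 ≤ 5) (fun x => (exc_s4 x).1) fun x y => (exc_s4 x).2 y)
  · refine Or.inr (small_of_equiv e le_rfl (fun x => (exc_a5 x).1) fun x y _ _ => (exc_a5 _).2)

theorem even_dihedral (n : ℕ) [NeZero n] : Even (Nat.card (DihedralGroup n)) :=
  ⟨n, by rw [DihedralGroup.nat_card, two_mul]⟩

/-- A subgroup prime to p with an image of odd order is commutative. -/
theorem comm_of_odd {H : Subgroup SL2} (hH : PFree p H) (hp2 : p ≠ 2) (hodd : Odd (Nat.card (H.map proj))) :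
    ∀ a ∈ H, ∀ b ∈ H, a * b = b * a := by
  rcases shape p hH hp2 with h | ⟨c, -, ⟨e⟩⟩ | ⟨⟨e⟩⟩ | ⟨⟨e⟩⟩ | ⟨⟨e⟩⟩
  · intro a ha b hb
    obtain ⟨g, hg⟩ := h.exists_generator
    obtain ⟨l, -, hlg⟩ := g.2
    obtain ⟨i, hi⟩ := hg ⟨proj a, a, ha, rfl⟩
    obtain ⟨j, hj⟩ := hg ⟨proj b, b, hb, rfl⟩
    refine commute_of_zpow (l := l) (i := i) (j := j) ?_ ?_
    · rw [hlg, ← Subgroup.coe_zpow]; exact (congrArg Subtype.val hi).symm
    · rw [hlg, ← Subgroup.coe_zpow]; exact (congrArg Subtype.val hj).symm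
  all_goals
    rw [Nat.card_congr e.toEquiv] at hodd
  · haveI : NeZero (orderOf c) := ⟨(orderOf_pos c).ne'⟩
    exact absurd hodd (Nat.not_odd_iff_even.2 (even_dihedral _))
  · rw [nat_card_alternatingGroup, Nat.card_fin] at hodd; exact absurd hodd (by decide)
  · rw [Nat.card_perm, Nat.card_fin] at hodd; exact absurd hodd (by decide)
  · rw [nat_card_alternatingGroup, Nat.card_fin] at hodd; exact absurd hodd (by decide)

/-- Trace values of elements of small projective order. -/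
def Good (z : K) : Prop := z = 0 ∨ z ^ 2 = 1 ∨ z ^ 2 = 2 ∨ z ^ 2 = z + 1 ∨ z ^ 2 + z = 1

local notation "M2" => Matrix (Fin 2) (Fin 2) K

theorem sq_eq (A : SL2) : (A : M2) * A = (A : M2).trace • (A : M2) - 1 := by
  have h := Matrix.aeval_self_charpoly (A : M2)
  rw [Matrix.charpoly_fin_two] at h
  simp [pow_two, Algebra.smul_def] at h
  rw [Algebra.smul_def]
  linear_combination (norm := abel) h

theorem scalar_pm (A : SL2) {c : K} (h : (A : M2) = c • 1) : Pm A := by
  have hd := A.det_coe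
  rw [h, Matrix.det_smul, Matrix.det_one, mul_one, Fintype.card_fin] at hd
  rcases mul_self_eq_one_iff.1 ((pow_two c).symm.trans hd) with rfl | rfl
  · exact Or.inl (Subtype.ext (by rw [h, one_smul]; simp))
  · exact Or.inr (Subtype.ext (by rw [h, neg_smul, one_smul]; simp))

theorem pm_scalar {A : SL2} (h : Pm A) : ∃ c : K, (A : M2) = c • 1 := by
  rcases h with rfl | rfl
  · exact ⟨1, by simp⟩
  · exact ⟨-1, by simp⟩

/-- An element of small projective order is plus or minus one, or has a good trace. -/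
theorem good_trace (h7 : 7 ≤ p) {A : SL2} {n : ℕ} (h1 : 1 ≤ n) (h5 : n ≤ 5) (hn : Pm (A ^ n)) :
    Pm A ∨ Good (A : M2).trace := by
  set x := (A : M2).trace
  obtain ⟨c, hc⟩ := pm_scalar hn
  replace hc : (A : M2) ^ n = c • (1 : M2) := hc
  have e2 : (A : M2) ^ 2 = x • (A : M2) - (1 : K) • 1 := by rw [pow_two, sq_eq, one_smul]
  have step : ∀ (m : ℕ) (u v : K), (A : M2) ^ m = u • (A : M2) - v • 1 →
      (A : M2) ^ (m + 1) = (u * x - v) • (A : M2) - u • 1 := fun m u v e => by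
    rw [pow_succ, e, Matrix.sub_mul, Matrix.smul_mul, ← pow_two, e2, Matrix.smul_mul, Matrix.one_mul]
    module
  have e3 := step 2 x 1 e2
  have e4 := step 3 _ _ e3
  have e5 := step 4 _ _ e4
  have fin : ∀ u v : K, u • (A : M2) - v • 1 = c • (1 : M2) → Pm A ∨ u = 0 := fun u v e => by
    by_cases hu : u = 0
    · exact Or.inr hu
    refine Or.inl (scalar_pm A (c := u⁻¹ * (c + v)) ?_)
    rw [sub_eq_iff_eq_add, ← add_smul] at e
    rw [← inv_smul_smul₀ hu (A : M2), e, smul_smul]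
  interval_cases n
  · exact Or.inl (scalar_pm A (c := c) (by rw [← hc, pow_one]))
  · exact (fin x 1 (e2 ▸ hc)).imp_right Or.inl
  · refine (fin _ _ (e3 ▸ hc)).imp_right fun h => Or.inr (Or.inl ?_)
    linear_combination h
  · rcases fin _ _ (e4 ▸ hc) with h | h
    · exact Or.inl h
    rcases mul_eq_zero.1 (show x * (x ^ 2 - 2) = 0 by linear_combination h) with e | e
    · exact Or.inr (Or.inl e)
    · exact Or.inr (Or.inr (Or.inr (Or.inl (by linear_combination e))))
  · rcases fin _ _ (e5 ▸ hc) with h | h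
    · exact Or.inl h
    rcases mul_eq_zero.1 (show (x ^ 2 - x - 1) * (x ^ 2 + x - 1) = 0 by linear_combination h) with e | e
    · exact Or.inr (Or.inr (Or.inr (Or.inr (Or.inl (by linear_combination e)))))
    · exact Or.inr (Or.inr (Or.inr (Or.inr (Or.inr (by linear_combination e)))))

theorem pm_pow {A : SL2} (h : Pm A) (n : ℕ) : Pm (A ^ n) := by
  rw [pm_iff] at h ⊢
  rw [map_pow, h, one_pow]

/-- In the small case the trace of a product of two elements of projective order three is no root of two. -/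
theorem no_root_two (h2 : (2 : K) ≠ 0) {H : Subgroup SL2} (hS : Small H) {x y : SL2} (hx : x ∈ H) (hy : y ∈ H)
    (hx3 : Pm (x ^ 3)) (hy3 : Pm (y ^ 3)) (hne : ¬ Pm (x * y)) : ((x * y : SL2) : M2).trace ^ 2 ≠ 2 := by
  intro h
  set z := x * y
  set t := (z : M2).trace
  have e2 : (z : M2) ^ 2 = t • (z : M2) - 1 := by rw [pow_two, sq_eq]
  have e4 : (z : M2) ^ 4 = (-1 : K) • 1 := by
    rw [show (z : M2) ^ 4 = (z : M2) ^ 2 * (z : M2) ^ 2 by rw [← pow_add], e2]
    simp only [Matrix.sub_mul, Matrix.mul_sub, Matrix.one_mul, Matrix.mul_one, Matrix.smul_mul, Matrix.mul_smul,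
      smul_sub, smul_smul]
    rw [← pow_two (z : M2), e2, smul_sub, smul_smul, ← pow_two t]
    rw [h]
    module
  have h4 : Pm (z ^ 4) := scalar_pm _ (c := -1) (show ((z ^ 4 : SL2) : M2) = (-1 : K) • 1 from e4)
  obtain ⟨c, hc⟩ := pm_scalar (hS.2 x hx y hy hx3 hy3 h4)
  replace hc : (z : M2) ^ 2 = c • (1 : M2) := hc
  rw [e2, sub_eq_iff_eq_add] at hc
  have ht : t ≠ 0 := fun e => h2 (by rw [← h, e]; ring)
  refine hne (scalar_pm z (c := t⁻¹ * (c + 1)) ?_)
  rw [← inv_smul_smul₀ ht (z : M2), hc, ← smul_smul, add_smul, one_smul]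

end CfsgLib.HessianMax.TwoDim
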