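import Cfsg.Agent.Lib.HessianMax.Basic
import Cfsg.Agent.Lib.HessianMax.TwoDim

/-!
Two homologies in a group without transvections.
-/

set_option autoImplicit false
set_option linter.unusedSectionVars false

namespace CfsgLib.HessianMax

open Matrix TwoDim
open scoped MatrixGroups

variable {K : Type*} [Field K] [Finite K] (p : ℕ) [hp : Fact p.Prime] [CharP K p]

local notation "M2" => Matrix (Fin 2) (Fin 2) K
local notation "M3" => Matrix (Fin 3) (Fin 3) K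
local notation "SL2" => SpecialLinearGroup (Fin 2) K

theorem cmul (A B : SL2) : ((A * B : SL2) : M2) = (A : M2) * (B : M2) := rfl

theorem cone : ((1 : SL2) : M2) = 1 := rfl

theorem cinv (A : SL2) : ((A⁻¹ : SL2) : M2) = adjugate (A : M2) := rfl

theorem cdet (A : SL2) : (A : M2).det = 1 := A.2

namespace Blk

variable (b : Blk K)

theorem pl_inv {g : GL3 K} (hg : b.Fits (g : M3)) : b.pl ((g⁻¹ : GL3 K) : M3) * b.pl (g : M3) = 1 := by
  rw [← pl_mul hg, ← Units.val_mul, inv_mul_cancel, Units.val_one, pl_one]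

/-- The elements of `SL(2, K)` proportional to plane parts of elements of `S`. -/
def planeSL (S : Subgroup (GL3 K)) : Subgroup SL2 where
  carrier := {A | ∃ g ∈ S, b.Fits (g : M3) ∧ ∃ μ : K, (A : M2) = μ • b.pl (g : M3)}
  one_mem' := ⟨1, one_mem _, by rw [Units.val_one]; exact fits_one, 1, by rw [Units.val_one, pl_one, one_smul]; rfl⟩
  mul_mem' := by
    rintro A B ⟨g, hg, fg, μ, hA⟩ ⟨h, hh, fh, ν, hB⟩
    refine ⟨g * h, mul_mem hg hh, by rw [Units.val_mul]; exact fg.mul fh, μ * ν, ?_⟩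
    rw [Units.val_mul, pl_mul fh, cmul, hA, hB, Matrix.smul_mul, Matrix.mul_smul, smul_smul]
  inv_mem' := by
    rintro A ⟨g, hg, fg, μ, hA⟩
    have hμ : μ ≠ 0 := by
      rintro rfl
      have h := cdet A
      rw [hA, zero_smul, det_zero] at h
      exact zero_ne_one h
    refine ⟨g⁻¹, inv_mem hg, fg.inv, μ⁻¹, ?_⟩
    have h1 : ((A⁻¹ : SL2) : M2) * (A : M2) = 1 := by
      rw [← cmul, inv_mul_cancel, cone]
    have h2 : (μ⁻¹ • b.pl ((g⁻¹ : GL3 K) : M3)) * (A : M2) = 1 := by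
      rw [hA, Matrix.smul_mul, Matrix.mul_smul, smul_smul, inv_mul_cancel₀ hμ, one_smul, b.pl_inv fg]
    calc ((A⁻¹ : SL2) : M2) = (μ⁻¹ • b.pl ((g⁻¹ : GL3 K) : M3)) * (A : M2) * ((A⁻¹ : SL2) : M2) := by
          rw [h2, Matrix.one_mul]
      _ = _ := by
          rw [Matrix.mul_assoc, ← cmul, mul_inv_cancel, cone,
            Matrix.mul_one]

theorem mem_planeSL {S : Subgroup (GL3 K)} {A : SL2} :
    A ∈ b.planeSL S ↔ ∃ g ∈ S, b.Fits (g : M3) ∧ ∃ μ : K, (A : M2) = μ • b.pl (g : M3) := Iff.rfl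

theorem planeSL_pfree (h3 : 3 ≤ p) {S : Subgroup (GL3 K)} (hS : NoTv S) : PFree p (b.planeSL S) := by
  rintro A ⟨g, hg, fg, μ, hA⟩ hAp
  have hodd : p ≠ 2 := by omega
  obtain ⟨i, m, hm, e⟩ := Nat.exists_eq_pow_mul_and_not_dvd (orderOf_pos g).ne' p hp.out.ne_one
  have hpm : (g : M3) ^ m ^ 1 = (g : M3) ^ m := by rw [pow_one]
  have h1 : ((g : M3) ^ m) ^ p ^ i = 1 := by
    rw [← pow_mul, mul_comm, ← e, ← Units.val_pow_eq_pow_val, pow_orderOf_eq_one, Units.val_one]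
  obtain ⟨hfm, hplm, -⟩ := pl_pow fg m
  by_cases hgm : (g : M3) ^ m = 1
  · have hs : Pm (A ^ m) := scalar_pm _ (c := μ ^ m) (by
      rw [show ((A ^ m : SL2) : M2) = (A : M2) ^ m from rfl, hA, smul_pow, ← hplm, hgm, pl_one])
    have h2m : A ^ (2 * m) = 1 := by
      rw [mul_comm, pow_mul]
      rcases hs with e' | e' <;> rw [e'] <;> simp
    have hco : Nat.gcd (2 * m) p = 1 := by
      refine Nat.Coprime.mul_left ?_ ((Nat.Prime.coprime_iff_not_dvd hp.out).2 hm).symm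
      exact (Nat.coprime_primes Nat.prime_two hp.out).2 (Ne.symm hodd)
    have := pow_gcd_eq_one.2 ⟨h2m, hAp⟩
    rwa [hco, pow_one] at this
  · refine absurd (hfm.isTv (cube_zero_of_ppow h1) hgm) ?_
    rw [← Units.val_pow_eq_pow_val]
    exact hS _ (pow_mem hg m)

end Blk

theorem tv_of_rankOne {u : M3} {k : K} {x y : Fin 3 → K} (hk : k ≠ 0) (hx : x ≠ 0) (hy : y ≠ 0)
    (h : u - 1 = k • vecMulVec x y) (hyx : y ⬝ᵥ x = 0) : IsTv u := by
  refine ⟨fun e => ?_, ?_⟩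
  · rw [e, sub_self] at h
    rcases smul_eq_zero.1 h.symm with h' | h'
    · exact hk h'
    · rcases vecMulVec_eq_zero.1 h' with h'' | h''
      exacts [hx h'', hy h'']
  · rw [h, Matrix.smul_mul, Matrix.mul_smul, vecMulVec_mul_vecMulVec, hyx]
    simp

theorem ne_of_dot {x y : Fin 3 → K} (h : x ⬝ᵥ y = 1) : x ≠ 0 ∧ y ≠ 0 :=
  ⟨fun e => by simp [e] at h, fun e => by simp [e] at h⟩

theorem hm_vec (ν : K) (a φ v : Fin 3 → K) : hm ν a φ *ᵥ v = v + ((ν - 1) * (φ ⬝ᵥ v)) • a := by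
  rw [hm, add_mulVec, one_mulVec, smul_mulVec, vecMulVec_mulVec, op_smul_eq_smul, smul_smul]

theorem vec_hm (ν : K) (a φ v : Fin 3 → K) : v ᵥ* hm ν a φ = v + ((ν - 1) * (v ⬝ᵥ a)) • φ := by
  rw [hm, vecMul_add, vecMul_one, vecMul_smul, vecMul_vecMulVec, smul_smul]

theorem inv_vec {g : GL3 K} {ν : K} (hν : ν ≠ 0) {v : Fin 3 → K} (h : (g : M3) *ᵥ v = ν • v) :
    ((g⁻¹ : GL3 K) : M3) *ᵥ v = ν⁻¹ • v := by
  calc ((g⁻¹ : GL3 K) : M3) *ᵥ v = ν⁻¹ • (((g⁻¹ : GL3 K) : M3) *ᵥ (ν • v)) := by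
        rw [mulVec_smul, smul_smul, inv_mul_cancel₀ hν, one_smul]
    _ = _ := by rw [← h, mulVec_mulVec, ← Units.val_mul, inv_mul_cancel, Units.val_one, one_mulVec]

theorem vec_inv {g : GL3 K} {ν : K} (hν : ν ≠ 0) {v : Fin 3 → K} (h : v ᵥ* (g : M3) = ν • v) :
    v ᵥ* ((g⁻¹ : GL3 K) : M3) = ν⁻¹ • v := by
  calc v ᵥ* ((g⁻¹ : GL3 K) : M3) = ν⁻¹ • ((ν • v) ᵥ* ((g⁻¹ : GL3 K) : M3)) := by
        rw [smul_vecMul, smul_smul, inv_mul_cancel₀ hν, one_smul]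
    _ = _ := by rw [← h, vecMul_vecMul, ← Units.val_mul, mul_inv_cancel, Units.val_one, vecMul_one]

section degenerate

variable {S : Subgroup (GL3 K)} (hS : NoTv S) {ν : K} (hν0 : ν ≠ 0) (hν1 : ν ≠ 1) {a b φ ψ : Fin 3 → K}
  (hφa : φ ⬝ᵥ a = 1) (hψb : ψ ⬝ᵥ b = 1) {r s : GL3 K} (hr : r ∈ S) (hs : s ∈ S) (er : (r : Matrix (Fin 3) (Fin 3) K) = hm ν a φ)
  (es : (s : Matrix (Fin 3) (Fin 3) K) = hm ν b ψ)
include hS hν0 hν1 hφa hψb hr hs er es

theorem zero_both (h : φ ⬝ᵥ b = 0) : ψ ⬝ᵥ a = 0 := by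
  by_contra h'
  refine hS _ (mul_mem (mul_mem hr hs) (inv_mem (mul_mem hs hr))) ?_
  set w := ((s * r)⁻¹ : GL3 K)
  have hd : (r : M3) * (s : M3) - (s : M3) * (r : M3) =
      (-((ν - 1) * (ν - 1) * (ψ ⬝ᵥ a))) • vecMulVec b φ := by
    rw [er, es, hm, hm]
    simp only [Matrix.add_mul, Matrix.mul_add, Matrix.one_mul, Matrix.mul_one, Matrix.smul_mul, Matrix.mul_smul,
      vecMulVec_mul_vecMulVec, h, zero_smul, vecMulVec_zero, smul_zero, add_zero, vecMulVec_smul, smul_smul]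
    module
  have hbw : (w : M3) *ᵥ b = ν⁻¹ • b := inv_vec hν0 (by
    rw [Units.val_mul, ← mulVec_mulVec, er, hm_vec, h, mul_zero, zero_smul, add_zero, es, hm_vec, hψb, mul_one,
      sub_smul, one_smul, add_sub_cancel])
  have e : ((r * s * w : GL3 K) : M3) - 1 =
      (-((ν - 1) * (ν - 1) * (ψ ⬝ᵥ a))) • vecMulVec b (φ ᵥ* (w : M3)) := by
    rw [← vecMulVec_mul, ← Matrix.smul_mul, ← hd, Matrix.sub_mul, ← Units.val_mul, ← Units.val_mul,
      ← Units.val_mul, ← Units.val_mul, show s * r * w = 1 from mul_inv_cancel _, Units.val_one]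
  have hy : φ ᵥ* (w : M3) ≠ 0 := fun e0 => (ne_of_dot hφa).1 (by
    rw [← vecMul_one φ, ← Units.val_one, ← (inv_mul_cancel (s * r)), Units.val_mul, ← vecMul_vecMul]
    rw [e0, zero_vecMul])
  refine tv_of_rankOne (by simp [sub_ne_zero.2 hν1, h']) (ne_of_dot hψb).2 hy e ?_
  rw [← dotProduct_mulVec, hbw, dotProduct_smul, h, smul_zero]

theorem same_centre (h : ∃ l : K, b = l • a) : vecMulVec a φ = vecMulVec b ψ := by
  obtain ⟨l, rfl⟩ := h
  have hla : l * (ψ ⬝ᵥ a) = 1 := by rw [← hψb, dotProduct_smul, smul_eq_mul]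
  by_contra hne
  refine hS _ (mul_mem hr (inv_mem hs)) ?_
  have hd : (r : M3) - (s : M3) = (ν - 1) • vecMulVec a (φ - l • ψ) := by
    rw [er, es, hm, hm, vecMulVec_sub, vecMulVec_smul, smul_vecMulVec]
    module
  have haw : ((s⁻¹ : GL3 K) : M3) *ᵥ a = ν⁻¹ • a := inv_vec hν0 (by
    rw [es, hm_vec, smul_smul, mul_assoc, mul_comm _ l, hla, mul_one, sub_smul, one_smul, add_sub_cancel])
  have e : ((r * s⁻¹ : GL3 K) : M3) - 1 =
      (ν - 1) • vecMulVec a ((φ - l • ψ) ᵥ* ((s⁻¹ : GL3 K) : M3)) := by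
    rw [← vecMulVec_mul, ← Matrix.smul_mul, ← hd, Matrix.sub_mul, ← Units.val_mul, ← Units.val_mul,
      mul_inv_cancel, Units.val_one]
  have hy : (φ - l • ψ) ᵥ* ((s⁻¹ : GL3 K) : M3) ≠ 0 := fun e0 => hne (by
    have h0 : φ - l • ψ = 0 := by
      rw [← vecMul_one (φ - l • ψ), ← Units.val_one, ← inv_mul_cancel s, Units.val_mul, ← vecMul_vecMul, e0,
        zero_vecMul]
    rw [sub_eq_zero.1 h0, vecMulVec_smul, smul_vecMulVec])
  refine tv_of_rankOne (sub_ne_zero.2 hν1) (ne_of_dot hφa).2 hy e ?_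
  rw [← dotProduct_mulVec, haw, dotProduct_smul, sub_dotProduct, hφa, smul_dotProduct, smul_eq_mul, smul_eq_mul, hla, sub_self,
    mul_zero]

theorem same_axis (h : ∃ l : K, ψ = l • φ) : vecMulVec a φ = vecMulVec b ψ := by
  obtain ⟨l, rfl⟩ := h
  have hlb : l * (φ ⬝ᵥ b) = 1 := by rw [← hψb, smul_dotProduct, smul_eq_mul]
  by_contra hne
  refine hS _ (mul_mem (inv_mem hs) hr) ?_
  have hd : (r : M3) - (s : M3) = (ν - 1) • vecMulVec (a - l • b) φ := by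
    rw [er, es, hm, hm, sub_vecMulVec, vecMulVec_smul, smul_vecMulVec]
    module
  have haw : φ ᵥ* ((s⁻¹ : GL3 K) : M3) = ν⁻¹ • φ := vec_inv hν0 (by
    rw [es, vec_hm, smul_smul, mul_assoc, mul_comm _ l, hlb, mul_one, sub_smul, one_smul, add_sub_cancel])
  have e : ((s⁻¹ * r : GL3 K) : M3) - 1 =
      (ν - 1) • vecMulVec (((s⁻¹ : GL3 K) : M3) *ᵥ (a - l • b)) φ := by
    rw [← mul_vecMulVec, ← Matrix.mul_smul, ← hd, Matrix.mul_sub, ← Units.val_mul, ← Units.val_mul,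
      inv_mul_cancel, Units.val_one]
  have hy : ((s⁻¹ : GL3 K) : M3) *ᵥ (a - l • b) ≠ 0 := fun e0 => hne (by
    have h0 : a - l • b = 0 := by
      rw [← one_mulVec (a - l • b), ← Units.val_one, ← mul_inv_cancel s, Units.val_mul, ← mulVec_mulVec, e0,
        mulVec_zero]
    rw [sub_eq_zero.1 h0, vecMulVec_smul, smul_vecMulVec])
  refine tv_of_rankOne (sub_ne_zero.2 hν1) hy (ne_of_dot hφa).1 e ?_
  rw [dotProduct_mulVec, haw, smul_dotProduct, dotProduct_sub, hφa, dotProduct_smul, smul_eq_mul, smul_eq_mul, hlb, sub_self,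
    mul_zero]

theorem c_one (hν2 : ν ^ 2 ≠ 1) (hc : (φ ⬝ᵥ b) * (ψ ⬝ᵥ a) = 1) : vecMulVec a φ = vecMulVec b ψ := by
  set β := φ ⬝ᵥ b
  set γ := ψ ⬝ᵥ a
  set w := b - β • a with hw_def
  set χ := ψ - γ • φ with hχ_def
  by_cases hw : w = 0
  · exact same_centre hS hν0 hν1 hφa hψb hr hs er es ⟨β, sub_eq_zero.1 hw⟩
  by_cases hχ : χ = 0
  · exact same_axis hS hν0 hν1 hφa hψb hr hs er es ⟨γ, sub_eq_zero.1 hχ⟩
  exfalso
  have hφw : φ ⬝ᵥ w = 0 := by rw [hw_def, dotProduct_sub, dotProduct_smul, hφa, smul_eq_mul, mul_one, sub_self]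
  have hχa : χ ⬝ᵥ a = 0 := by rw [hχ_def, sub_dotProduct, smul_dotProduct, hφa, smul_eq_mul, mul_one, sub_self]
  have hψw : ψ ⬝ᵥ w = 0 := by rw [hw_def, dotProduct_sub, dotProduct_smul, hψb, smul_eq_mul, hc, sub_self]
  have hχw : χ ⬝ᵥ w = 0 := by rw [hχ_def, sub_dotProduct, smul_dotProduct, hψw, hφw, smul_zero, sub_zero]
  let T : K → K → K → K → M3 := fun x y z d =>
    1 + (d - 1) • vecMulVec a φ + x • vecMulVec w φ + y • vecMulVec a χ + z • vecMulVec w χ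
  have hT : ∀ x y z d x' y' z' d', T x y z d * T x' y' z' d' =
      T (x' + x * d') (y + d * y') (z + z' + x * y') (d * d') := fun x y z d x' y' z' d' => by
    simp only [T, Matrix.add_mul, Matrix.mul_add, Matrix.one_mul, Matrix.mul_one, Matrix.smul_mul, Matrix.mul_smul,
      vecMulVec_mul_vecMulVec, hφw, hφa, hχa, hχw, one_smul, zero_smul, vecMulVec_zero, smul_zero, add_zero,
      zero_add, smul_smul]
    module
  have hT1 : T 0 0 0 1 = 1 := by simp [T]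
  let mem : K → K → K → K → Prop := fun x y z d => ∃ g ∈ S, (g : M3) = T x y z d
  have hmul : ∀ {x y z d x' y' z' d'}, mem x y z d → mem x' y' z' d' →
      mem (x' + x * d') (y + d * y') (z + z' + x * y') (d * d') := by
    rintro x y z d x' y' z' d' ⟨g, hg, eg⟩ ⟨g', hg', eg'⟩
    exact ⟨g * g', mul_mem hg hg', by rw [Units.val_mul, eg, eg', hT]⟩
  have hinv : ∀ {x y z d}, d ≠ 0 → mem x y z d → mem (-x / d) (-y / d) (-z + x * y / d) d⁻¹ := by
    rintro x y z d hd ⟨g, hg, eg⟩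
    refine ⟨g⁻¹, inv_mem hg, ?_⟩
    have : (g : M3) * T (-x / d) (-y / d) (-z + x * y / d) d⁻¹ = 1 := by
      rw [eg, hT, ← hT1]
      congr 1 <;> field_simp <;> ring
    calc ((g⁻¹ : GL3 K) : M3) = ((g⁻¹ : GL3 K) : M3) * ((g : M3) * T (-x / d) (-y / d) (-z + x * y / d) d⁻¹) := by
          rw [this, Matrix.mul_one]
      _ = _ := by rw [← Matrix.mul_assoc, ← Units.val_mul, inv_mul_cancel, Units.val_one, Matrix.one_mul]
  have mr : mem 0 0 0 ν := ⟨r, hr, by rw [er, hm]; simp [T]⟩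
  have ms : mem ((ν - 1) * γ) ((ν - 1) * β) (ν - 1) ν := ⟨s, hs, by
    rw [es, hm, show b = w + β • a by rw [hw_def, sub_add_cancel],
      show ψ = χ + γ • φ by rw [hχ_def, sub_add_cancel]]
    simp only [T, add_vecMulVec, vecMulVec_add, smul_vecMulVec, vecMulVec_smul, smul_add, smul_smul]
    rw [mul_comm γ β, hc]
    module⟩
  set n := ν - 1
  have mu := hmul (hmul mr ms) (hinv (mul_ne_zero hν0 hν0) (hmul ms mr))
  have mv := hmul (hmul mr mu) (hinv hν0 mr)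
  have mt := hmul (hmul mu mv) (hinv (by simp [hν0]) (hmul mv mu))
  obtain ⟨g, hg, eg⟩ := mt
  refine hS g hg ?_
  rw [eg]
  have hval : ∀ {x y z d z'}, x = 0 → y = 0 → d = 1 → z = z' → T x y z d = 1 + z' • vecMulVec w χ := by
    rintro x y z d z' rfl rfl rfl rfl
    simp [T]
  have hn : n ≠ 0 := sub_ne_zero.2 hν1
  have hβ : β ≠ 0 := left_ne_zero_of_mul_eq_one hc
  have hγ : γ ≠ 0 := right_ne_zero_of_mul_eq_one hc
  refine tv_of_rankOne (x := w) (y := χ)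
    (k := (n * γ * (1 - ν) / ν ^ 2) * (n * β * n) * (ν - ν⁻¹)) ?_ hw hχ ?_ hχw
  · refine mul_ne_zero (mul_ne_zero (div_ne_zero (mul_ne_zero (mul_ne_zero hn hγ) ?_) (pow_ne_zero 2 hν0))
      (mul_ne_zero (mul_ne_zero hn hβ) hn)) ?_
    · exact sub_ne_zero.2 (Ne.symm hν1)
    · intro e
      rw [sub_eq_zero] at e
      exact hν2 (by rw [pow_two]; nth_rw 2 [e]; exact mul_inv_cancel₀ hν0)
  · rw [hval (z' := (n * γ * (1 - ν) / ν ^ 2) * (n * β * n) * (ν - ν⁻¹)) ?_ ?_ ?_ ?_, add_sub_cancel_left]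
    all_goals field_simp
    all_goals ring

end degenerate

/-- The block of two independent homologies. -/
def pairBlk {a b φ ψ : Fin 3 → K} (hφa : φ ⬝ᵥ a = 1) (hψb : ψ ⬝ᵥ b = 1) (hc : (φ ⬝ᵥ b) * (ψ ⬝ᵥ a) ≠ 1) : Blk K where
  E := Matrix.of fun i j => (![a i, b i] : Fin 2 → K) j
  D := Matrix.of ![(1 - (φ ⬝ᵥ b) * (ψ ⬝ᵥ a))⁻¹ • (φ - (φ ⬝ᵥ b) • ψ),
    (1 - (φ ⬝ᵥ b) * (ψ ⬝ᵥ a))⁻¹ • (ψ - (ψ ⬝ᵥ a) • φ)]
  k := φ ⨯₃ ψ
  χ := (1 - (φ ⬝ᵥ b) * (ψ ⬝ᵥ a))⁻¹ • (a ⨯₃ b)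
  DE := by
    have hd := sub_ne_zero.2 (Ne.symm hc)
    ext i j
    have e : ∀ (x : Fin 3 → K) (y : Fin 3 → K), x 0 * y 0 + x 1 * y 1 + x 2 * y 2 = x ⬝ᵥ y := fun x y => by
      simp [dotProduct, Fin.sum_univ_three]
    rw [Matrix.mul_apply, Fin.sum_univ_three]
    fin_cases i <;> fin_cases j <;> simp [Matrix.one_apply] <;> field_simp <;>
      (simp only [dotProduct, Fin.sum_univ_three] at hφa hψb ⊢)
    · linear_combination hφa
    · linear_combination -(φ 0 * b 0 + φ 1 * b 1 + φ 2 * b 2) * hψb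
    · linear_combination -(ψ 0 * a 0 + ψ 1 * a 1 + ψ 2 * a 2) * hφa
    · linear_combination hψb
  sum := by
    set d := (1 - (φ ⬝ᵥ b) * (ψ ⬝ᵥ a)) with hd_def
    have hd : d ≠ 0 := sub_ne_zero.2 (Ne.symm hc)
    let B : M3 := Matrix.of fun i j => (![a i, b i, (φ ⨯₃ ψ) i] : Fin 3 → K) j
    let B' : M3 := Matrix.of ![d⁻¹ • (φ - (φ ⬝ᵥ b) • ψ), d⁻¹ • (ψ - (ψ ⬝ᵥ a) • φ), d⁻¹ • (a ⨯₃ b)]
    have hB : B' * B = 1 := by
      have row : ∀ i j, (B' * B) i j = B' i ⬝ᵥ (fun l => B l j) := fun i j => Matrix.mul_apply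
      have h1 : ψ ⬝ᵥ (φ ⨯₃ ψ) = 0 := dot_cross_self φ ψ
      have h2 : φ ⬝ᵥ (φ ⨯₃ ψ) = 0 := dot_self_cross φ ψ
      have h3 : (a ⨯₃ b) ⬝ᵥ a = 0 := by rw [dotProduct_comm]; exact dot_self_cross a b
      have h4 : (a ⨯₃ b) ⬝ᵥ b = 0 := by rw [dotProduct_comm]; exact dot_cross_self a b
      have h5 : (a ⨯₃ b) ⬝ᵥ (φ ⨯₃ ψ) = d := by
        rw [cross_dot_cross, dotProduct_comm a φ, dotProduct_comm b ψ, hφa, hψb, hd_def, dotProduct_comm a ψ,
          dotProduct_comm b φ]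
        ring
      ext i j
      rw [row]
      fin_cases i <;> fin_cases j
      · show (d⁻¹ • (φ - (φ ⬝ᵥ b) • ψ)) ⬝ᵥ a = 1
        simp only [smul_dotProduct, sub_dotProduct, smul_eq_mul, hφa]
        rw [← hd_def, inv_mul_cancel₀ hd]
      · show (d⁻¹ • (φ - (φ ⬝ᵥ b) • ψ)) ⬝ᵥ b = 0
        simp only [smul_dotProduct, sub_dotProduct, smul_eq_mul, hψb, mul_one, sub_self, mul_zero]
      · show (d⁻¹ • (φ - (φ ⬝ᵥ b) • ψ)) ⬝ᵥ (φ ⨯₃ ψ) = 0
        simp only [smul_dotProduct, sub_dotProduct, smul_eq_mul, h1, h2, mul_zero, sub_self]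
      · show (d⁻¹ • (ψ - (ψ ⬝ᵥ a) • φ)) ⬝ᵥ a = 0
        simp only [smul_dotProduct, sub_dotProduct, smul_eq_mul, hφa, mul_one, sub_self, mul_zero]
      · show (d⁻¹ • (ψ - (ψ ⬝ᵥ a) • φ)) ⬝ᵥ b = 1
        simp only [smul_dotProduct, sub_dotProduct, smul_eq_mul, hψb]
        rw [mul_comm (ψ ⬝ᵥ a), ← hd_def, inv_mul_cancel₀ hd]
      · show (d⁻¹ • (ψ - (ψ ⬝ᵥ a) • φ)) ⬝ᵥ (φ ⨯₃ ψ) = 0
        simp only [smul_dotProduct, sub_dotProduct, smul_eq_mul, h1, h2, mul_zero, sub_self]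
      · show (d⁻¹ • (a ⨯₃ b)) ⬝ᵥ a = 0
        rw [smul_dotProduct, h3, smul_zero]
      · show (d⁻¹ • (a ⨯₃ b)) ⬝ᵥ b = 0
        rw [smul_dotProduct, h4, smul_zero]
      · show (d⁻¹ • (a ⨯₃ b)) ⬝ᵥ (φ ⨯₃ ψ) = 1
        rw [smul_dotProduct, h5, smul_eq_mul, inv_mul_cancel₀ hd]
    have hB' := mul_eq_one_comm.1 hB
    rw [← hB']
    ext i j
    simp [B, B', Matrix.mul_apply, Fin.sum_univ_three, Fin.sum_univ_two, vecMulVec_apply]
    ring
  χk := by
    rw [smul_dotProduct, cross_dot_cross, dotProduct_comm a φ, dotProduct_comm b ψ, hφa, hψb,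
      dotProduct_comm a ψ, dotProduct_comm b φ, smul_eq_mul, mul_one]
    rw [mul_comm (ψ ⬝ᵥ a)]
    exact inv_mul_cancel₀ (sub_ne_zero.2 (Ne.symm hc))

/-- The outcome for a generic pair. -/
def PairVal (ν c : K) : Prop :=
  c ≠ 0 ∧ c ≠ 1 ∧ (∃ n, 1 ≤ n ∧ n ≤ 5 ∧ ν ^ n = 1) ∧ Good (2 + c * (ν + ν⁻¹ - 2)) ∧
    Good (ν + ν⁻¹ - c * (ν + ν⁻¹ - 2)) ∧
    (ν ^ 3 = 1 → (2 + c * (ν + ν⁻¹ - 2)) ^ 2 ≠ 2 ∧ (ν + ν⁻¹ - c * (ν + ν⁻¹ - 2)) ^ 2 ≠ 2)

/-- Two homologies with the same multiplier in a group without transvections. -/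
theorem pair (h7 : 7 ≤ p) {S : Subgroup (GL3 K)} (hS : NoTv S) {ν μ : K} (hμ : μ ^ 2 = ν) (hν0 : ν ≠ 0)
    (hν2 : ν ^ 2 ≠ 1) {a b φ ψ : Fin 3 → K} (hφa : φ ⬝ᵥ a = 1) (hψb : ψ ⬝ᵥ b = 1) {r s : GL3 K}
    (hr : r ∈ S) (hs : s ∈ S) (er : (r : M3) = hm ν a φ) (es : (s : M3) = hm ν b ψ) :
    vecMulVec a φ = vecMulVec b ψ ∨ (φ ⬝ᵥ b = 0 ∧ ψ ⬝ᵥ a = 0) ∨ PairVal ν ((φ ⬝ᵥ b) * (ψ ⬝ᵥ a)) := by
  have hν1 : ν ≠ 1 := by rintro rfl; exact hν2 (one_pow 2)
  by_cases hβ : φ ⬝ᵥ b = 0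
  · exact Or.inr (Or.inl ⟨hβ, zero_both hS hν0 hν1 hφa hψb hr hs er es hβ⟩)
  by_cases hγ : ψ ⬝ᵥ a = 0
  · exact Or.inr (Or.inl ⟨zero_both hS hν0 hν1 hψb hφa hs hr es er hγ, hγ⟩)
  by_cases hc1 : (φ ⬝ᵥ b) * (ψ ⬝ᵥ a) = 1
  · exact Or.inl (c_one hS hν0 hν1 hφa hψb hr hs er es hν2 hc1)
  right; right
  let B := pairBlk hφa hψb hc1
  set β := φ ⬝ᵥ b with hβdef
  set γ := ψ ⬝ᵥ a with hγdef
  set c := β * γ with hcdef
  have hd : 1 - c ≠ 0 := sub_ne_zero.2 (Ne.symm hc1)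
  -- fitting
  have hka : φ ⬝ᵥ B.k = 0 := dot_self_cross φ ψ
  have hkb : ψ ⬝ᵥ B.k = 0 := dot_cross_self φ ψ
  have hχa : B.χ ⬝ᵥ a = 0 := by
    show ((1 - c)⁻¹ • (a ⨯₃ b)) ⬝ᵥ a = 0
    rw [smul_dotProduct, dotProduct_comm, dot_self_cross, smul_zero]
  have hχb : B.χ ⬝ᵥ b = 0 := by
    show ((1 - c)⁻¹ • (a ⨯₃ b)) ⬝ᵥ b = 0
    rw [smul_dotProduct, dotProduct_comm, dot_cross_self, smul_zero]
  have fit : ∀ x χ' : Fin 3 → K, B.χ ⬝ᵥ x = 0 → χ' ⬝ᵥ B.k = 0 → B.Fits (hm ν x χ') := fun x χ' h1 h2 => by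
    have hp' : B.prj = 1 - vecMulVec B.k B.χ := by rw [← B.one_sub_prj, sub_sub_cancel]
    rw [Blk.Fits, hp', hm]
    simp only [Matrix.mul_sub, Matrix.sub_mul, Matrix.add_mul, Matrix.mul_add, Matrix.one_mul, Matrix.mul_one,
      Matrix.smul_mul, Matrix.mul_smul, vecMulVec_mul_vecMulVec, h1, h2, zero_smul, vecMulVec_zero, smul_zero]
    module
  have fr : B.Fits (r : M3) := er ▸ fit a φ hχa hka
  have fs : B.Fits (s : M3) := es ▸ fit b ψ hχb hkb
  -- plane parts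
  set P : M2 := !![ν, (ν - 1) * β; 0, 1] with hP
  set Q : M2 := !![1, 0; (ν - 1) * γ, ν] with hQ
  have hDa : B.D *ᵥ a = ![1, 0] := by
    funext i
    fin_cases i
    · show ((1 - c)⁻¹ • (φ - β • ψ)) ⬝ᵥ a = 1
      rw [smul_dotProduct, sub_dotProduct, smul_dotProduct, hφa, smul_eq_mul, smul_eq_mul, ← hγdef, ← hcdef,
        inv_mul_cancel₀ hd]
    · show ((1 - c)⁻¹ • (ψ - γ • φ)) ⬝ᵥ a = 0
      rw [smul_dotProduct, sub_dotProduct, smul_dotProduct, hφa, smul_eq_mul γ, mul_one, ← hγdef, sub_self,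
        smul_zero]
  have hDb : B.D *ᵥ b = ![0, 1] := by
    funext i
    fin_cases i
    · show ((1 - c)⁻¹ • (φ - β • ψ)) ⬝ᵥ b = 0
      rw [smul_dotProduct, sub_dotProduct, smul_dotProduct, hψb, smul_eq_mul β, mul_one, ← hβdef, sub_self,
        smul_zero]
    · show ((1 - c)⁻¹ • (ψ - γ • φ)) ⬝ᵥ b = 1
      rw [smul_dotProduct, sub_dotProduct, smul_dotProduct, hψb, smul_eq_mul, smul_eq_mul, ← hβdef,
        mul_comm γ β, ← hcdef, inv_mul_cancel₀ hd]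
  have hφE : φ ᵥ* B.E = ![1, β] := by
    funext j
    fin_cases j
    · exact hφa
    · rfl
  have hψE : ψ ᵥ* B.E = ![γ, 1] := by
    funext j
    fin_cases j
    · rfl
    · exact hψb
  have hPr : B.pl (r : M3) = P := by
    rw [er, hm, Blk.pl, Matrix.mul_add, Matrix.add_mul, Matrix.mul_one, B.DE, Matrix.mul_smul, Matrix.smul_mul,
      mul_vecMulVec, vecMulVec_mul, hDa, hφE, hP]
    ext i j
    fin_cases i <;> fin_cases j <;> simp [vecMulVec_apply]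
  have hQs : B.pl (s : M3) = Q := by
    rw [es, hm, Blk.pl, Matrix.mul_add, Matrix.add_mul, Matrix.mul_one, B.DE, Matrix.mul_smul, Matrix.smul_mul,
      mul_vecMulVec, vecMulVec_mul, hDb, hψE, hQ]
    ext i j
    fin_cases i <;> fin_cases j <;> simp [vecMulVec_apply]
  have hμ0 : μ ≠ 0 := by rintro rfl; exact hν0 (by rw [← hμ]; ring)
  let R' : SL2 := ⟨μ⁻¹ • P, by
    rw [hP, det_smul, det_fin_two_of, Fintype.card_fin, inv_pow, hμ]; field_simp; ring⟩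
  let S' : SL2 := ⟨μ⁻¹ • Q, by
    rw [hQ, det_smul, det_fin_two_of, Fintype.card_fin, inv_pow, hμ]; field_simp; ring⟩
  have hR : R' ∈ B.planeSL S := ⟨r, hr, fr, μ⁻¹, by rw [hPr]⟩
  have hS' : S' ∈ B.planeSL S := ⟨s, hs, fs, μ⁻¹, by rw [hQs]⟩
  have hn1 : ν - 1 ≠ 0 := sub_ne_zero.2 hν1
  have eR : (R' : M2) = μ⁻¹ • P := rfl
  have eS : (S' : M2) = μ⁻¹ • Q := rfl
  have eS' : ((S'⁻¹ : SL2) : M2) = μ⁻¹ • !![ν, 0; -((ν - 1) * γ), 1] := by
    rw [cinv, eS, adjugate_fin_two, hQ]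
    ext i j
    fin_cases i <;> fin_cases j <;> simp
  have entry : ∀ {A : SL2}, Pm A → (A : M2) 0 1 = 0 ∧ (A : M2) 0 0 = (A : M2) 1 1 := fun {A} h => by
    obtain ⟨k, hk⟩ := pm_scalar h
    simp [hk]
  have hR2 : ¬ Pm (R' ^ 2) := fun h => hν2 (by
    have := (entry h).2
    rw [show ((R' ^ 2 : SL2) : M2) = (R' : M2) ^ 2 from rfl, pow_two, eR, hP] at this
    simp [Matrix.mul_apply, Fin.sum_univ_two, hμ0] at this
    field_simp at this
    linear_combination this)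
  have hS2 : ¬ Pm (S' ^ 2) := fun h => hν2 (by
    have := (entry h).2
    rw [show ((S' ^ 2 : SL2) : M2) = (S' : M2) ^ 2 from rfl, pow_two, eS, hQ] at this
    simp [Matrix.mul_apply, Fin.sum_univ_two, hμ0] at this
    field_simp at this
    linear_combination -this)
  have hx : ((R' * S' : SL2) : M2).trace = 2 + c * (ν + ν⁻¹ - 2) := by
    rw [cmul, eR, eS, hP, hQ, hcdef]
    simp [Matrix.mul_apply, Fin.sum_univ_two, trace_fin_two]
    rw [← hμ] at hν0 ⊢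
    field_simp
    ring
  have hy : ((R' * S'⁻¹ : SL2) : M2).trace = ν + ν⁻¹ - c * (ν + ν⁻¹ - 2) := by
    rw [cmul, eR, eS', hP, hcdef]
    simp [Matrix.mul_apply, Fin.sum_univ_two, trace_fin_two]
    rw [← hμ] at hν0 ⊢
    field_simp
    ring
  have nx : ¬ Pm (R' * S') := fun h => by
    have := (entry h).1
    rw [cmul, eR, eS, hP, hQ] at this
    simp [Matrix.mul_apply, Fin.sum_univ_two, hμ0, hn1, hν0, hβ] at this
  have ny : ¬ Pm (R' * S'⁻¹) := fun h => by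
    have := (entry h).1
    rw [cmul, eR, eS', hP] at this
    simp [Matrix.mul_apply, Fin.sum_univ_two, hμ0, hn1, hν0, hβ] at this
  rcases TwoDim.cases p (B.planeSL_pfree p (by omega) hS) (by omega) with h | h
  · exfalso
    have e := congrArg (fun A : SL2 => (A : M2) 0 0) (h R' hR S' hS' hR2 hS2)
    simp only [cmul, eR, eS, hP, hQ] at e
    simp [Matrix.mul_apply, Fin.sum_univ_two] at e
    exact mul_ne_zero (mul_ne_zero (inv_ne_zero hμ0) (mul_ne_zero hn1 hβ))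
      (mul_ne_zero (inv_ne_zero hμ0) (mul_ne_zero hn1 hγ)) (by linear_combination e)
  · refine ⟨mul_ne_zero hβ hγ, hc1, ?_, ?_, ?_, fun h3 => ?_⟩
    · obtain ⟨n, h1, h5, hn⟩ := h.1 R' hR
      refine ⟨n, h1, h5, ?_⟩
      have hpow : ∀ m : ℕ, ∃ w, P ^ m = !![ν ^ m, w; 0, 1] := fun m => by
        induction m with
        | zero => exact ⟨0, by rw [pow_zero, pow_zero, one_fin_two]⟩
        | succ m ih =>
          obtain ⟨w, hw⟩ := ih
          refine ⟨ν ^ m * ((ν - 1) * β) + w, ?_⟩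
          rw [pow_succ, hw, hP, pow_succ]
          simp
      obtain ⟨w, hw⟩ := hpow n
      have := (entry hn).2
      rw [show ((R' ^ n : SL2) : M2) = (R' : M2) ^ n from rfl, eR, smul_pow, hw] at this
      simpa [hμ0] using this
    · obtain ⟨n, h1, h5, hn⟩ := h.1 _ (mul_mem hR hS')
      exact hx ▸ (good_trace p h7 h1 h5 hn).resolve_left nx
    · obtain ⟨n, h1, h5, hn⟩ := h.1 _ (mul_mem hR (inv_mem hS'))
      exact hy ▸ (good_trace p h7 h1 h5 hn).resolve_left ny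
    · have h20 : (2 : K) ≠ 0 := fun e => by
        have : ((2 : ℕ) : K) = 0 := by exact_mod_cast e
        rw [CharP.cast_eq_zero_iff K p] at this
        have := Nat.le_of_dvd two_pos this
        omega
      have hsum : ν ^ 2 + ν + 1 = 0 :=
        (mul_eq_zero.1 (show (ν - 1) * (ν ^ 2 + ν + 1) = 0 by linear_combination h3)).resolve_left hn1
      have hR3 : Pm (R' ^ 3) := scalar_pm _ (c := μ⁻¹ ^ 3) (by
        rw [show ((R' ^ 3 : SL2) : M2) = (R' : M2) ^ 3 from rfl, eR, smul_pow, hP]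
        congr 1
        rw [pow_succ, pow_two, one_fin_two, Matrix.mul_fin_two, Matrix.mul_fin_two]
        ext i j
        fin_cases i <;> fin_cases j <;> simp
        · linear_combination h3
        · linear_combination ((ν - 1) * β) * hsum)
      have hS3 : Pm (S' ^ 3) := scalar_pm _ (c := μ⁻¹ ^ 3) (by
        rw [show ((S' ^ 3 : SL2) : M2) = (S' : M2) ^ 3 from rfl, eS, smul_pow, hQ]
        congr 1
        rw [pow_succ, pow_two, one_fin_two, Matrix.mul_fin_two, Matrix.mul_fin_two]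
        ext i j
        fin_cases i <;> fin_cases j <;> simp
        · linear_combination ((ν - 1) * γ) * hsum
        · linear_combination h3)
      have hS3' : Pm (S'⁻¹ ^ 3) := by
        rw [inv_pow, pm_iff, map_inv, (pm_iff _).1 hS3, inv_one]
      exact ⟨hx ▸ no_root_two h20 h hR hS' hR3 hS3 nx,
        hy ▸ no_root_two h20 h hR (inv_mem hS') hR3 hS3' ny⟩

/-- The values for two homologies of order three. -/
theorem pair_three (h7 : 7 ≤ p) {ω c : K} (hω : ω ^ 2 + ω + 1 = 0) (h : PairVal ω c) :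
    3 * c = 1 ∨ 3 * c = 2 ∨ 9 * c ^ 2 - 9 * c + 1 = 0 := by
  obtain ⟨-, -, -, gx, gy, h2⟩ := h
  have hω0 : ω ≠ 0 := by rintro rfl; simp at hω
  have h3 : ω ^ 3 = 1 := by linear_combination (ω - 1) * hω
  have hT : ω + ω⁻¹ = -1 := by field_simp; linear_combination hω
  rw [hT] at gx gy h2
  obtain ⟨hx2, hy2⟩ := h2 h3
  set x := 2 + c * (-1 - 2 : K) with hx
  have hy : (-1 - c * (-1 - 2) : K) = 1 - x := by rw [hx]; ring
  rw [hy] at gy hy2
  have small : ∀ n : ℕ, 0 < n → n < 7 → (n : K) ≠ 0 := fun n h0 h7' e => by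
    rw [CharP.cast_eq_zero_iff K p] at e
    have := Nat.le_of_dvd h0 e
    omega
  have k1 : ∀ {P : Prop} (n : ℕ), 0 < n → n < 7 → (n : K) = 0 → P := fun n a b e => absurd e (small n a b)
  rcases gx with e | e | e | e | e
  · exact Or.inr (Or.inl (by linear_combination hx - e))
  · rcases mul_self_eq_one_iff.1 ((pow_two x).symm.trans e) with e1 | e1
    · exact Or.inl (by linear_combination hx - e1)
    · rw [e1] at gy
      rcases gy with f | f | f | f | f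
      · exact k1 2 (by omega) (by omega) (by push_cast; linear_combination f)
      · exact k1 3 (by omega) (by omega) (by push_cast; linear_combination f)
      · exact k1 2 (by omega) (by omega) (by push_cast; linear_combination f)
      · exact k1 1 (by omega) (by omega) (by push_cast; linear_combination f)
      · exact k1 5 (by omega) (by omega) (by push_cast; linear_combination f)
  · exact absurd e hx2
  · exact Or.inr (Or.inr (by rw [hx] at e; linear_combination e))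
  · rcases gy with f | f | f | f | f
    · have x1 : x = 1 := by linear_combination -f
      rw [x1] at e
      exact k1 1 (by omega) (by omega) (by push_cast; linear_combination e)
    · rcases mul_self_eq_one_iff.1 ((pow_two (1 - x)).symm.trans f) with f1 | f1
      · have x1 : x = 0 := by linear_combination -f1
        rw [x1] at e
        exact k1 1 (by omega) (by omega) (by push_cast; linear_combination -e)
      · have x1 : x = 2 := by linear_combination -f1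
        rw [x1] at e
        exact k1 5 (by omega) (by omega) (by push_cast; linear_combination e)
    · exact absurd f hy2
    · exact Or.inr (Or.inr (by rw [hx] at f; linear_combination f))
    · have x1 : 4 * x = 2 := by linear_combination e - f
      exact k1 4 (by omega) (by omega) (by push_cast; linear_combination -16 * e + (4 * x + 6) * x1)

end CfsgLib.HessianMax
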