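import Cfsg.Agent.Lib.HessianMax.Std
import Cfsg.Agent.Lib.HessianMax.Pair

/-!
First consequences of the setting.
-/

set_option autoImplicit false
set_option linter.unusedSectionVars false

namespace CfsgLib.HessianMax

open Matrix

variable {K : Type*} [Field K] [Finite K] {p : ℕ} [hp : Fact p.Prime] [CharP K p]

local notation "M3" => Matrix (Fin 3) (Fin 3) K

theorem finite_gl : Finite (GL3 K) := Finite.of_injective _ Units.val_injective

theorem small_ne (n : ℕ) (h0 : 0 < n) (hn : n < p) : (n : K) ≠ 0 := fun e => by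
  rw [CharP.cast_eq_zero_iff K p] at e
  exact absurd (Nat.le_of_dvd h0 e) (not_le.2 hn)

theorem Setup.two {ω : K} {M : Subgroup (GL3 K)} (h : Setup p ω M) : (2 : K) ≠ 0 := by
  have := h.p7
  exact_mod_cast small_ne (K := K) (p := p) 2 (by omega) (by omega)

theorem Setup.three {ω : K} {M : Subgroup (GL3 K)} (h : Setup p ω M) : (3 : K) ≠ 0 := by
  have := h.p7
  exact_mod_cast small_ne (K := K) (p := p) 3 (by omega) (by omega)

/-- Transvections in a group lie in every subgroup containing a p'-power of each element. -/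
theorem NoTv.of_pow {J S : Subgroup (GL3 K)} (hJ : NoTv J) {n : ℕ} (hn : ¬ p ∣ n)
    (h : ∀ g ∈ S, g ^ n ∈ J) : NoTv S := by
  rintro g hg ⟨h1, h2⟩
  set N := (g : M3) - 1 with hN
  have e : ∀ m : ℕ, (g : M3) ^ m = 1 + (m : K) • N := by
    intro m
    induction m with
    | zero => simp
    | succ m ih =>
      have hg' : (g : M3) = 1 + N := by rw [hN]; abel
      rw [pow_succ, ih, hg']
      simp only [Matrix.add_mul, Matrix.mul_add, Matrix.one_mul, Matrix.mul_one, Matrix.smul_mul, h2, smul_zero,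
        add_zero, Nat.cast_succ, add_smul, one_smul]
      abel
  have hn0 : (n : K) ≠ 0 := fun e' => hn ((CharP.cast_eq_zero_iff K p n).1 e')
  refine hJ _ (h g hg) ⟨?_, ?_⟩
  · rw [Units.val_pow_eq_pow_val, e]
    intro e'
    rw [add_eq_left, smul_eq_zero, hN, sub_eq_zero] at e'
    exact e'.elim hn0 h1
  · rw [Units.val_pow_eq_pow_val, e, add_sub_cancel_left, Matrix.smul_mul, Matrix.mul_smul, h2, smul_zero, smul_zero]

theorem not_dvd_card_sub_one : ¬ p ∣ Nat.card K - 1 := by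
  intro hd
  haveI := Fintype.ofFinite K
  obtain ⟨n, hn, hq⟩ := FiniteField.card K p
  have hc : p ∣ Nat.card K := by rw [Nat.card_eq_fintype_card, hq]; exact dvd_pow_self p n.pos.ne'
  have h1 : 1 < Nat.card K := Finite.one_lt_card
  have := Nat.dvd_sub hc hd
  rw [Nat.sub_sub_self h1.le] at this
  exact hp.out.not_dvd_one this

/-- All non-zero multiples of elements of `M`. -/
def withScalars (M : Subgroup (GL3 K)) : Subgroup (GL3 K) where
  carrier := {g | ∃ c : K, c ≠ 0 ∧ ∃ m ∈ M, (g : M3) = c • (m : M3)}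
  one_mem' := ⟨1, one_ne_zero, 1, one_mem _, by simp⟩
  mul_mem' := by
    rintro a b ⟨c, hc, m, hm, ea⟩ ⟨d, hd, n, hn, eb⟩
    refine ⟨c * d, mul_ne_zero hc hd, m * n, mul_mem hm hn, ?_⟩
    rw [Units.val_mul, Units.val_mul, ea, eb, Matrix.smul_mul, Matrix.mul_smul, smul_smul]
  inv_mem' := by
    rintro a ⟨c, hc, m, hm, ea⟩
    refine ⟨c⁻¹, inv_ne_zero hc, m⁻¹, inv_mem hm, ?_⟩
    calc ((a⁻¹ : GL3 K) : M3) = ((a⁻¹ : GL3 K) : M3) * ((a : M3) * (c⁻¹ • ((m⁻¹ : GL3 K) : M3))) := by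
          rw [ea, Matrix.smul_mul, Matrix.mul_smul (m : M3), smul_smul, mul_inv_cancel₀ hc, one_smul, ← Units.val_mul,
            mul_inv_cancel, Units.val_one, Matrix.mul_one]
      _ = _ := by rw [← Matrix.mul_assoc, ← Units.val_mul, inv_mul_cancel, Units.val_one, Matrix.one_mul]

theorem le_withScalars (M : Subgroup (GL3 K)) : M ≤ withScalars M :=
  fun g hg => ⟨1, one_ne_zero, g, hg, by rw [one_smul]⟩

theorem noTv_withScalars (p : ℕ) [Fact p.Prime] [CharP K p] {M : Subgroup (GL3 K)} (h : NoTv M) :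
    NoTv (withScalars M) := by
  refine h.of_pow (p := p) (n := Nat.card K - 1) not_dvd_card_sub_one ?_
  rintro g ⟨c, hc, m, hm, e⟩
  haveI := Fintype.ofFinite K
  have hq : c ^ (Nat.card K - 1) = 1 := by
    rw [Nat.card_eq_fintype_card]
    exact FiniteField.pow_card_sub_one_eq_one c hc
  have : g ^ (Nat.card K - 1) = m ^ (Nat.card K - 1) := Units.ext (by
    rw [Units.val_pow_eq_pow_val, Units.val_pow_eq_pow_val, e, smul_pow, hq, one_smul])
  rw [this]
  exact pow_mem hm _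

theorem conj_hm (m : GL3 K) (ν : K) (a φ : Fin 3 → K) :
    (m : M3) * hm ν a φ * ((m⁻¹ : GL3 K) : M3) =
      hm ν ((m : M3) *ᵥ a) (φ ᵥ* ((m⁻¹ : GL3 K) : M3)) := by
  rw [hm, hm, Matrix.mul_add, Matrix.add_mul, Matrix.mul_one, ← Units.val_mul, mul_inv_cancel, Units.val_one,
    Matrix.mul_smul, Matrix.smul_mul, mul_vecMulVec, vecMulVec_mul]

theorem conj_dot (m : GL3 K) (a φ : Fin 3 → K) :
    (φ ᵥ* ((m⁻¹ : GL3 K) : M3)) ⬝ᵥ ((m : M3) *ᵥ a) = φ ⬝ᵥ a := by
  rw [← dotProduct_mulVec, mulVec_mulVec, ← Units.val_mul, inv_mul_cancel, Units.val_one, one_mulVec]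

namespace Setup

variable {ω : K} {M : Subgroup (GL3 K)} (h : Setup p ω M)
include h

theorem mem_t : ∃ g ∈ M, (g : M3) = tm := by
  obtain ⟨g, hg, e⟩ := h.mg
  exact ⟨g * g, mul_mem hg hg, by rw [Units.val_mul, e, gm_sq h.om h.three]⟩

theorem mem_scalar : ∃ g ∈ M, (g : M3) = ω • 1 := by
  obtain ⟨x, hx, ex⟩ := h.mX
  obtain ⟨y, hy, ey⟩ := h.mY
  refine ⟨y * x * (x * y)⁻¹, mul_mem (mul_mem hy hx) (inv_mem (mul_mem hx hy)), ?_⟩
  rw [Units.val_mul, Units.val_mul, ex, ey, YX h.om, ← ex, ← ey, ← Units.val_mul, Matrix.smul_mul, ← Units.val_mul,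
    mul_inv_cancel, Units.val_one]

theorem mem_InR {A : M3} (hA : InR ω A) : ∃ g ∈ M, (g : M3) = A := by
  obtain ⟨x, hx, ex⟩ := h.mX
  obtain ⟨y, hy, ey⟩ := h.mY
  obtain ⟨z, hz, ez⟩ := h.mem_scalar
  obtain ⟨i, j, k, rfl⟩ := hA
  exact ⟨z ^ i * (x ^ j * y ^ k), mul_mem (pow_mem hz i) (mul_mem (pow_mem hx j) (pow_mem hy k)), by
    rw [Units.val_mul, Units.val_mul, Units.val_pow_eq_pow_val, Units.val_pow_eq_pow_val, Units.val_pow_eq_pow_val,
      ex, ey, ez, smul_pow, one_pow, Matrix.smul_mul, Matrix.one_mul]⟩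

end Setup

end CfsgLib.HessianMax
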