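import Cfsg.Agent.Lib.HessianMax.NoThree

/-!
The centraliser of the central involution.
-/

set_option autoImplicit false
set_option linter.unusedSectionVars false

namespace CfsgLib.HessianMax

open Matrix TwoDim CfsgLib.SL2
open scoped MatrixGroups

variable {K : Type*} [Field K] [Finite K] {p : ℕ} [hp : Fact p.Prime] [CharP K p]

local notation "M2" => Matrix (Fin 2) (Fin 2) K
local notation "M3" => Matrix (Fin 3) (Fin 3) K
local notation "SL2" => SpecialLinearGroup (Fin 2) K
local notation "PSL" => ProjectiveSpecialLinearGroup (Fin 2) K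

/-- The centraliser of the involution: a quasi-dihedral extension of a cyclic group of order `2k`. -/
structure CT (ω : K) (M : Subgroup (GL3 K)) (h2 : (2 : K) ≠ 0) (k : ℕ) (c j : GL3 K) : Prop where
  four : 4 ∣ k
  kpos : 0 < k
  mc : c ∈ M
  mj : j ∈ M
  fc : (tB h2).Fits (c : Matrix (Fin 3) (Fin 3) K)
  fj : (tB h2).Fits (j : Matrix (Fin 3) (Fin 3) K)
  lc : (tB h2).ln (c : Matrix (Fin 3) (Fin 3) K) = -1
  lj : (tB h2).ln (j : Matrix (Fin 3) (Fin 3) K) = 1
  pj : ¬ ∃ β : K, (tB h2).pl (j : Matrix (Fin 3) (Fin 3) K) = β • 1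
  ck : (c : Matrix (Fin 3) (Fin 3) K) ^ k = tm
  jj : (j : Matrix (Fin 3) (Fin 3) K) * (j : Matrix (Fin 3) (Fin 3) K) = tm
  jc : (j : Matrix (Fin 3) (Fin 3) K) * (c : Matrix (Fin 3) (Fin 3) K) =
    ((c⁻¹ : GL3 K) : Matrix (Fin 3) (Fin 3) K) * tm * (j : Matrix (Fin 3) (Fin 3) K)
  scal : ∀ (n : ℕ) (β : K), (tB h2).pl ((c : Matrix (Fin 3) (Fin 3) K) ^ n) = β • 1 → k ∣ n
  cover : ∀ g ∈ M, (tB h2).Fits (g : Matrix (Fin 3) (Fin 3) K) → ∃ i n : ℕ,
    (g : Matrix (Fin 3) (Fin 3) K) = ω ^ i • (c : Matrix (Fin 3) (Fin 3) K) ^ n ∨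
    (g : Matrix (Fin 3) (Fin 3) K) =
      ω ^ i • ((c : Matrix (Fin 3) (Fin 3) K) ^ n * (j : Matrix (Fin 3) (Fin 3) K))

/-- Involutions that are commutators, and the involutions of the symmetric group on four points. -/
theorem inv_comm_a4 : ∀ x : alternatingGroup (Fin 4), x * x = 1 → ∃ u v, u * v * u⁻¹ * v⁻¹ = x := by
  decide +kernel

theorem inv_comm_a5 : ∀ x : alternatingGroup (Fin 5), x * x = 1 → ∃ u v, u * v * u⁻¹ * v⁻¹ = x := by
  decide +kernel

set_option synthInstance.maxSize 2000 in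
theorem comm_s4 : ∀ x : Equiv.Perm (Fin 4), Equiv.Perm.sign x = 1 → ∃ u v, u * v * u⁻¹ * v⁻¹ = x := by
  decide +kernel

set_option synthInstance.maxSize 2000 in
theorem conj_s4 : ∀ x y : Equiv.Perm (Fin 4), x * x = 1 → y * y = 1 → Equiv.Perm.sign x = -1 →
    Equiv.Perm.sign y = -1 → ∃ u, u * x * u⁻¹ = y := by
  decide +kernel

set_option synthInstance.maxSize 2000 in
theorem cycle_s4 : ∀ x y : Equiv.Perm (Fin 4), x * x = 1 → y * y = 1 → x ≠ 1 → y ≠ 1 → x ≠ y →
    Equiv.Perm.sign x = 1 → Equiv.Perm.sign y = 1 → ∃ z, z * x * z⁻¹ = y ∧ z * y * z⁻¹ = x * y := by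
  decide +kernel

theorem hom_comm_one {Y : Type*} [Group Y] {R : Type*} [CommMonoid R] (F : Y →* R) {x : Y}
    (h : ∃ u v, u * v * u⁻¹ * v⁻¹ = x) : F x = 1 := by
  obtain ⟨u, v, rfl⟩ := h
  rw [map_mul, map_mul, map_mul, mul_comm (F u) (F v), mul_assoc (F v), ← map_mul F u, mul_inv_cancel, map_one,
    mul_one, ← map_mul, mul_inv_cancel, map_one]

/-- In a dihedral group, a character killing two commuting involutions and not a third involution. -/
theorem dihedral_facts {R : Type*} [CommRing R] [IsDomain R] (h2 : (2 : R) ≠ 0) {k : ℕ} [NeZero k]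
    (F : DihedralGroup k →* R) {a b x : DihedralGroup k} (ha : a * a = 1) (hb : b * b = 1) (ha1 : a ≠ 1)
    (hb1 : b ≠ 1) (hab : a ≠ b) (hc : a * b = b * a) (fa : F a = 1) (fb : F b = 1) (hx : x * x = 1)
    (fx : F x ≠ 1) :
    4 ∣ k ∧ F (DihedralGroup.r 1) = -1 ∧
      ∃ j, ((∃ i, a = DihedralGroup.sr i) ∧ j = a ∨ (∃ i, b = DihedralGroup.sr i) ∧ j = b ∨
        (∃ i, a * b = DihedralGroup.sr i) ∧ j = a * b) ∧ F j = 1 := by
  have rinv : ∀ {w : ZMod k}, DihedralGroup.r w * DihedralGroup.r w = (1 : DihedralGroup k) → w + w = 0 := by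
    intro w h
    rw [DihedralGroup.r_mul_r, DihedralGroup.one_def] at h
    exact DihedralGroup.r.inj h
  have half : ∀ {w w' : ZMod k}, w + w = 0 → w' + w' = 0 → w ≠ 0 → w' ≠ 0 → w = w' := by
    intro w w' h1 h2 n1 n2
    have key : ∀ {u : ZMod k}, u + u = 0 → u ≠ 0 → 2 * u.val = k := by
      intro u hu hu0
      have h3 : ((u.val + u.val : ℕ) : ZMod k) = 0 := by push_cast; rw [ZMod.natCast_zmod_val, hu]
      rw [ZMod.natCast_eq_zero_iff] at h3
      obtain ⟨q, hq⟩ := h3
      have hlt := ZMod.val_lt u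
      have hpos : 0 < u.val := Nat.pos_of_ne_zero fun e => hu0 ((ZMod.val_eq_zero u).1 e)
      have : q = 1 := by nlinarith
      rw [this, mul_one] at hq
      omega
    exact ZMod.val_injective k (by have := key h1 n1; have := key h2 n2; omega)
  have hab' : F (a * b) = 1 := by rw [map_mul, fa, fb, one_mul]
  obtain ⟨i, hj, fj, w, hw, hw0, fw⟩ : ∃ i : ZMod k, ((∃ u, a = DihedralGroup.sr u) ∧ DihedralGroup.sr i = a ∨
      (∃ u, b = DihedralGroup.sr u) ∧ DihedralGroup.sr i = b ∨
        (∃ u, a * b = DihedralGroup.sr u) ∧ DihedralGroup.sr i = a * b) ∧ F (DihedralGroup.sr i) = 1 ∧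
      ∃ w : ZMod k, w + w = 0 ∧ w ≠ 0 ∧ F (DihedralGroup.r w) = 1 := by
    cases a with
    | r u =>
      have hu : u ≠ 0 := fun e => ha1 (by rw [e]; rfl)
      cases b with
      | r v =>
        have hv : v ≠ 0 := fun e => hb1 (by rw [e]; rfl)
        exact absurd (congrArg DihedralGroup.r (half (rinv ha) (rinv hb) hu hv)) hab
      | sr v => exact ⟨v, Or.inr (Or.inl ⟨⟨v, rfl⟩, rfl⟩), fb, u, rinv ha, hu, fa⟩
    | sr u =>
      cases b with
      | r v =>
        have hv : v ≠ 0 := fun e => hb1 (by rw [e]; rfl)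
        exact ⟨u, Or.inl ⟨⟨u, rfl⟩, rfl⟩, fa, v, rinv hb, hv, fb⟩
      | sr v =>
        refine ⟨u, Or.inl ⟨⟨u, rfl⟩, rfl⟩, fa, v - u, ?_, fun e => hab (by rw [sub_eq_zero.1 e]),
          by rwa [DihedralGroup.sr_mul_sr] at hab'⟩
        rw [DihedralGroup.sr_mul_sr, DihedralGroup.sr_mul_sr] at hc
        have e := DihedralGroup.r.inj hc
        linear_combination e
  have hneg : F (DihedralGroup.r 1) = -1 := by
    have hsq : F (DihedralGroup.r 1) * F (DihedralGroup.r 1) = 1 := by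
      have e : DihedralGroup.sr i * DihedralGroup.r 1 * DihedralGroup.sr i * DihedralGroup.r 1 =
          (1 : DihedralGroup k) := by
        rw [DihedralGroup.sr_mul_r, DihedralGroup.sr_mul_sr, DihedralGroup.r_mul_r, DihedralGroup.one_def]
        congr 1
        ring
      have e' := congrArg F e
      rw [map_mul, map_mul, map_mul, fj, one_mul, mul_one, map_one] at e'
      exact e'
    refine (mul_self_eq_one_iff.1 hsq).resolve_left fun h1 => fx ?_
    have hr : ∀ v : ZMod k, F (DihedralGroup.r v) = 1 := fun v => by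
      rw [← ZMod.natCast_zmod_val v, ← DihedralGroup.r_one_pow, map_pow, h1, one_pow]
    cases x with
    | r v => exact hr v
    | sr v =>
      rw [show DihedralGroup.sr v = DihedralGroup.sr i * DihedralGroup.r (v - i) by simp, map_mul, fj, hr, one_mul]
  have hk2 : Even k := by
    have e := congrArg F (DihedralGroup.r_one_pow_n (n := k))
    rw [map_pow, hneg, map_one] at e
    by_contra ho
    rw [Nat.not_even_iff_odd] at ho
    rw [ho.neg_one_pow] at e
    exact h2 (by linear_combination -e)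
  refine ⟨?_, hneg, DihedralGroup.sr i, hj, fj⟩
  have hwv : 2 * w.val = k := by
    have h3 : ((w.val + w.val : ℕ) : ZMod k) = 0 := by push_cast; rw [ZMod.natCast_zmod_val, hw]
    rw [ZMod.natCast_eq_zero_iff] at h3
    obtain ⟨q, hq⟩ := h3
    have hlt := ZMod.val_lt w
    have hpos : 0 < w.val := Nat.pos_of_ne_zero fun e => hw0 ((ZMod.val_eq_zero w).1 e)
    have : q = 1 := by nlinarith
    rw [this, mul_one] at hq
    omega
  have hev : Even w.val := by
    by_contra ho
    rw [Nat.not_even_iff_odd] at ho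
    have e : F (DihedralGroup.r w) = -1 := by
      rw [← ZMod.natCast_zmod_val w, ← DihedralGroup.r_one_pow, map_pow, hneg, ho.neg_one_pow]
    rw [fw] at e
    exact h2 (by linear_combination e)
  obtain ⟨q, hq⟩ := hev
  exact ⟨q, by omega⟩

/-- The only involution of `SL(2, K)` is minus one. -/
theorem sq_neg {A : SL2} (h2 : (2 : K) ≠ 0) (hA : ¬ Pm A) (hA2 : Pm (A ^ 2)) :
    (A : M2) * (A : M2) = -1 ∧ (A : M2).trace = 0 := by
  obtain ⟨c, hc⟩ := pm_scalar hA2
  replace hc : (A : M2) ^ 2 = c • (1 : M2) := hc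
  rw [pow_two, sq_eq] at hc
  have ht : (A : M2).trace = 0 := by
    by_contra ht
    refine hA (scalar_pm A (c := (A : M2).trace⁻¹ * (c + 1)) ?_)
    rw [sub_eq_iff_eq_add] at hc
    calc (A : M2) = (A : M2).trace⁻¹ • ((A : M2).trace • (A : M2)) := (inv_smul_smul₀ ht _).symm
      _ = _ := by rw [hc, ← smul_smul, add_smul, one_smul]
  refine ⟨?_, ht⟩
  rw [sq_eq, ht, zero_smul, zero_sub]

/-- A matrix commuting up to a scalar with both quaternion generators is a scalar times one of them. -/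
theorem comm_cases {ω : K} (hω : ω ^ 2 + ω + 1 = 0) (h2 : (2 : K) ≠ 0) (h3 : (3 : K) ≠ 0) {Z : M2}
    (h1 : Z * !![1, 2; 1, -1] = !![1, 2; 1, -1] * Z)
    (h2' : Z * !![1, 2 * ω; ω ^ 2, -1] = !![1, 2 * ω; ω ^ 2, -1] * Z) :
    Z = Z 0 0 • 1 := by
  have a := congrFun (congrFun h1 0) 0
  have b := congrFun (congrFun h1 0) 1
  have c := congrFun (congrFun h2' 0) 0
  simp [Matrix.mul_apply, vecMul, dotProduct, Fin.sum_univ_two] at a b c
  have e1 : Z 1 0 = 0 := by
    rcases mul_eq_zero.1 (show 2 * (ω - ω ^ 2) * Z 1 0 = 0 by linear_combination ω ^ 2 * a - c) with e | e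
    · exact absurd e (mul_ne_zero h2 (delta_ne hω h3))
    · exact e
  have e2 : Z 0 1 = 0 := by linear_combination a + 2 * e1
  have e3 : Z 1 1 = Z 0 0 := by
    rcases mul_eq_zero.1 (show 2 * (Z 1 1 - Z 0 0) = 0 by linear_combination -b - 2 * e2) with e | e
    · exact absurd e h2
    · exact sub_eq_zero.1 e
  ext i j
  fin_cases i <;> fin_cases j <;> simp [e1, e2, e3]

theorem quat_one {W G H : M2} (hG : W * G = G * W) (hH : W * H = -(H * W)) (an : H * G = -(G * H)) :
    W * G * G = G * (W * G) ∧ W * G * H = H * (W * G) := by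
  constructor
  · rw [← Matrix.mul_assoc G, ← hG]
  · rw [hG, Matrix.mul_assoc G, hH, mul_neg, ← Matrix.mul_assoc G H, ← Matrix.mul_assoc H G, an, Matrix.neg_mul]

theorem quat_both {W G H : M2} (hG : W * G = -(G * W)) (hH : W * H = -(H * W)) (an : H * G = -(G * H)) :
    W * (G * H) * G = G * (W * (G * H)) ∧ W * (G * H) * H = H * (W * (G * H)) := by
  have wG : ∀ A : M2, W * (G * A) = -(G * (W * A)) := fun A => by
    rw [← Matrix.mul_assoc, hG, Matrix.neg_mul, Matrix.mul_assoc]
  have wH : ∀ A : M2, W * (H * A) = -(H * (W * A)) := fun A => by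
    rw [← Matrix.mul_assoc, hH, Matrix.neg_mul, Matrix.mul_assoc]
  have aa : ∀ A : M2, H * (G * A) = -(G * (H * A)) := fun A => by
    rw [← Matrix.mul_assoc, an, Matrix.neg_mul, Matrix.mul_assoc]
  constructor <;> simp only [Matrix.mul_assoc, wG, wH, aa, hG, hH, an, mul_neg, Matrix.neg_mul, neg_neg]

namespace Setup

variable {ω : K} {M : Subgroup (GL3 K)} (h : Setup p ω M)
include h

/-- The map to the projective plane group. -/
def Img (g : M3) (x : PSL) : Prop :=
  ∃ (A : SL2) (μ : K), (A : M2) = μ • (tB h.two).pl g ∧ proj A = x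

theorem img_exists {g : GL3 K} (hg : g ∈ M) (hf : (tB h.two).Fits (g : M3)) :
    ∃ x, h.Img (g : M3) x := by
  obtain ⟨μ, hμ⟩ := h.sq g hg _ hf.isRoot_ln
  exact ⟨_, ⟨μ • (tB h.two).pl (g : M3), by
    rw [det_smul, Fintype.card_fin, pow_two, ← hμ, ← hf.det_eq, h.det g hg]⟩, μ, rfl, rfl⟩

theorem img_mul {g g' : M3} {x x' : PSL} (hf : (tB h.two).Fits g') (h1 : h.Img g x) (h1' : h.Img g' x') :
    h.Img (g * g') (x * x') := by
  obtain ⟨A, μ, eA, rfl⟩ := h1
  obtain ⟨A', μ', eA', rfl⟩ := h1'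
  refine ⟨A * A', μ * μ', ?_, map_mul _ _ _⟩
  rw [cmul, eA, eA', Blk.pl_mul hf, Matrix.smul_mul, Matrix.mul_smul, smul_smul]

theorem img_unique {g : M3} {x x' : PSL} (h1 : h.Img g x) (h1' : h.Img g x') : x = x' := by
  obtain ⟨A, μ, eA, rfl⟩ := h1
  obtain ⟨A', μ', eA', rfl⟩ := h1'
  have hμ : μ ≠ 0 := by
    rintro rfl
    have := cdet A
    rw [eA, zero_smul, det_zero] at this
    exact zero_ne_one this
  have e : ((A⁻¹ * A' : SL2) : M2) = (μ⁻¹ * μ') • (1 : M2) := by
    have h0 : ((A⁻¹ : SL2) : M2) * (A : M2) = 1 := by rw [← cmul, inv_mul_cancel, cone]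
    have e' : (A' : M2) = (μ⁻¹ * μ') • (A : M2) := by
      rw [eA, eA', smul_smul]
      congr 1
      field_simp
    rw [cmul, e', Matrix.mul_smul, h0]
  have := (pm_iff _).1 (scalar_pm _ e)
  rw [map_mul, map_inv, inv_mul_eq_one] at this
  exact this

theorem img_one_iff {g : M3} {x : PSL} (h1 : h.Img g x) :
    x = 1 ↔ ∃ β : K, (tB h.two).pl g = β • 1 := by
  obtain ⟨A, μ, eA, rfl⟩ := h1
  have hμ : μ ≠ 0 := by
    rintro rfl
    have := cdet A
    rw [eA, zero_smul, det_zero] at this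
    exact zero_ne_one this
  rw [← pm_iff]
  constructor
  · intro hA
    obtain ⟨c, hc⟩ := pm_scalar hA
    exact ⟨μ⁻¹ * c, by rw [← smul_smul, ← hc, eA, smul_smul, inv_mul_cancel₀ hμ, one_smul]⟩
  · rintro ⟨β, hβ⟩
    exact scalar_pm A (c := μ * β) (by rw [eA, hβ, smul_smul])

theorem img_one : h.Img (1 : M3) 1 := ⟨1, 1, by rw [Blk.pl_one, one_smul, cone], map_one _⟩

theorem img_pow {g : M3} {x : PSL} (hf : (tB h.two).Fits g) (h1 : h.Img g x) : ∀ n : ℕ, h.Img (g ^ n) (x ^ n)
  | 0 => by simpa using h.img_one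
  | n + 1 => by rw [pow_succ, pow_succ]; exact h.img_mul hf (img_pow hf h1 n) h1

theorem img_eq {g g' : GL3 K} {x : PSL} (hg : g ∈ M) (hg' : g' ∈ M) (hf : (tB h.two).Fits (g : M3))
    (hf' : (tB h.two).Fits (g' : M3)) (h1 : h.Img (g : M3) x) (h1' : h.Img (g' : M3) x) :
    ∃ i < 3, ((g' * g⁻¹ : GL3 K) : M3) = ω ^ i • 1 ∨ ((g' * g⁻¹ : GL3 K) : M3) = ω ^ i • tm := by
  have hfw : (tB h.two).Fits ((g' * g⁻¹ : GL3 K) : M3) := by rw [Units.val_mul]; exact hf'.mul hf.inv
  obtain ⟨y, hy⟩ := h.img_exists (mul_mem hg' (inv_mem hg)) hfw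
  have h2 := h.img_mul hf hy h1
  rw [← Units.val_mul, inv_mul_cancel_right] at h2
  have : y = 1 := mul_eq_right.1 (h.img_unique h2 h1')
  obtain ⟨β, hβ⟩ := (h.img_one_iff hy).1 this
  exact h.plane_kernel (mul_mem hg' (inv_mem hg)) hfw hβ

theorem ln_kernel {g : M3} (h1 : ∃ i < 3, g = ω ^ i • 1 ∨ g = ω ^ i • tm) :
    (tB h.two).ln g ^ 3 = 1 ∧ (tB h.two).Fits g := by
  obtain ⟨i, -, e | e⟩ := h1 <;>
    rw [e, Blk.ln_smul] <;> simp only [Blk.ln_one, tB_ln_t, mul_one] <;>
    refine ⟨by rw [← pow_mul, mul_comm, pow_mul, om3 h.om, one_pow], ?_⟩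
  · rw [Blk.Fits, Matrix.smul_mul, Matrix.mul_smul, Matrix.one_mul, Matrix.mul_one]
  · rw [Blk.Fits, Matrix.smul_mul, Matrix.mul_smul, show tm * (tB h.two).prj = (tB h.two).prj * tm from tB_fits_t _]

set_option maxHeartbeats 4000000 in
/-- The structure of the centraliser, given an element inverting the fixed line and no homologies. -/
theorem exists_CT (hD : ¬ ∃ g ∈ M, ∃ c : K, (g : M3) = c • Dm ω)
    (hs : ∃ s ∈ M, s * s = 1 ∧ (tB h.two).Fits (s : M3) ∧ (tB h.two).ln (s : M3) = -1) :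
    ∃ k c j, CT ω M h.two k c j := by
  classical
  have h2 := h.two
  have h3 := h.three
  have hω := h.om
  have h7 := h.p7
  have hd := delta_ne hω h3
  set B := tB h2 with hB
  set X : Subgroup PSL := (B.planeSL M).map proj with hX
  have hrep : ∀ x : X, ∃ g, g ∈ M ∧ B.Fits (g : M3) ∧ h.Img (g : M3) x.1 := by
    rintro ⟨x, A, ⟨g, hg, hf, μ, eA⟩, rfl⟩
    exact ⟨g, hg, hf, A, μ, eA, rfl⟩
  choose ψ hψM hψF hψI using hrep
  have mem : ∀ {g : GL3 K}, g ∈ M → B.Fits (g : M3) → ∀ {x}, h.Img (g : M3) x → x ∈ X := by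
    rintro g hg hf x ⟨A, μ, eA, rfl⟩
    exact ⟨A, ⟨g, hg, hf, μ, eA⟩, rfl⟩
  let fv : X → K := fun x => B.ln (ψ x : M3) ^ 3
  have fwd : ∀ {g : GL3 K}, g ∈ M → B.Fits (g : M3) → ∀ {x : X}, h.Img (g : M3) x.1 → fv x = B.ln (g : M3) ^ 3 := by
    intro g hg hf x hx
    obtain ⟨h1, h1'⟩ := h.ln_kernel (h.img_eq (hψM x) hg (hψF x) hf (hψI x) hx)
    have e : (g : M3) = ((g * (ψ x)⁻¹ : GL3 K) : M3) * (ψ x : M3) := by
      rw [← Units.val_mul, inv_mul_cancel_right]
    show B.ln (ψ x : M3) ^ 3 = _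
    rw [e, Blk.ln_mul (hψF x), mul_pow, h1, one_mul]
  let f : X →* K :=
    { toFun := fv
      map_one' := by
        rw [fwd (g := 1) (one_mem _) (by rw [Units.val_one]; exact Blk.fits_one) (x := 1)
          (by rw [Units.val_one]; exact h.img_one), Units.val_one, Blk.ln_one, one_pow]
      map_mul' := fun x y => by
        rw [fwd (g := ψ x * ψ y) (mul_mem (hψM x) (hψM y))
          (by rw [Units.val_mul]; exact (hψF x).mul (hψF y)) (x := x * y)
          (by rw [Units.val_mul]; exact h.img_mul (hψF y) (hψI x) (hψI y)),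
          Units.val_mul, Blk.ln_mul (hψF y), mul_pow] }
  have hf_val : ∀ {g : GL3 K}, g ∈ M → B.Fits (g : M3) → ∀ {x : X}, h.Img (g : M3) x.1 →
      f x = B.ln (g : M3) ^ 3 := fun hg hf _ hx => fwd hg hf hx
  -- the quaternion generators
  obtain ⟨g, hg, eg⟩ := h.mg
  obtain ⟨g', hg', eg'⟩ := h.mh
  obtain ⟨t, ht, et⟩ := h.mem_t
  have fg : B.Fits (g : M3) := eg ▸ tB_fits_g h2 hω h3
  have fg' : B.Fits (g' : M3) := eg' ▸ tB_fits_h h2 hω h3
  have ft : B.Fits (t : M3) := et ▸ tB_fits_t h2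
  obtain ⟨a₀, ha₀⟩ := h.img_exists hg fg
  obtain ⟨b₀, hb₀⟩ := h.img_exists hg' fg'
  set a : X := ⟨a₀, mem hg fg ha₀⟩ with hadef
  set b : X := ⟨b₀, mem hg' fg' hb₀⟩ with hbdef
  have it : h.Img (tm : M3) 1 := ⟨1, -1, by rw [tB_pl_t, cone, smul_neg, neg_smul, one_smul, neg_neg], map_one _⟩
  have ha2 : a * a = 1 := by
    have := h.img_mul fg ha₀ ha₀
    rw [eg, gm_sq hω h3] at this
    exact Subtype.ext (h.img_unique this it)
  have hb2 : b * b = 1 := by
    have := h.img_mul fg' hb₀ hb₀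
    rw [eg', hgm_sq hω h3] at this
    exact Subtype.ext (h.img_unique this it)
  have hdd : (ω - ω ^ 2)⁻¹ ≠ 0 := inv_ne_zero hd
  have ha1 : a ≠ 1 := fun e => by
    obtain ⟨β, hβ⟩ := (h.img_one_iff ha₀).1 (congrArg Subtype.val e)
    rw [eg, tB_pl_g h2 hω h3] at hβ
    have := congrFun (congrFun hβ 0) 1
    simp [hdd, h2] at this
  have hb1 : b ≠ 1 := fun e => by
    obtain ⟨β, hβ⟩ := (h.img_one_iff hb₀).1 (congrArg Subtype.val e)
    rw [eg', tB_pl_h h2 hω h3] at hβ
    have := congrFun (congrFun hβ 0) 1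
    simp [hdd, h2, om_ne_zero hω] at this
  have hab : a ≠ b := fun e => by
    have hb' : h.Img (g' : M3) a₀ := by
      have := congrArg Subtype.val e
      rw [show a₀ = b₀ from this]
      exact hb₀
    obtain ⟨β, hβ⟩ := (h.img_one_iff (h.img_mul fg' ha₀ hb')).1 (congrArg Subtype.val ha2)
    rw [Blk.pl_mul fg', eg, eg', tB_pl_g h2 hω h3, tB_pl_h h2 hω h3] at hβ
    have h01 := congrFun (congrFun hβ 0) 1
    simp [Matrix.mul_apply, Fin.sum_univ_two, hdd] at h01
    rcases mul_eq_zero.1 (show (ω - ω ^ 2)⁻¹ * (ω - ω ^ 2)⁻¹ * (2 * (ω - 1)) = 0 by linear_combination h01)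
      with e' | e'
    · exact mul_ne_zero hdd hdd e'
    · exact mul_ne_zero h2 (sub_ne_zero.2 (om_ne_one hω h3)) e'
  have habc : a * b = b * a := by
    have e : (g : M3) * (g' : M3) = (g' : M3) * (g : M3) * tm := by
      refine (fg.mul fg').ext ((fg'.mul fg).mul (tB_fits_t h2)) ?_ ?_
      · rw [Blk.pl_mul fg', Blk.pl_mul (tB_fits_t h2), Blk.pl_mul fg, tB_pl_t, eg, eg', tB_pl_g h2 hω h3,
          tB_pl_h h2 hω h3, mul_neg, mul_one]
        ext i j
        fin_cases i <;> fin_cases j <;> simp [Matrix.mul_apply, Fin.sum_univ_two] <;> grind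
      · rw [Blk.ln_mul fg', Blk.ln_mul (tB_fits_t h2), Blk.ln_mul fg, tB_ln_t, mul_one, mul_comm]
    have h1 := h.img_mul fg' ha₀ hb₀
    rw [e] at h1
    have h1' := h.img_mul (tB_fits_t h2) (h.img_mul fg hb₀ ha₀) it
    rw [mul_one] at h1'
    exact Subtype.ext (h.img_unique h1 h1')
  have fa : f a = 1 := by rw [hf_val hg fg (x := a) ha₀, eg, tB_ln_g h2 hω h3, one_pow]
  have fb : f b = 1 := by rw [hf_val hg' fg' (x := b) hb₀, eg', tB_ln_h h2 hω h3, one_pow]
  obtain ⟨s, hs1, hs2, fs, ls⟩ := hs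
  obtain ⟨s₀, hs₀⟩ := h.img_exists hs1 fs
  set x : X := ⟨s₀, mem hs1 fs hs₀⟩ with hxdef
  have hx2 : x * x = 1 := by
    have := h.img_mul fs hs₀ hs₀
    rw [← Units.val_mul, hs2, Units.val_one] at this
    exact Subtype.ext (h.img_unique this h.img_one)
  have fx : f x = -1 := by
    rw [hf_val hs1 fs (x := x) hs₀, ls]
    norm_num
  have fx1 : f x ≠ 1 := by rw [fx]; intro e; exact h2 (by linear_combination -e)
  have hPF : PFree p (B.planeSL M) := B.planeSL_pfree p (by omega) h.notv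
  rcases shape p hPF (by omega) with hc | ⟨c₀, -, ⟨e⟩⟩ | ⟨⟨e⟩⟩ | ⟨⟨e⟩⟩ | ⟨⟨e⟩⟩
  · -- cyclic
    exfalso
    haveI : Fintype X := Fintype.ofFinite X
    haveI : DecidableEq X := Classical.decEq X
    have hle := IsCyclic.card_pow_eq_one_le (α := X) (n := 2) two_pos
    have hsub : ({1, a, b} : Finset X) ⊆ Finset.univ.filter (fun y : X => y ^ 2 = 1) := by
      intro y hy
      simp only [Finset.mem_insert, Finset.mem_singleton] at hy
      rcases hy with rfl | rfl | rfl <;> simp [pow_two, ha2, hb2]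
    have h3' : ({1, a, b} : Finset X).card = 3 := Finset.card_eq_three.2 ⟨1, a, b, ha1.symm, hb1.symm, hab, rfl⟩
    have := (Finset.card_le_card hsub).trans hle
    omega
  · -- dihedral
    set k := orderOf c₀
    haveI : NeZero k := ⟨(orderOf_pos c₀).ne'⟩
    let F : DihedralGroup k →* K := f.comp e.symm.toMonoidHom
    have Fe : ∀ y : X, F (e y) = f y := fun y => by simp [F]
    have inv2 : ∀ {y : X}, y * y = 1 → e y * e y = 1 := fun {y} hy => by rw [← map_mul, hy, map_one]
    obtain ⟨h4, hr1, J, hJ, fJ⟩ := dihedral_facts h2 F (inv2 ha2) (inv2 hb2) (by simpa using ha1)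
      (by simpa using hb1) (fun e' => hab (e.injective e')) (by rw [← map_mul, habc, map_mul])
      (by rw [Fe, fa]) (by rw [Fe, fb]) (inv2 hx2) (by rw [Fe]; exact fx1)
    -- the reflection
    have fgg : B.Fits ((g * g' : GL3 K) : M3) := by rw [Units.val_mul]; exact fg.mul fg'
    obtain ⟨j, hj, fj, lj, yJ, iJ, rfl, jr⟩ : ∃ j ∈ M, B.Fits (j : M3) ∧ B.ln (j : M3) = 1 ∧
        ∃ y : X, h.Img (j : M3) y.1 ∧ e y = J ∧ ∃ i, J = DihedralGroup.sr i := by
      have l1 : B.ln (g : M3) = 1 := by rw [eg]; exact tB_ln_g h2 hω h3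
      have l2 : B.ln (g' : M3) = 1 := by rw [eg']; exact tB_ln_h h2 hω h3
      rcases hJ with ⟨⟨i, hi⟩, e'⟩ | ⟨⟨i, hi⟩, e'⟩ | ⟨⟨i, hi⟩, e'⟩
      · exact ⟨g, hg, fg, l1, a, ha₀, e'.symm, i, e'.trans hi⟩
      · exact ⟨g', hg', fg', l2, b, hb₀, e'.symm, i, e'.trans hi⟩
      · exact ⟨g * g', mul_mem hg hg', fgg, by rw [Units.val_mul, Blk.ln_mul fg', l1, l2, one_mul], a * b,
          by rw [Units.val_mul]; exact h.img_mul fg' ha₀ hb₀, by rw [map_mul]; exact e'.symm, i, e'.trans hi⟩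
    obtain ⟨ij, hij⟩ := jr
    -- the rotation
    set y₁ : X := e.symm (DihedralGroup.r 1) with hy₁
    have fy₁ : f y₁ = -1 := hr1
    obtain ⟨i, -, hi⟩ := h.cube_root (x := -B.ln (ψ y₁ : M3)) (by
      have e' : B.ln (ψ y₁ : M3) ^ 3 = -1 := fy₁
      linear_combination -e')
    obtain ⟨c, hc, ec⟩ : ∃ c ∈ M, (c : M3) = ω ^ (2 * i) • (ψ y₁ : M3) := by
      obtain ⟨z, hz, ez⟩ := h.mem_zt (i := 2 * i) (s := 1) (Or.inl rfl)
      exact ⟨z * ψ y₁, mul_mem hz (hψM y₁), by rw [Units.val_mul, ez, Matrix.smul_mul, Matrix.one_mul]⟩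
    have hω0 := om_ne_zero hω
    have hω3 := om3 hω
    have fc : B.Fits (c : M3) := by
      rw [ec, Blk.Fits, Matrix.smul_mul, Matrix.mul_smul, show (ψ y₁ : M3) * B.prj = B.prj * (ψ y₁ : M3) from hψF y₁]
    have lc : B.ln (c : M3) = -1 := by
      rw [ec, Blk.ln_smul, eq_neg_iff_add_eq_zero]
      have : B.ln (ψ y₁ : M3) = -(ω ^ i) := by linear_combination -hi
      rw [this, mul_neg, ← pow_add, show 2 * i + i = 3 * i by ring, pow_mul, hω3, one_pow, neg_add_cancel]
    have ic : h.Img (c : M3) y₁.1 := by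
      obtain ⟨A, μ, eA, hA⟩ := hψI y₁
      refine ⟨A, μ * (ω ^ (2 * i))⁻¹, ?_, hA⟩
      rw [ec, Blk.pl_smul, smul_smul, mul_assoc, inv_mul_cancel₀ (pow_ne_zero _ hω0), mul_one]
      exact eA
    have hy₁n : ∀ n : ℕ, e (y₁ ^ n) = DihedralGroup.r (n : ZMod k) := fun n => by
      rw [map_pow, hy₁, MulEquiv.apply_symm_apply, DihedralGroup.r_one_pow]
    have scal : ∀ (n : ℕ) (β : K), B.pl ((c : M3) ^ n) = β • 1 → k ∣ n := fun n β hβ => by
      have h1 : y₁ ^ n = 1 := Subtype.ext (by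
        rw [Subgroup.coe_pow]
        exact ((h.img_one_iff (h.img_pow fc ic n)).2 ⟨β, hβ⟩).trans rfl)
      have := hy₁n n
      rw [h1, map_one, DihedralGroup.one_def] at this
      exact (ZMod.natCast_eq_zero_iff n k).1 (DihedralGroup.r.inj this).symm
    have kpos : 0 < k := Nat.pos_of_ne_zero (NeZero.ne k)
    -- c^k
    have ck : (c : M3) ^ k = tm := by
      obtain ⟨A, μ, eA, hA⟩ := ic
      obtain ⟨k', hk'⟩ := h4
      set m := 2 * k'
      have hkm : k = m + m := by omega
      have hAm : ¬ Pm (A ^ m) := fun hh => by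
        have := (pm_iff _).1 hh
        rw [map_pow, hA, ← Subgroup.coe_pow] at this
        have h2' := hy₁n m
        rw [show y₁ ^ m = 1 from Subtype.ext this, map_one, DihedralGroup.one_def] at h2'
        have := Nat.le_of_dvd (by omega) ((ZMod.natCast_eq_zero_iff m k).1 (DihedralGroup.r.inj h2').symm)
        omega
      have hAk : Pm ((A ^ m) ^ 2) := by
        rw [← pow_mul, pm_iff, map_pow, hA, ← Subgroup.coe_pow]
        have h2' := hy₁n (m * 2)
        rw [show m * 2 = k by omega, ZMod.natCast_self, ← DihedralGroup.one_def, ← map_one e] at h2'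
        rw [show m * 2 = k by omega, e.injective h2']
        rfl
      obtain ⟨hneg, -⟩ := sq_neg h2 hAm hAk
      have hμ2 : μ ^ 2 = -1 := by
        have h1 := cdet A
        rw [eA, det_smul, Fintype.card_fin] at h1
        have h1' := h.det c hc
        rw [fc.det_eq, lc] at h1'
        linear_combination -h1 + (-(μ ^ 2)) * h1'
      have hμk : μ ^ k = 1 := by
        rw [show k = 2 * m by omega, pow_mul, hμ2]
        exact (even_two_mul k').neg_one_pow
      have hpl : B.pl ((c : M3) ^ k) = -1 := by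
        rw [(Blk.pl_pow fc k).2.1]
        have e' : ((A ^ m : SL2) : M2) = (A : M2) ^ m := rfl
        rw [e', ← pow_add, ← hkm, eA, smul_pow, hμk, one_smul] at hneg
        exact hneg
      refine (Blk.pl_pow fc k).1.ext (tB_fits_t h2) (by rw [hpl, tB_pl_t]) ?_
      rw [(Blk.pl_pow fc k).2.2, lc, tB_ln_t, (show Even k from ⟨m, hkm⟩).neg_one_pow]
    -- j
    have hyJ1 : yJ ≠ 1 := fun e' => by rw [e', map_one, DihedralGroup.one_def] at hij; exact nomatch hij
    have pj : ¬ ∃ β : K, B.pl (j : M3) = β • 1 := fun hh =>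
      hyJ1 (Subtype.ext ((h.img_one_iff iJ).2 hh))
    have hyJ2 : yJ * yJ = 1 := e.injective (by rw [map_mul, hij, DihedralGroup.sr_mul_self, map_one])
    have jj : (j : M3) * (j : M3) = tm := by
      obtain ⟨A, μ, eA, hA⟩ := iJ
      have hA1 : ¬ Pm A := fun hh => hyJ1 (Subtype.ext (hA.symm.trans ((pm_iff _).1 hh)))
      have hA2 : Pm (A ^ 2) := by
        rw [pm_iff, pow_two, map_mul, hA, ← Subgroup.coe_mul, hyJ2]
        rfl
      obtain ⟨hneg, -⟩ := sq_neg h2 hA1 hA2
      have hμ2 : μ * μ = 1 := by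
        have h1 := cdet A
        rw [eA, det_smul, Fintype.card_fin] at h1
        have h1' := h.det j hj
        rw [fj.det_eq, lj, one_mul] at h1'
        rw [h1', mul_one] at h1
        linear_combination h1
      rw [eA, Matrix.smul_mul, Matrix.mul_smul, smul_smul, hμ2, one_smul, ← Blk.pl_mul fj] at hneg
      exact (fj.mul fj).ext (tB_fits_t h2) (by rw [hneg, tB_pl_t])
        (by rw [Blk.ln_mul fj, lj, tB_ln_t, one_mul])
    -- relation
    have jc : (j : M3) * (c : M3) = ((c⁻¹ : GL3 K) : M3) * tm * (j : M3) := by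
      set w : GL3 K := c * (j * c * j⁻¹) with hw
      have hwM : w ∈ M := mul_mem hc (mul_mem (mul_mem hj hc) (inv_mem hj))
      have fjcj : B.Fits ((j * c * j⁻¹ : GL3 K) : M3) := by
        rw [Units.val_mul, Units.val_mul]
        exact (fj.mul fc).mul fj.inv
      have fw : B.Fits (w : M3) := by rw [hw, Units.val_mul]; exact fc.mul fjcj
      obtain ⟨iinv, hiinv⟩ := h.img_exists (inv_mem hj) fj.inv
      have hinv : iinv = yJ.1⁻¹ := by
        have := h.img_mul fj.inv iJ hiinv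
        rw [← Units.val_mul, mul_inv_cancel, Units.val_one] at this
        exact eq_inv_of_mul_eq_one_right (h.img_unique this h.img_one)
      have iw : h.Img (w : M3) (y₁ * (yJ * y₁ * yJ⁻¹) : X).1 := by
        rw [hw, Units.val_mul]
        refine h.img_mul fjcj ic ?_
        rw [Units.val_mul, Units.val_mul]
        have := h.img_mul fj.inv (h.img_mul fc iJ ic) hiinv
        rw [hinv] at this
        exact this
      have hw1 : (y₁ * (yJ * y₁ * yJ⁻¹) : X) = 1 := e.injective (by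
        rw [map_mul, map_mul, map_mul, map_inv, hy₁, MulEquiv.apply_symm_apply, hij, map_one,
          DihedralGroup.inv_sr, DihedralGroup.sr_mul_r, DihedralGroup.sr_mul_sr, DihedralGroup.r_mul_r,
          DihedralGroup.one_def]
        congr 1
        ring)
      rw [hw1] at iw
      obtain ⟨β, hβ⟩ := (h.img_one_iff iw).1 rfl
      obtain ⟨l, hl, el⟩ := h.plane_kernel hwM fw hβ
      have lw : B.ln (w : M3) = 1 := by
        have hji : B.ln ((j⁻¹ : GL3 K) : M3) = 1 := by
          have := Blk.ln_mul (g := (j : M3)) fj.inv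
          rw [← Units.val_mul, mul_inv_cancel, Units.val_one, Blk.ln_one, lj, one_mul] at this
          exact this.symm
        rw [hw, Units.val_mul, Blk.ln_mul fjcj, Units.val_mul, Units.val_mul, Blk.ln_mul fj.inv, Blk.ln_mul fc, lc, lj,
          hji]
        ring
      have hl0 : ω ^ l = 1 := by
        rcases el with el | el <;>
          · rw [el, Blk.ln_smul] at lw
            first
              | rwa [Blk.ln_one, mul_one] at lw
              | rwa [tB_ln_t, mul_one] at lw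
      rw [hl0, one_smul, one_smul] at el
      rcases el with el | el
      · exfalso
        obtain ⟨A, μ, eA, hA⟩ := ic
        have e1 : (j : M3) * (c : M3) * ((j⁻¹ : GL3 K) : M3) = ((c⁻¹ : GL3 K) : M3) := by
          rw [← Units.val_mul, ← Units.val_mul]
          refine congrArg Units.val (eq_inv_of_mul_eq_one_right (a := c) ?_)
          exact Units.ext (el.trans Units.val_one.symm)
        have e2 := congrArg (fun N : M3 => (B.pl N).trace) e1
        simp only [Blk.pl_mul fj.inv, Blk.pl_mul fc] at e2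
        rw [Matrix.trace_mul_comm, ← Matrix.mul_assoc, Blk.pl_inv B fj, Matrix.one_mul] at e2
        -- inverse trace
        have hdp : (B.pl (c : M3)).det = -1 := by
          have h1' := h.det c hc
          rw [fc.det_eq, lc] at h1'
          linear_combination -h1'
        have hi2 := B.pl_inv fc
        set P := B.pl (c : M3)
        set Q := B.pl ((c⁻¹ : GL3 K) : M3)
        have hQ : Q = -adjugate P := by
          calc Q = Q * (P * adjugate P) * -1 := by rw [mul_adjugate, hdp]; simp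
            _ = _ := by rw [← Matrix.mul_assoc, hi2, Matrix.one_mul, mul_neg, mul_one]
        have htr : P.trace = 0 := by
          rw [hQ, trace_neg, adjugate_fin_two, trace_fin_two, trace_fin_two] at e2
          simp at e2
          rw [trace_fin_two]
          refine (mul_eq_zero.1 (show (2 : K) * (P 0 0 + P 1 1) = 0 by linear_combination e2)).resolve_left h2
        have hA2 : Pm (A ^ 2) := scalar_pm _ (c := -1) (by
          rw [show ((A ^ 2 : SL2) : M2) = (A : M2) * (A : M2) from pow_two _, sq_eq, eA, trace_smul, htr, smul_zero,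
            zero_smul, zero_sub, neg_smul, one_smul])
        rw [pm_iff, map_pow, hA, ← Subgroup.coe_pow] at hA2
        have h2' := hy₁n 2
        rw [show y₁ ^ 2 = 1 from Subtype.ext hA2, map_one, DihedralGroup.one_def] at h2'
        have := Nat.le_of_dvd two_pos ((ZMod.natCast_eq_zero_iff 2 k).1 (DihedralGroup.r.inj h2').symm)
        have := Nat.le_of_dvd kpos h4
        omega
      · have : c * (j * c * j⁻¹) = t := Units.ext (el.trans et.symm)
        have : j * c = c⁻¹ * t * j := by rw [← this]; group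
        rw [← et, ← Units.val_mul, ← Units.val_mul, ← Units.val_mul, this]
    refine ⟨k, c, j, h4, kpos, hc, hj, fc, fj, lc, lj, pj, ck, jj, jc, scal, ?_⟩
    intro z hz fz
    obtain ⟨z₀, hz₀⟩ := h.img_exists hz fz
    set zy : X := ⟨z₀, mem hz fz hz₀⟩
    have fit_pow := fun n => (Blk.pl_pow fc n).1
    have finish : ∀ (n : ℕ) (u : GL3 K), u ∈ M → B.Fits (u : M3) → h.Img ((c : M3) ^ n * (u : M3)) zy.1 →
        ∃ i m : ℕ, (z : M3) = ω ^ i • ((c : M3) ^ m * (u : M3)) := by
      intro n u hu fu hI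
      have hcu : B.Fits ((c ^ n * u : GL3 K) : M3) := by
        rw [Units.val_mul, Units.val_pow_eq_pow_val]; exact (fit_pow n).mul fu
      obtain ⟨l, -, el⟩ := h.img_eq (mul_mem (pow_mem hc n) hu) hz hcu fz
        (by rw [Units.val_mul, Units.val_pow_eq_pow_val]; exact hI) hz₀
      have e' : (z : M3) = ((z * (c ^ n * u)⁻¹ : GL3 K) : M3) * ((c : M3) ^ n * (u : M3)) := by
        rw [← Units.val_pow_eq_pow_val, ← Units.val_mul, ← Units.val_mul, inv_mul_cancel_right]
      rcases el with el | el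
      · exact ⟨l, n, by rw [e', el, Matrix.smul_mul, Matrix.one_mul]⟩
      · refine ⟨l, k + n, ?_⟩
        rw [e', el, Matrix.smul_mul, ← ck, ← Matrix.mul_assoc, ← pow_add]
    generalize hd' : e zy = d'
    cases d' with
    | r v =>
      have hv : zy = y₁ ^ v.val := e.injective (by rw [hd', hy₁n, ZMod.natCast_zmod_val])
      obtain ⟨i', m, e'⟩ := finish v.val 1 (one_mem _) (by rw [Units.val_one]; exact Blk.fits_one) (by
        rw [Units.val_one, mul_one, hv, Subgroup.coe_pow]; exact h.img_pow fc ic _)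
      exact ⟨i', m, Or.inl (by rw [e', Units.val_one, mul_one])⟩
    | sr v =>
      have hv : zy = y₁ ^ (ij - v).val * yJ := e.injective (by
        rw [hd', map_mul, hy₁n, ZMod.natCast_zmod_val, hij, DihedralGroup.r_mul_sr, sub_sub_cancel])
      obtain ⟨i', m, e'⟩ := finish (ij - v).val j hj fj (by
        rw [hv, Subgroup.coe_mul, Subgroup.coe_pow]; exact h.img_mul fj (h.img_pow fc ic _) iJ)
      exact ⟨i', m, Or.inr e'⟩
  · exfalso
    apply fx1
    have := hom_comm_one (f.comp e.symm.toMonoidHom) (inv_comm_a4 (e x) (by rw [← map_mul, hx2, map_one]))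
    simpa using this
  · -- symmetric group
    exfalso
    let F := f.comp e.symm.toMonoidHom
    have Fe : ∀ y : X, F (e y) = f y := fun y => by simp [F]
    have sxo : Equiv.Perm.sign (e x) = -1 := by
      rcases Int.units_eq_one_or (Equiv.Perm.sign (e x)) with h' | h'
      · exact absurd (show f x = 1 by rw [← Fe]; exact hom_comm_one F (comm_s4 _ h')) fx1
      · exact h'
    have key : ∀ y : X, y * y = 1 → f y = 1 → Equiv.Perm.sign (e y) = 1 := by
      intro y hy hfy
      rcases Int.units_eq_one_or (Equiv.Perm.sign (e y)) with h' | h'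
      · exact h'
      · exfalso
        obtain ⟨u, hu⟩ := conj_s4 (e y) (e x) (by rw [← map_mul, hy, map_one]) (by rw [← map_mul, hx2, map_one])
          h' sxo
        have := congrArg F hu
        rw [map_mul, map_mul, Fe, Fe, mul_comm (F u), mul_assoc, ← map_mul, mul_inv_cancel, map_one, mul_one,
          hfy] at this
        exact fx1 this.symm
    obtain ⟨z, hz1, hz2⟩ := cycle_s4 (e a) (e b) (by rw [← map_mul, ha2, map_one]) (by rw [← map_mul, hb2, map_one])
      (by simpa using ha1) (by simpa using hb1) (fun e' => hab (e.injective e')) (key a ha2 fa) (key b hb2 fb)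
    set y : X := e.symm z
    have hy1 : y * a = b * y := e.injective (by
      rw [map_mul, map_mul, MulEquiv.apply_symm_apply, ← hz1, inv_mul_cancel_right])
    have hy2 : y * b = a * b * y := e.injective (by
      rw [map_mul, map_mul, map_mul, MulEquiv.apply_symm_apply, ← hz2, inv_mul_cancel_right])
    set u := ψ y
    set G0 : M2 := !![1, 2; 1, -1]
    set H0 : M2 := !![1, 2 * ω; ω ^ 2, -1]
    set D2 : M2 := !![ω, 0; 0, 1]
    set δi := (ω - ω ^ 2)⁻¹
    have fu := hψF y
    have rel : ∀ {v v' : GL3 K} {q q' : X}, v ∈ M → v' ∈ M → B.Fits (v : M3) → B.Fits (v' : M3) →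
        h.Img (v : M3) q.1 → h.Img (v' : M3) q'.1 → y * q = q' * y →
        ∃ β : K, B.pl (u : M3) * B.pl (v : M3) = β • (B.pl (v' : M3) * B.pl (u : M3)) := by
      intro v v' q q' hv hv' fv fv' iv iv' hq
      have i1 := h.img_mul fv (hψI y) iv
      have i2 := h.img_mul fu iv' (hψI y)
      rw [← Units.val_mul] at i1 i2
      rw [← Subgroup.coe_mul] at i1 i2
      rw [← hq] at i2
      have fuv : B.Fits ((u * v : GL3 K) : M3) := by rw [Units.val_mul]; exact fu.mul fv
      have fvu : B.Fits ((v' * u : GL3 K) : M3) := by rw [Units.val_mul]; exact fv'.mul fu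
      obtain ⟨l, -, el⟩ := h.img_eq (mul_mem hv' (hψM y)) (mul_mem (hψM y) hv) fvu fuv i2 i1
      have e' : ((u * v : GL3 K) : M3) = ((u * v * (v' * u)⁻¹ : GL3 K) : M3) * ((v' * u : GL3 K) : M3) := by
        rw [← Units.val_mul, inv_mul_cancel_right]
      rcases el with el | el <;> rw [el] at e' <;> have e'' := congrArg B.pl e' <;>
        rw [Blk.pl_mul fvu, Blk.pl_smul, Units.val_mul, Units.val_mul, Blk.pl_mul fv, Blk.pl_mul fu] at e''
      · exact ⟨ω ^ l, by rw [e'', Blk.pl_one, Matrix.smul_mul, Matrix.one_mul]⟩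
      · exact ⟨-ω ^ l, by rw [e'', tB_pl_t, smul_neg, Matrix.neg_mul, Matrix.smul_mul, Matrix.one_mul, neg_smul]⟩
    obtain ⟨ε, hε⟩ := rel hg hg' fg fg' ha₀ hb₀ hy1
    have iab : h.Img ((g * g' : GL3 K) : M3) (a * b : X).1 := by rw [Units.val_mul]; exact h.img_mul fg' ha₀ hb₀
    have fgg : B.Fits ((g * g' : GL3 K) : M3) := by rw [Units.val_mul]; exact fg.mul fg'
    obtain ⟨η, hη⟩ := rel hg' (mul_mem hg hg') fg' fgg hb₀ iab hy2
    set Y := B.pl (u : M3)
    set W : M2 := !![ω⁻¹, 0; 0, 1] * Y with hWdef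
    have hY : Y = D2 * W := by
      rw [hWdef, ← Matrix.mul_assoc]
      conv_lhs => rw [← Matrix.one_mul Y]
      congr 1
      ext i j
      fin_cases i <;> fin_cases j <;> simp [D2, Matrix.mul_apply, Fin.sum_univ_two, om_ne_zero hω]
    have hW1 : W * G0 = ε • (G0 * W) := by
      rw [eg, eg', tB_pl_g h2 hω h3,
        tB_pl_h h2 hω h3, Matrix.mul_smul, Matrix.smul_mul, smul_comm ε] at hε
      have e' : Y * G0 = ε • (H0 * Y) := smul_right_injective _ hdd hε
      rw [hWdef, Matrix.mul_assoc, e', Matrix.mul_smul, ← Matrix.mul_assoc, ← Matrix.mul_assoc]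
      congr 2
      ext i j
      fin_cases i <;> fin_cases j <;>
        simp [G0, H0, Matrix.mul_apply, Fin.sum_univ_two] <;> field_simp <;> grind
    have hW2 : W * H0 = (η * δi * ((ω - ω ^ 2) * (-1))) • (H0 * W) := by
      rw [Units.val_mul, Blk.pl_mul fg', eg, eg', tB_pl_g h2 hω h3, tB_pl_h h2 hω h3, Matrix.mul_smul,
        Matrix.smul_mul δi, Matrix.mul_smul, Matrix.smul_mul, Matrix.smul_mul, smul_comm η] at hη
      have e' : Y * H0 = η • (δi • (G0 * H0) * Y) := smul_right_injective _ hdd (by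
        simpa only [Matrix.smul_mul] using hη)
      rw [hWdef, Matrix.mul_assoc, e']
      simp only [Matrix.smul_mul, Matrix.mul_smul, ← Matrix.mul_assoc, smul_smul]
      rw [show !![ω⁻¹, 0; 0, 1] * G0 * H0 = ((ω - ω ^ 2) * (-1)) • (H0 * !![ω⁻¹, 0; 0, 1]) from ?_,
        Matrix.smul_mul, smul_smul]
      ext i j
      fin_cases i <;> fin_cases j <;>
        simp [G0, H0, Matrix.mul_apply, Fin.sum_univ_two] <;> field_simp <;> grind
    generalize η * δi * ((ω - ω ^ 2) * (-1)) = η₀ at hW2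
    have hWd : W.det ≠ 0 := by
      have hYd : Y.det ≠ 0 := fun e0 => by
        have := h.det u (hψM y)
        rw [fu.det_eq, e0, mul_zero] at this
        exact zero_ne_one this
      rw [hY, det_mul] at hYd
      exact right_ne_zero_of_mul hYd
    have sq1 : ∀ {G : M2} {x₀ : K}, G * G = (3 : K) • 1 → W * G = x₀ • (G * W) → x₀ = 1 ∨ x₀ = -1 := by
      intro G x₀ hG he
      have e2 : W * (G * G) = (x₀ * x₀) • ((G * G) * W) := by
        rw [← Matrix.mul_assoc, he, Matrix.smul_mul, Matrix.mul_assoc, he, Matrix.mul_smul, smul_smul,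
          Matrix.mul_assoc]
      rw [hG, Matrix.mul_smul, Matrix.smul_mul, Matrix.mul_one, Matrix.one_mul, smul_smul] at e2
      have hW0 : W ≠ 0 := fun e0 => hWd (by rw [e0, det_zero])
      have h0 : ((3 : K) - x₀ * x₀ * 3) • W = 0 := by rw [sub_smul, ← e2, sub_self]
      have h1 := (smul_eq_zero.1 h0).resolve_right hW0
      apply mul_self_eq_one_iff.1
      exact mul_left_cancel₀ h3 (by linear_combination -h1)
    have G2 : G0 * G0 = (3 : K) • 1 := by
      ext i j; fin_cases i <;> fin_cases j <;> simp [G0, Matrix.mul_apply, Fin.sum_univ_two] <;> ring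
    have H2 : H0 * H0 = (3 : K) • 1 := by
      ext i j; fin_cases i <;> fin_cases j <;> simp [H0, Matrix.mul_apply, Fin.sum_univ_two] <;> grind
    have anti : H0 * G0 = -(G0 * H0) := by
      ext i j; fin_cases i <;> fin_cases j <;> simp [G0, H0, Matrix.mul_apply, Fin.sum_univ_two] <;> grind
    obtain ⟨v, hv, fv, hv1, hv2⟩ : ∃ v ∈ M, B.Fits (v : M3) ∧
        (W * B.pl (v : M3)) * G0 = G0 * (W * B.pl (v : M3)) ∧
          (W * B.pl (v : M3)) * H0 = H0 * (W * B.pl (v : M3)) := by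
      rcases sq1 G2 hW1 with e1 | e1 <;> rcases sq1 H2 hW2 with e2 | e2 <;> rw [e1] at hW1 <;> rw [e2] at hW2
      · refine ⟨1, one_mem _, by rw [Units.val_one]; exact Blk.fits_one, ?_, ?_⟩ <;>
          rw [Units.val_one, Blk.pl_one, Matrix.mul_one]
        · simpa using hW1
        · simpa using hW2
      all_goals simp only [one_smul, neg_one_smul] at hW1 hW2
      · obtain ⟨q1, q2⟩ := quat_one hW1 hW2 anti
        refine ⟨g, hg, fg, ?_, ?_⟩ <;> rw [eg, tB_pl_g h2 hω h3, Matrix.mul_smul, Matrix.smul_mul, Matrix.mul_smul] <;>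
          congr 1
      · obtain ⟨q1, q2⟩ := quat_one hW2 hW1 (show G0 * H0 = -(H0 * G0) by rw [anti, neg_neg])
        refine ⟨g', hg', fg', ?_, ?_⟩ <;> rw [eg', tB_pl_h h2 hω h3, Matrix.mul_smul, Matrix.smul_mul, Matrix.mul_smul] <;>
          congr 1
      · obtain ⟨q1, q2⟩ := quat_both hW1 hW2 anti
        refine ⟨g * g', mul_mem hg hg', fgg, ?_, ?_⟩ <;>
          rw [Units.val_mul, Blk.pl_mul fg', eg, eg', tB_pl_g h2 hω h3, tB_pl_h h2 hω h3] <;>
          simp only [Matrix.mul_smul, Matrix.smul_mul, smul_smul] <;> congr 1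
    have hfin := comm_cases hω h2 h3 hv1 hv2
    refine h.no_diag hD (y := u * v) (mul_mem (hψM y) hv) (by rw [Units.val_mul]; exact fu.mul fv)
      ((W * B.pl (v : M3)) 0 0) ?_
    rw [Units.val_mul, Blk.pl_mul fv]
    show Y * _ = _
    rw [hY, Matrix.mul_assoc]
    conv_lhs => rw [hfin]
    rw [Matrix.mul_smul, Matrix.mul_one]
  · exfalso
    apply fx1
    have := hom_comm_one (f.comp e.symm.toMonoidHom) (inv_comm_a5 (e x) (by rw [← map_mul, hx2, map_one]))
    simpa using this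

end Setup

end CfsgLib.HessianMax
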