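import Cfsg.Agent.Lib.HessianMax.Std
import Cfsg.Prelude.Def_GeometricClasses

/-!
Coordinates in which a symplectic-type group of degree three is the Heisenberg group, and two elements of its normaliser.
-/

set_option autoImplicit false
set_option linter.unusedSectionVars false

namespace CfsgLib.HessianMax

open Matrix Cfsg.Geo

variable {F : Type*} [Field F]

local notation "V" => Fin 3 → F
local notation "MF" => Matrix (Fin 3) (Fin 3) F
local notation "e[" i "]" => (Pi.single i 1 : Fin 3 → F)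

/-- An irreducible group moves every vector out of every proper subspace. -/
theorem exists_move {R : Subgroup (GL (Fin 3) F)} (h : ActsIrreducibly (matrixSet R)) {v : V} (hv : v ≠ 0)
    {W : Submodule F V} (hW : W ≠ ⊤) : ∃ r ∈ R, (r : MF) *ᵥ v ∉ W := by
  by_contra hc
  push Not at hc
  set O : Submodule F V := Submodule.span F {x | ∃ r ∈ R, (r : MF) *ᵥ v = x}
  have hOW : O ≤ W := Submodule.span_le.2 (by rintro x ⟨r, hr, rfl⟩; exact hc r hr)
  have hinv : ∀ s ∈ matrixSet R, O.map (Matrix.toLin' s) ≤ O := by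
    rintro s ⟨t, ht, rfl⟩
    rw [Submodule.map_span, Submodule.span_le]
    rintro x ⟨y, ⟨r, hr, rfl⟩, rfl⟩
    refine Submodule.subset_span ⟨t * r, mul_mem ht hr, ?_⟩
    rw [Units.val_mul, Matrix.toLin'_apply, mulVec_mulVec]
  rcases h O hinv with e | e
  · exact hv ((Submodule.mem_bot F).1 (e ▸ Submodule.subset_span ⟨1, one_mem R, by simp⟩))
  · exact hW (top_le_iff.1 (e ▸ hOW))

theorem isSymplecticTypeGroup_cube {R : Subgroup (GL (Fin 3) F)} (hS : IsSymplecticTypeGroup 3 R) {g : GL (Fin 3) F}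
    (hg : g ∈ R) : g ^ 3 = 1 := by
  have h := hS.exponent_eq
  rw [show 3 * Nat.gcd 2 3 = 3 by norm_num] at h
  have h2 := Monoid.pow_exponent_eq_one (⟨g, hg⟩ : R)
  rw [h] at h2
  exact congrArg Subtype.val h2

/-- A cube root of unity is a power of `ω`. -/
theorem exists_pow_om {ω : F} (hω : ω ^ 2 + ω + 1 = 0) {c : F} (hc : c ^ 3 = 1) : ∃ k, k < 3 ∧ c = ω ^ k := by
  have : (c - 1) * ((c - ω) * (c - ω ^ 2)) = 0 := by
    linear_combination hc + (-c ^ 2 + c * ω) * hω + (1 - ω) * hω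
  rcases mul_eq_zero.1 this with h | h
  · exact ⟨0, by norm_num, by simpa [sub_eq_zero] using h⟩
  rcases mul_eq_zero.1 h with h | h
  · exact ⟨1, by norm_num, by simpa [sub_eq_zero] using h⟩
  · exact ⟨2, by norm_num, sub_eq_zero.1 h⟩

theorem diagonal_mul_Ym_cube (d : V) : (Matrix.diagonal d * (Ym : MF)) ^ 3 = (d 0 * d 1 * d 2) • 1 := by
  ext i j
  fin_cases i <;> fin_cases j <;>
    simp [Ym, pow_succ, pow_zero, Matrix.mul_apply, Fin.sum_univ_three, diagonal] <;> ring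

/-- The nine diagonal matrices of determinant one with cube roots of unity on the diagonal. -/
theorem inR_diag {ω : F} (hω : ω ^ 2 + ω + 1 = 0) {d : V} (hd : ∀ i, d i ^ 3 = 1) (h1 : d 0 * d 1 * d 2 = 1) :
    InR ω (Matrix.diagonal d) := by
  have w3 := om3 hω
  obtain ⟨a, ha, ea⟩ := exists_pow_om hω (hd 0)
  obtain ⟨b, hb, eb⟩ := exists_pow_om hω (hd 1)
  refine ⟨a, b + 2 * a, 0, ?_⟩
  have ec : d 2 = ω ^ (2 * a + 2 * b) := by
    have e1 : d 0 * d 1 * ω ^ (2 * a + 2 * b) = 1 := by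
      rw [ea, eb, ← pow_add, ← pow_add, show a + b + (2 * a + 2 * b) = 3 * (a + b) by ring, pow_mul, w3, one_pow]
    calc d 2 = d 2 * (d 0 * d 1 * ω ^ (2 * a + 2 * b)) := by rw [e1, mul_one]
      _ = (d 0 * d 1 * d 2) * ω ^ (2 * a + 2 * b) := by ring
      _ = _ := by rw [h1, one_mul]
  have hX : Xm ω = Matrix.diagonal ![1, ω, ω ^ 2] := by
    ext i j; fin_cases i <;> fin_cases j <;> simp [Xm, diagonal]
  rw [pow_zero, mul_one, hX, Matrix.diagonal_pow, ← Matrix.diagonal_smul]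
  congr 1
  funext i
  fin_cases i
  · simp [ea]
  · show d 1 = ω ^ a * ω ^ (b + 2 * a)
    rw [eb, ← pow_add, show a + (b + 2 * a) = 3 * a + b by ring, pow_add, pow_mul, w3, one_pow, one_mul]
  · show d 2 = ω ^ a * (ω ^ 2) ^ (b + 2 * a)
    rw [ec, ← pow_mul, ← pow_add, show a + 2 * (b + 2 * a) = 3 * a + (2 * a + 2 * b) by ring, pow_add ω (3 * a),
      pow_mul, w3, one_pow, one_mul]

/-- In suitable coordinates a symplectic-type group with centre of order three is the Heisenberg group. -/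
theorem exists_std [Finite F] (h3 : (3 : F) ≠ 0) {R : Subgroup (GL (Fin 3) F)} (hS : IsSymplecticTypeGroup 3 R)
    (hI : ActsAbsolutelyIrreducibly (matrixSet R)) (hZ : Nat.card (Subgroup.center R) = 3) :
    ∃ (ω : F) (hω : ω ^ 2 + ω + 1 = 0) (P : GL (Fin 3) F), ∀ g, g ∈ R ↔ P⁻¹ * g * P ∈ Rsub F ω hω := by
  classical
  haveI : Fact (Nat.Prime 3) := ⟨Nat.prime_three⟩
  haveI : Finite (GL (Fin 3) F) := Finite.of_injective _ Units.val_injective
  have cube : ∀ g ∈ R, ((g : MF)) ^ 3 = 1 := fun g hg => by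
    rw [← Units.val_pow_eq_pow_val, isSymplecticTypeGroup_cube hS hg, Units.val_one]
  -- the centre
  have scal : ∀ z : R, z ∈ Subgroup.center R → ∃ c : F, c ^ 3 = 1 ∧ ((z : GL (Fin 3) F) : MF) = c • 1 := by
    intro z hz
    obtain ⟨c, hc⟩ := hI.2 ((z : GL (Fin 3) F) : MF) (by
      rintro s ⟨t, ht, rfl⟩
      have := congrArg (fun x : R => ((x : GL (Fin 3) F) : MF)) (Subgroup.mem_center_iff.1 hz ⟨t, ht⟩)
      simpa using this.symm)
    refine ⟨c, ?_, hc⟩
    have := cube z z.2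
    rw [hc, smul_pow, one_pow] at this
    simpa using congrFun (congrFun this 0) 0
  haveI : Nontrivial (Subgroup.center R) := Finite.one_lt_card_iff_nontrivial.1 (by rw [hZ]; norm_num)
  obtain ⟨⟨z, hz⟩, hz1⟩ := exists_ne (1 : Subgroup.center R)
  obtain ⟨ω, hω3, hze⟩ := scal z hz
  have hω1 : ω ≠ 1 := fun e => hz1 (Subtype.ext (Subtype.ext (Units.ext (by rw [hze, e, one_smul]; rfl))))
  have hω : ω ^ 2 + ω + 1 = 0 := by
    have : (ω - 1) * (ω ^ 2 + ω + 1) = 0 := by linear_combination hω3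
    exact (mul_eq_zero.1 this).resolve_left (sub_ne_zero.2 hω1)
  have hω0 := om_ne_zero hω
  have hd3 := delta_ne hω h3
  -- the group is not abelian
  have hne : Subgroup.center R ≠ ⊤ := by
    intro e
    obtain ⟨r, hr, hr0⟩ := exists_move hI.1 (v := e[0]) (fun h => by simpa using congrFun h 0)
      (W := F ∙ e[0]) (fun h => by
        have := congrArg (fun W : Submodule F V => Module.finrank F W) h
        rw [finrank_span_singleton (fun h => by simpa using congrFun h 0), finrank_top, Module.finrank_fin_fun] at this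
        omega)
    obtain ⟨c, -, hc⟩ := scal ⟨r, hr⟩ (e ▸ Subgroup.mem_top _)
    refine hr0 ?_
    have hc' : (r : MF) = c • 1 := hc
    rw [hc', Matrix.smul_mulVec, one_mulVec]
    exact Submodule.smul_mem _ _ (Submodule.mem_span_singleton_self _)
  -- an element of the second centre
  haveI : Nontrivial (R ⧸ Subgroup.center R) := QuotientGroup.nontrivial_iff.2 hne
  haveI : Nontrivial (Subgroup.center (R ⧸ Subgroup.center R)) :=
    (hS.pGroup.to_quotient (Subgroup.center R)).center_nontrivial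
  obtain ⟨⟨abar, habar⟩, ha1⟩ := exists_ne (1 : Subgroup.center (R ⧸ Subgroup.center R))
  obtain ⟨a, rfl⟩ := QuotientGroup.mk_surjective abar
  have haZ : a ∉ Subgroup.center R := fun h => ha1 (Subtype.ext ((QuotientGroup.eq_one_iff a).2 h))
  have twist : ∀ r : R, ∃ k, k < 3 ∧ ((r : GL (Fin 3) F) : MF) * ((a : GL (Fin 3) F) : MF) =
      ω ^ k • (((a : GL (Fin 3) F) : MF) * ((r : GL (Fin 3) F) : MF)) := by
    intro r
    have h := Subgroup.mem_center_iff.1 habar (QuotientGroup.mk r)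
    rw [← QuotientGroup.mk_mul, ← QuotientGroup.mk_mul, QuotientGroup.eq] at h
    obtain ⟨c, hc3, hc⟩ := scal _ h
    obtain ⟨k, hk, hck⟩ := exists_pow_om hω hc3
    -- (r a)⁻¹ (a r) is the scalar c
    have e : ((a : GL (Fin 3) F) : MF) * ((r : GL (Fin 3) F) : MF) =
        c • (((r : GL (Fin 3) F) : MF) * ((a : GL (Fin 3) F) : MF)) := by
      have e1 : (a * r : R) = (r * a) * ((r * a)⁻¹ * (a * r)) := by group
      have e2 := congrArg (fun x : R => ((x : GL (Fin 3) F) : MF)) e1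
      simp only [Subgroup.coe_mul, Units.val_mul] at e2 hc
      rw [e2, hc, Matrix.mul_smul, Matrix.mul_one]
    obtain ⟨k', hk', hk'c⟩ := exists_pow_om hω (c := c⁻¹) (by rw [inv_pow, hc3, inv_one])
    have hc0 : c ≠ 0 := fun e => by simp [e] at hc3
    refine ⟨k', hk', ?_⟩
    rw [e, smul_smul, ← hk'c, inv_mul_cancel₀ hc0, one_smul]
  set A : MF := ((a : GL (Fin 3) F) : MF) with hA
  have hA3 : A ^ 3 = 1 := cube a a.2
  have hA3' : A * (A * A) = 1 := by rw [← hA3, pow_succ, pow_two, mul_assoc]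
  obtain ⟨b, hb⟩ : ∃ b : R, ((b : GL (Fin 3) F) : MF) * A ≠ A * ((b : GL (Fin 3) F) : MF) := by
    by_contra hc
    push Not at hc
    exact haZ (Subgroup.mem_center_iff.2 fun r => Subtype.ext (Units.ext (by
      simpa only [Subgroup.coe_mul, Units.val_mul] using hc r)))
  obtain ⟨k, hk3, hk⟩ := twist b
  set B : MF := ((b : GL (Fin 3) F) : MF) with hB
  have hk0 : ω ^ k ≠ 1 := fun e => hb (by rw [hk, e, one_smul])
  have hB3 : B * (B * B) = 1 := by rw [← cube b b.2, pow_succ, pow_two, mul_assoc]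
  -- an eigenvector
  obtain ⟨v, hv0, l, hl3, hvl⟩ : ∃ v : V, v ≠ 0 ∧ ∃ l : F, l ^ 3 = 1 ∧ A *ᵥ v = l • v := by
    have step : ∀ (l : F) (x : V), (A - l • 1) *ᵥ x = 0 → A *ᵥ x = l • x := fun l x h => by
      rwa [sub_mulVec, smul_mulVec, one_mulVec, sub_eq_zero] at h
    have hprod : (A - (1 : F) • 1) * ((A - ω • 1) * (A - ω ^ 2 • 1)) = (0 : MF) := by
      have : (A - (1 : F) • 1) * ((A - ω • 1) * (A - ω ^ 2 • 1)) =
          A * (A * A) - (1 + ω + ω ^ 2) • (A * A) + (ω + ω ^ 2 + ω ^ 3) • A - ω ^ 3 • (1 : MF) := by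
        simp only [mul_sub, sub_mul, Matrix.mul_smul, Matrix.smul_mul, Matrix.mul_one, Matrix.one_mul, smul_sub,
          smul_smul]
        module
      rw [this, hA3', show 1 + ω + ω ^ 2 = (0 : F) by linear_combination hω, show ω + ω ^ 2 + ω ^ 3 = (0 : F) by
        linear_combination ω * hω, om3 hω]
      simp
    have hv : e[0] ≠ 0 := fun h => by simpa using congrFun h 0
    by_cases h2 : (A - ω ^ 2 • 1) *ᵥ e[0] = 0
    · exact ⟨_, hv, ω ^ 2, by rw [← pow_mul, show 2 * 3 = 3 * 2 by norm_num, pow_mul, om3 hω, one_pow],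
        step _ _ h2⟩
    by_cases h1 : (A - ω • 1) *ᵥ ((A - ω ^ 2 • 1) *ᵥ e[0]) = 0
    · exact ⟨_, h2, ω, om3 hω, step _ _ h1⟩
    refine ⟨_, h1, 1, one_pow 3, step _ _ ?_⟩
    rw [mulVec_mulVec, mulVec_mulVec, mul_assoc, hprod, zero_mulVec]
  obtain ⟨θ, hθ⟩ : ∃ θ : F, θ = (ω ^ k) ^ 2 := ⟨_, rfl⟩
  have hkθ : ω ^ k * θ = 1 := by rw [hθ, ← pow_mul, ← pow_add, show k + k * 2 = 3 * k by ring, pow_mul, om3 hω, one_pow]
  have hAB : A * B = θ • (B * A) := by rw [hk, smul_smul, mul_comm θ, hkθ, one_smul]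
  have eig : ∀ x : V, ∀ c : F, A *ᵥ x = c • x → A *ᵥ (B *ᵥ x) = (θ * c) • (B *ᵥ x) := fun x c h => by
    rw [mulVec_mulVec, hAB, smul_mulVec, ← mulVec_mulVec, h, mulVec_smul, smul_smul]
  obtain ⟨w1, hw1⟩ : ∃ x, x = B *ᵥ v := ⟨_, rfl⟩
  obtain ⟨w2, hw2⟩ : ∃ x, x = B *ᵥ w1 := ⟨_, rfl⟩
  have hB2 : B *ᵥ w2 = v := by rw [hw2, hw1, mulVec_mulVec, mulVec_mulVec, mul_assoc, hB3, one_mulVec]
  have a1 : A *ᵥ w1 = (θ * l) • w1 := hw1 ▸ eig v l hvl
  have a2 : A *ᵥ w2 = (θ * (θ * l)) • w2 := hw2 ▸ eig w1 _ a1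
  have hl0 : l ≠ 0 := fun e => by simp [e] at hl3
  -- coordinates
  have hθ3 : θ ^ 3 = 1 := by rw [hθ, ← pow_mul, ← pow_mul, show k * (2 * 3) = 3 * (k * 2) by ring, pow_mul, om3 hω, one_pow]
  have hθ1 : θ ≠ 1 := fun e => hk0 (by rwa [e, mul_one] at hkθ)
  have hθω : θ = ω ∨ θ = ω ^ 2 := by
    obtain ⟨i, hi, e⟩ := exists_pow_om hω hθ3
    interval_cases i
    · exact absurd (by simpa using e) hθ1
    · exact Or.inl (by simpa using e)
    · exact Or.inr e
  obtain ⟨Q, hQ⟩ : ∃ Q : MF, Q = (Matrix.of ![v, w2, w1])ᵀ := ⟨_, rfl⟩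
  have hQx : ∀ x : V, Q *ᵥ x = x 0 • v + x 1 • w2 + x 2 • w1 := fun x => by
    funext i
    simp [hQ, Matrix.mulVec, dotProduct, Fin.sum_univ_three]
    ring
  have hw10 : w1 ≠ 0 := fun e => hv0 (by rw [← hB2, hw2, e, mulVec_zero, mulVec_zero])
  have hw20 : w2 ≠ 0 := fun e => hv0 (by rw [← hB2, e, mulVec_zero])
  have hθ2 : θ ^ 2 ≠ 1 := fun e => hθ1 (by linear_combination hθ3 - θ * e)
  have hθ0 : θ ≠ 0 := fun e => by simp [e] at hθ3
  have hli : LinearIndependent F ![v, w2, w1] := by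
    refine Module.End.eigenvectors_linearIndependent' (Matrix.toLin' A) ![l, θ * (θ * l), θ * l] ?_ _ ?_
    · intro i j hij
      fin_cases i <;> fin_cases j <;> first
        | rfl
        | (exfalso; simp at hij)
      all_goals first
        | exact hθ2 (mul_right_cancel₀ hl0 (by linear_combination hij))
        | exact hθ2 (mul_right_cancel₀ hl0 (by linear_combination -hij))
        | exact hθ1 (mul_right_cancel₀ hl0 (by linear_combination hij))
        | exact hθ1 (mul_right_cancel₀ hl0 (by linear_combination -hij))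
        | exact hθ1 (mul_right_cancel₀ hl0 (by linear_combination hij.resolve_right hθ0))
        | exact hθ1 (mul_right_cancel₀ hl0 (by linear_combination -(hij.resolve_right hθ0)))
    · intro i
      fin_cases i <;> simp [Module.End.hasEigenvector_iff, hvl, a1, a2, hv0, hw10, hw20]
  have hQu : IsUnit Q.det := by
    rw [← Matrix.isUnit_iff_isUnit_det, hQ, Matrix.isUnit_transpose, ← Matrix.linearIndependent_rows_iff_isUnit]
    exact hli
  obtain ⟨P, hP⟩ : ∃ P : GL (Fin 3) F, (P : MF) = Q := ⟨Matrix.GeneralLinearGroup.mk'' Q hQu, rfl⟩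
  -- conjugates
  have conj : ∀ {g : GL (Fin 3) F} {T : MF}, (g : MF) * Q = Q * T → ((P⁻¹ * g * P : GL (Fin 3) F) : MF) = T := by
    intro g T h
    rw [Units.val_mul, Units.val_mul, mul_assoc, hP, h, ← hP, ← mul_assoc, Units.inv_mul, one_mul]
  let S := R.comap (MulAut.conj P).toMonoidHom
  have memS : ∀ g, g ∈ S ↔ P * g * P⁻¹ ∈ R := fun g => Iff.rfl
  have inS : ∀ g ∈ R, P⁻¹ * g * P ∈ S := fun g hg => (memS _).2 (by simpa [mul_assoc] using hg)
  have cubeS : ∀ g ∈ S, ((g : MF)) ^ 3 = 1 := by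
    intro g hg
    have h := isSymplecticTypeGroup_cube hS ((memS g).1 hg)
    rw [conj_pow, mul_inv_eq_one] at h
    have : g ^ 3 = 1 := mul_left_cancel (h.trans (mul_one P).symm)
    rw [← Units.val_pow_eq_pow_val, this, Units.val_one]
  have hBS : ∃ g ∈ S, (g : MF) = Ym := ⟨_, inS b b.2, conj (by
    refine Matrix.ext_of_mulVec_single fun i => ?_
    rw [← mulVec_mulVec, ← mulVec_mulVec]
    fin_cases i <;> simp [hQx, Ym, mulVec_single_one, ← hB, ← hw1, ← hw2, hB2, mulVec_add, mulVec_smul])⟩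
  have hAS : ∃ g ∈ S, (g : MF) = l • Matrix.diagonal ![1, θ ^ 2, θ] := ⟨_, inS a a.2, conj (by
    refine Matrix.ext_of_mulVec_single fun i => ?_
    rw [← mulVec_mulVec, ← mulVec_mulVec]
    fin_cases i <;> simp [hQx, mulVec_single_one, ← hA, hvl, a1, a2, mulVec_add, mulVec_smul, smul_smul] <;>
      ring_nf)⟩
  have hZS : ∀ i : ℕ, ∃ g ∈ S, (g : MF) = ω ^ i • 1 := by
    intro i
    have hz' : P⁻¹ * (z : GL (Fin 3) F) * P ∈ S := inS z z.2
    refine ⟨_, S.pow_mem hz' i, ?_⟩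
    rw [Units.val_pow_eq_pow_val, conj (T := ω • 1) (by rw [hze, Matrix.mul_smul, Matrix.smul_mul, one_mul, mul_one]),
      smul_pow, one_pow]
  have hXS : ∃ g ∈ S, (g : MF) = Xm ω := by
    obtain ⟨g, hg, ge⟩ := hAS
    obtain ⟨i, hi, hli⟩ := exists_pow_om hω hl3
    obtain ⟨c, hc, ce⟩ := hZS (2 * i)
    have e0 : ω ^ (2 * i) * l = 1 := by
      rw [hli, ← pow_add, show 2 * i + i = 3 * i by ring, pow_mul, om3 hω, one_pow]
    have hX : Xm ω = Matrix.diagonal ![1, ω, ω ^ 2] := by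
      ext i j; fin_cases i <;> fin_cases j <;> simp [Xm, diagonal]
    have h1 : ((c * g : GL (Fin 3) F) : MF) = Matrix.diagonal ![1, θ ^ 2, θ] := by
      rw [Units.val_mul, ce, ge, Matrix.smul_mul, Matrix.one_mul, smul_smul, e0, one_smul]
    rcases hθω with e | e
    · refine ⟨(c * g) ^ 2, S.pow_mem (S.mul_mem hc hg) 2, ?_⟩
      rw [Units.val_pow_eq_pow_val, h1, Matrix.diagonal_pow, hX, e]
      congr 1
      funext i
      fin_cases i <;> simp
      linear_combination ω * om3 hω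
    · refine ⟨c * g, S.mul_mem hc hg, ?_⟩
      rw [h1, hX, e]
      congr 1
      funext i
      fin_cases i <;> simp
      linear_combination ω * om3 hω
  obtain ⟨gX, hgX, eX⟩ := hXS
  obtain ⟨gY, hgY, eY⟩ := hBS
  have fwd : ∀ g : GL (Fin 3) F, InR ω (g : MF) → g ∈ S := by
    rintro g ⟨i, j, m, e⟩
    obtain ⟨c, hc, ce⟩ := hZS i
    have : g = c * (gX ^ j * gY ^ m) := Units.ext (by
      rw [e, Units.val_mul, Units.val_mul, Units.val_pow_eq_pow_val, Units.val_pow_eq_pow_val, ce, eX, eY,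
        Matrix.smul_mul, Matrix.one_mul])
    rw [this]
    exact S.mul_mem hc (S.mul_mem (S.pow_mem hgX j) (S.pow_mem hgY m))
  have bwd : ∀ g ∈ S, InR ω (g : MF) := by
    intro g hg
    -- the eigenspaces of X are permuted
    have hk' : ∃ m : ℕ, (g : MF) * Xm ω = ω ^ m • (Xm ω * (g : MF)) := by
      obtain ⟨m, -, hm⟩ := twist ⟨P * g * P⁻¹, (memS g).1 hg⟩
      obtain ⟨i, hi, hli⟩ := exists_pow_om hω hl3
      have hm' : ((P * g * P⁻¹ : GL (Fin 3) F) : MF) * A = ω ^ m • (A * ((P * g * P⁻¹ : GL (Fin 3) F) : MF)) := hm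
      obtain ⟨T, hTd⟩ : ∃ T : MF, T = Matrix.diagonal ![1, θ ^ 2, θ] := ⟨_, rfl⟩
      have eA : A * Q = l • (Q * T) := by
        rw [← Matrix.mul_smul, hTd]
        refine Matrix.ext_of_mulVec_single fun i => ?_
        rw [← mulVec_mulVec, ← mulVec_mulVec]
        fin_cases i <;> simp [hQx, mulVec_single_one, hvl, a1, a2, mulVec_add, mulVec_smul, smul_smul] <;>
          ring_nf
      have e1 : ((P * g * P⁻¹ : GL (Fin 3) F) : MF) * Q = Q * (g : MF) := by
        rw [Units.val_mul, Units.val_mul, mul_assoc, ← hP, Units.inv_mul, mul_one]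
      have e2 : l • (Q * ((g : MF) * T)) = l • (Q * (ω ^ m • (T * (g : MF)))) := by
        rw [← mul_assoc, ← e1, mul_assoc, ← Matrix.mul_smul, ← eA, ← mul_assoc, hm', Matrix.smul_mul, mul_assoc, e1,
          ← mul_assoc, eA, Matrix.smul_mul, mul_assoc, Matrix.mul_smul, smul_comm]
      have e3 := congrArg (fun Z => ((P⁻¹ : GL (Fin 3) F) : MF) * Z) (smul_right_injective MF hl0 e2)
      simp only [← mul_assoc, ← hP, Units.inv_mul, one_mul] at e3
      have hT : (g : MF) * Matrix.diagonal ![1, θ ^ 2, θ] = ω ^ m • (Matrix.diagonal ![1, θ ^ 2, θ] * (g : MF)) :=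
        hTd ▸ e3
      rcases hθω with e | e
      · refine ⟨2 * m, ?_⟩
        have : Matrix.diagonal ![1, θ ^ 2, θ] * Matrix.diagonal ![1, θ ^ 2, θ] = Xm ω := by
          rw [e, Matrix.diagonal_mul_diagonal]
          ext i j; fin_cases i <;> fin_cases j <;> simp [Xm, diagonal] <;> first | linear_combination ω * om3 hω | ring1
        rw [← this, ← mul_assoc, hT, Matrix.smul_mul, mul_assoc, hT, Matrix.mul_smul, smul_smul, ← pow_add, ← two_mul,
          mul_assoc]
      · refine ⟨m, ?_⟩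
        have : Matrix.diagonal ![1, θ ^ 2, θ] = Xm ω := by
          rw [e]; ext i j; fin_cases i <;> fin_cases j <;> simp [Xm, diagonal] <;> linear_combination ω * om3 hω
        rwa [← this]
    obtain ⟨m, hm⟩ := hk'
    -- multiply by a power of Y to make it diagonal
    have hD : ∃ n : ℕ, ((g * gY ^ n : GL (Fin 3) F) : MF) * Xm ω = Xm ω * ((g * gY ^ n : GL (Fin 3) F) : MF) := by
      refine ⟨2 * m, ?_⟩
      have hYX := InR.X_pow_Y hω 1 (2 * m)
      rw [pow_one, one_mul] at hYX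
      rw [Units.val_mul, Units.val_pow_eq_pow_val, eY, mul_assoc, hYX, Matrix.mul_smul, ← mul_assoc, hm,
        Matrix.smul_mul, smul_smul, ← pow_add, show 2 * m + m = 3 * m by ring, pow_mul, om3 hω, one_pow, one_smul,
        mul_assoc]
    obtain ⟨n, hn⟩ := hD
    obtain ⟨D, hDd⟩ : ∃ D : GL (Fin 3) F, D = g * gY ^ n := ⟨_, rfl⟩
    rw [← hDd] at hn
    have hDS : D ∈ S := hDd ▸ S.mul_mem hg (S.pow_mem hgY n)
    have w12 : ω ^ 2 ≠ 1 := fun e => hω1 (by linear_combination hω3 - ω * e)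
    have ne12 : ω ≠ ω ^ 2 := sub_ne_zero.1 hd3
    obtain ⟨d, hd⟩ : ∃ d : V, (D : MF) = Matrix.diagonal d := by
      refine ⟨fun i => (D : MF) i i, ?_⟩
      ext i j
      by_cases hij : i = j
      · subst hij; rw [diagonal_apply_eq]
      rw [diagonal_apply_ne _ hij]
      have h := congrFun (congrFun hn i) j
      by_contra h0
      fin_cases i <;> fin_cases j <;> simp [Xm, Matrix.mul_apply, Fin.sum_univ_three] at h hij h0
      all_goals first
        | exact hω1 (mul_left_cancel₀ h0 (by linear_combination h))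
        | exact hω1 (mul_left_cancel₀ h0 (by linear_combination -h))
        | exact w12 (mul_left_cancel₀ h0 (by linear_combination h))
        | exact w12 (mul_left_cancel₀ h0 (by linear_combination -h))
        | exact ne12 (mul_left_cancel₀ h0 (by linear_combination h))
        | exact ne12 (mul_left_cancel₀ h0 (by linear_combination -h))
    have hd3' : ∀ i, d i ^ 3 = 1 := fun i => by
      have := congrFun (congrFun (cubeS D hDS) i) i
      rwa [hd, Matrix.diagonal_pow, diagonal_apply_eq, one_apply_eq] at this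
    have hdet : d 0 * d 1 * d 2 = 1 := by
      have := cubeS (D * gY) (S.mul_mem hDS hgY)
      rw [Units.val_mul, hd, eY, diagonal_mul_Ym_cube] at this
      simpa using congrFun (congrFun this 0) 0
    have hDR : InR ω (D : MF) := hd ▸ inR_diag hω hd3' hdet
    have : g = D * gY ^ (2 * n) := by
      rw [hDd, mul_assoc, ← pow_add, show n + 2 * n = 3 * n by ring, pow_mul,
        show gY ^ 3 = 1 from Units.ext (by rw [Units.val_pow_eq_pow_val, eY, Ym_cube, Units.val_one]), one_pow, mul_one]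
    rw [this, Units.val_mul, Units.val_pow_eq_pow_val, eY]
    exact InR.mul hω hDR (InR.pow hω ⟨0, 0, 1, by simp⟩ _)
  refine ⟨ω, hω, P, fun g => ⟨fun hg => bwd _ (inS g hg), fun hg => ?_⟩⟩
  simpa [mul_assoc] using (memS _).1 (fwd _ hg)

section std

variable [Finite F] {ω : F} (hω : ω ^ 2 + ω + 1 = 0) (h3 : (3 : F) ≠ 0)
include hω h3

theorem hgm_det : (hgm ω).det = 1 := by
  have h := congrArg Matrix.det (Dm_g hω)
  have hD : (Dm ω).det = ω := by simp [Dm, det_fin_three]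
  rw [det_mul, det_mul, hD, gm_det hω h3, mul_one] at h
  exact (mul_eq_right₀ (om_ne_zero hω)).1 h.symm

theorem hgm_Y : hgm ω * (Ym : MF) = (ω ^ 2 • (ω • (Xm ω ^ 2 * (Ym : MF)) * Xm ω ^ 2)) * hgm ω := by
  have hu : IsUnit (hgm ω).det := by rw [hgm_det hω h3]; exact isUnit_one
  set A := ω • (Xm ω ^ 2 * (Ym : MF)) with hA
  have hX := hgm_X hω h3
  rw [← hA] at hX
  have e1 : hgm ω * A = Xm ω ^ 2 * hgm ω := by
    haveI := Matrix.invertibleOfIsUnitDet _ hu
    refine (Matrix.mul_left_inj_of_invertible (hgm ω)).1 ?_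
    rw [mul_assoc, ← hX, ← mul_assoc, hgm_sq hω h3, tm_X hω, mul_assoc, hgm_sq hω h3]
  have eY : (Ym : MF) = ω ^ 2 • (Xm ω * A) := by
    rw [hA, Matrix.mul_smul, smul_smul, ← mul_assoc, ← pow_succ', ← pow_succ, Xm_cube hω, om3 hω, one_smul, one_mul]
  conv_lhs => rw [eY]
  rw [Matrix.mul_smul, ← mul_assoc, hX, mul_assoc, e1, ← mul_assoc]
  simp only [hA, Matrix.smul_mul]

theorem gm_mem {g : GL (Fin 3) F} (hg : (g : MF) = gm ω) :
    g ∈ Subgroup.normalizer (Rsub F ω hω : Set (GL (Fin 3) F)) := by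
  refine mem_normalizer_Rsub (A := Ym) (B := Xm ω ^ 2) ⟨0, 0, 1, by simp⟩ ⟨0, 2, 0, by simp⟩ ?_ ?_
  · rw [hg]; exact gm_X hω h3
  · rw [hg]; exact gm_Y hω h3

theorem hgm_mem {g : GL (Fin 3) F} (hg : (g : MF) = hgm ω) :
    g ∈ Subgroup.normalizer (Rsub F ω hω : Set (GL (Fin 3) F)) := by
  have hA : InR ω (ω • (Xm ω ^ 2 * (Ym : MF))) := ⟨1, 2, 1, by simp⟩
  have hB : InR ω (ω ^ 2 • (ω • (Xm ω ^ 2 * (Ym : MF)) * Xm ω ^ 2)) := by
    obtain ⟨a, b, c, h⟩ := InR.mul hω hA (InR.pow hω ⟨0, 1, 0, by simp⟩ 2 : InR ω (Xm ω ^ 2))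
    exact ⟨2 + a, b, c, by rw [h, smul_smul, pow_add]⟩
  refine mem_normalizer_Rsub hA hB ?_ ?_
  · rw [hg]; exact hgm_X hω h3
  · rw [hg]; exact hgm_Y hω h3

omit h3

/-- An element of the group with non-zero last corner has no entry in place (0,1). -/
theorem InR.corner {A : MF} (hA : InR ω A) (h : A 2 2 ≠ 0) : A 0 1 = 0 := by
  obtain ⟨i, j, k, -, -, hk, rfl⟩ := InR.norm hω hA
  have hX : Xm ω = Matrix.diagonal ![1, ω, ω ^ 2] := by
    ext i j; fin_cases i <;> fin_cases j <;> simp [Xm, diagonal]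
  rw [hX, Matrix.diagonal_pow] at h ⊢
  interval_cases k <;> simp [Ym, pow_two, Matrix.mul_apply, Fin.sum_univ_three, diagonal] at h ⊢

theorem det_of_mem {g : GL (Fin 3) F} (hg : g ∈ Rsub F ω hω) : (g : MF).det = 1 := by
  obtain ⟨i, j, k, e⟩ := hg
  have hX : (Xm ω).det = 1 := by simp [Xm, det_fin_three]; linear_combination om3 hω
  have hY : (Ym : MF).det = 1 := by simp [Ym, det_fin_three]
  rw [e, det_smul, det_mul, det_pow, det_pow, hX, hY, one_pow, one_pow, mul_one, mul_one, Fintype.card_fin,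
    ← pow_mul, mul_comm, pow_mul, om3 hω, one_pow]

end std

end CfsgLib.HessianMax
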