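import Cfsg.Agent.Lib.HessianMax.Main
import Cfsg.Agent.Lib.HessianMax.Form
import Cfsg.Agent.Lib.HessianMax.Coord

/-!
Passage to a larger field, and commuting elements of order `p` in a group without transvections.
-/

set_option autoImplicit false
set_option linter.unusedSectionVars false

namespace CfsgLib.HessianMax

open Matrix Polynomial

variable {F : Type*} [Field F]

/-- A field in which all cubics split with all roots squares. -/
theorem exists_big [Finite F] : ∃ P : F[X], ∀ (K : Type _) [Field K] (ι : F →+* K), (P.map ι).Splits →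
    ∀ h : F[X], h.Monic → h.natDegree = 3 →
      (h.map ι).Splits ∧ ∀ x : K, (h.map ι).IsRoot x → IsSquare x := by
  classical
  haveI := Fintype.ofFinite F
  refine ⟨∏ c : Fin 6 → F, (X ^ 6 + ∑ i : Fin 6, C (c i) * X ^ (i : ℕ)), fun K _ ι hP h hm hd => ?_⟩
  have sp : ∀ f : F[X], f.Monic → f.natDegree = 6 → (f.map ι).Splits := by
    intro f hf hf6
    refine hP.of_dvd (Polynomial.map_ne_zero (Finset.prod_ne_zero_iff.2 fun c _ => ?_)) (Polynomial.map_dvd ι ?_)
    · intro e
      have := congrArg (fun q => coeff q 6) e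
      simp [coeff_C_mul, coeff_X_pow, Fin.sum_univ_six] at this
    · refine dvd_trans (dvd_of_eq ?_) (Finset.dvd_prod_of_mem _ (Finset.mem_univ fun i : Fin 6 => f.coeff i))
      conv_lhs => rw [hf.as_sum, hf6, Finset.sum_range]
  refine ⟨?_, fun x hx => ?_⟩
  · exact (sp (h * X ^ 3) (hm.mul (monic_X_pow 3))
      (by rw [hm.natDegree_mul (monic_X_pow 3), hd, natDegree_X_pow])).of_dvd
      (Polynomial.map_ne_zero (mul_ne_zero hm.ne_zero (monic_X_pow 3).ne_zero))
      (Polynomial.map_dvd ι (dvd_mul_right h (X ^ 3)))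
  · have h2 : (h.comp (X ^ 2)).Monic := hm.comp (monic_X_pow 2) (by rw [natDegree_X_pow]; norm_num)
    have hs := sp _ h2 (by rw [natDegree_comp, hd, natDegree_X_pow])
    obtain ⟨k, hk⟩ := dvd_iff_isRoot.2 hx
    have hdvd : (X ^ 2 - C x : K[X]) ∣ (h.comp (X ^ 2)).map ι :=
      ⟨k.comp (X ^ 2), by rw [map_comp, hk, mul_comp, sub_comp, X_comp, C_comp, Polynomial.map_pow, map_X]⟩
    have hs2 := hs.of_dvd (Polynomial.map_ne_zero h2.ne_zero) hdvd
    obtain ⟨y, hy⟩ := hs2.exists_eval_eq_zero (by rw [degree_X_pow_sub_C (by norm_num)]; decide)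
    rw [eval_sub, eval_pow, eval_X, eval_C, sub_eq_zero] at hy
    exact ⟨y, by rw [← hy, pow_two]⟩

/-- A subgroup without transvections containing the standard generators normalises the Heisenberg group. -/
theorem le_normalizer_of_notv [Finite F] {p : ℕ} [Fact p.Prime] [CharP F p] (h7 : 7 ≤ p) {ω : F}
    (hω : ω ^ 2 + ω + 1 = 0) {M : Subgroup (GL3 F)}
    (hdet : ∀ g ∈ M, (g : Matrix (Fin 3) (Fin 3) F).det = 1) (hnotv : NoTv M)
    (hnopp : ∀ u ∈ M, ∀ v ∈ M, u ^ p = 1 → v ^ p = 1 → u ≠ 1 → u * v = v * u → ∃ i : ℕ, v = u ^ i)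
    (mX : ∃ g ∈ M, (g : Matrix (Fin 3) (Fin 3) F) = Xm ω)
    (mY : ∃ g ∈ M, (g : Matrix (Fin 3) (Fin 3) F) = Ym)
    (mg : ∃ g ∈ M, (g : Matrix (Fin 3) (Fin 3) F) = gm ω)
    (mh : ∃ g ∈ M, (g : Matrix (Fin 3) (Fin 3) F) = hgm ω) (five : p = 7 → ¬ 5 ∣ Nat.card M) :
    M ≤ Subgroup.normalizer (Rsub F ω hω : Set (GL3 F)) := by
  obtain ⟨P, hP⟩ := exists_big (F := F)
  let K := P.SplittingField
  let ι : F →+* K := algebraMap F K
  haveI : Finite K := Module.finite_of_finite F
  haveI : CharP K p := charP_of_injective_ringHom ι.injective p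
  have big := hP K ι (SplittingField.splits P)
  let φ : GL3 F →* GL3 K := Matrix.GeneralLinearGroup.map ι
  have val : ∀ g : GL3 F, ((φ g : GL3 K) : Matrix (Fin 3) (Fin 3) K) = (g : Matrix (Fin 3) (Fin 3) F).map ι :=
    fun _ => rfl
  have hinj : Function.Injective fun A : Matrix (Fin 3) (Fin 3) F => A.map ι := Matrix.map_injective ι.injective
  have φinj : Function.Injective φ := fun a b h => Units.ext (hinj (by simpa [val] using congrArg Units.val h))
  have hω' : ι ω ^ 2 + ι ω + 1 = 0 := by rw [← map_pow, ← map_add, ← map_one ι, ← map_add, hω, map_zero]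
  have eX : (Xm ω).map ι = Xm (ι ω) := by ext i j; fin_cases i <;> fin_cases j <;> simp [Xm]
  have eY : (Ym : Matrix (Fin 3) (Fin 3) F).map ι = Ym := by ext i j; fin_cases i <;> fin_cases j <;> simp [Ym]
  have eg : (gm ω).map ι = gm (ι ω) := by ext i j; fin_cases i <;> fin_cases j <;> simp [gm]
  have eh : (hgm ω).map ι = hgm (ι ω) := by ext i j; fin_cases i <;> fin_cases j <;> simp [hgm]
  have eR : ∀ (i j k : ℕ), (ω ^ i • (Xm ω ^ j * (Ym : Matrix (Fin 3) (Fin 3) F) ^ k)).map ι =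
      ι ω ^ i • (Xm (ι ω) ^ j * Ym ^ k) := by
    intro i j k
    show ι.mapMatrix _ = _
    rw [Matrix.smul_eq_diagonal_mul, map_mul, map_mul, map_pow, map_pow, Matrix.smul_eq_diagonal_mul]
    rw [RingHom.mapMatrix_apply, RingHom.mapMatrix_apply, RingHom.mapMatrix_apply, eX, eY,
      Matrix.diagonal_map (map_zero ι)]
    simp
  have memR : ∀ g : GL3 F, g ∈ Rsub F ω hω ↔ φ g ∈ Rsub K (ι ω) hω' := by
    intro g
    rw [mem_Rsub, mem_Rsub, val]
    constructor
    · rintro ⟨i, j, k, e⟩; exact ⟨i, j, k, by rw [e, eR]⟩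
    · rintro ⟨i, j, k, e⟩; exact ⟨i, j, k, hinj (by simp only [e, eR])⟩
  have hcp : ∀ g ∈ M.map φ, ∃ h : F[X], h.Monic ∧ h.natDegree = 3 ∧
      ((g : GL3 K) : Matrix (Fin 3) (Fin 3) K).charpoly = h.map ι := by
    rintro _ ⟨g, hg, rfl⟩
    exact ⟨(g : Matrix (Fin 3) (Fin 3) F).charpoly, charpoly_monic _,
      by rw [charpoly_natDegree_eq_dim, Fintype.card_fin], by rw [val, charpoly_map]⟩
  have h : Setup p (ι ω) (M.map φ) :=
    { p7 := h7
      om := hω'
      det := by
        rintro _ ⟨g, hg, rfl⟩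
        rw [val, ← RingHom.mapMatrix_apply, ← RingHom.map_det, hdet g hg, map_one]
      notv := by
        rintro _ ⟨g, hg, rfl⟩ ⟨h1, h2⟩
        refine hnotv g hg ⟨fun e => h1 (by rw [val, e, Matrix.map_one ι (map_zero ι) (map_one ι)]), hinj ?_⟩
        show ι.mapMatrix _ = ι.mapMatrix 0
        rw [map_mul, map_sub, map_one, map_zero]
        exact h2
      nopp := by
        rintro _ ⟨u, hu, rfl⟩ _ ⟨v, hv, rfl⟩ hup hvp hu1 hc
        obtain ⟨i, e⟩ := hnopp u hu v hv (φinj (by rw [map_pow, hup, map_one]))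
          (φinj (by rw [map_pow, hvp, map_one])) (fun e => hu1 (by rw [e, map_one]))
          (φinj (by rw [map_mul, map_mul, hc]))
        exact ⟨i, by rw [e, map_pow]⟩
      mX := by obtain ⟨g, hg, e⟩ := mX; exact ⟨φ g, ⟨g, hg, rfl⟩, by rw [val, e, eX]⟩
      mY := by obtain ⟨g, hg, e⟩ := mY; exact ⟨φ g, ⟨g, hg, rfl⟩, by rw [val, e, eY]⟩
      mg := by obtain ⟨g, hg, e⟩ := mg; exact ⟨φ g, ⟨g, hg, rfl⟩, by rw [val, e, eg]⟩
      mh := by obtain ⟨g, hg, e⟩ := mh; exact ⟨φ g, ⟨g, hg, rfl⟩, by rw [val, e, eh]⟩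
      split := fun g hg => by
        obtain ⟨f, hf, hd, e⟩ := hcp g hg
        rw [e]; exact (big f hf hd).1
      sq := fun g hg x hx => by
        obtain ⟨f, hf, hd, e⟩ := hcp g hg
        rw [e] at hx; exact (big f hf hd).2 x hx
      five := fun e => by rw [← Nat.card_congr (M.equivMapOfInjective φ φinj).toEquiv]; exact five e }
  intro g hg
  have hn := Subgroup.mem_normalizer_iff.1 (h.main ⟨g, hg, rfl⟩)
  rw [Subgroup.mem_normalizer_iff]
  intro r
  rw [memR, memR, map_mul, map_mul, map_inv]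
  exact hn _

/-- A fixed point of the Frobenius is in the prime field. -/
theorem exists_natCast {p : ℕ} [hp : Fact p.Prime] [CharP F p] {x : F} (hx : x ^ p = x) : ∃ i : ℕ, (i : F) = x := by
  classical
  have hne : (X ^ p - X : F[X]) ≠ 0 := FiniteField.X_pow_card_sub_X_ne_zero F hp.out.one_lt
  by_contra hc
  push Not at hc
  have hsub : insert x ((Finset.range p).image (fun i : ℕ => (i : F))) ⊆ (X ^ p - X : F[X]).roots.toFinset := by
    intro y hy
    rw [Multiset.mem_toFinset, mem_roots hne, IsRoot.def, eval_sub, eval_pow, eval_X, sub_eq_zero]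
    rcases Finset.mem_insert.1 hy with rfl | hy
    · exact hx
    · obtain ⟨i, -, rfl⟩ := Finset.mem_image.1 hy
      rw [← frobenius_def, map_natCast]
  have h1 := Finset.card_le_card hsub
  rw [Finset.card_insert_of_notMem (by simpa using fun i _ => hc i), Finset.card_image_of_injOn
    (fun a ha b hb h => by
      have := (CharP.natCast_eq_natCast F p).1 h
      rwa [Nat.ModEq, Nat.mod_eq_of_lt (Finset.mem_range.1 ha), Nat.mod_eq_of_lt (Finset.mem_range.1 hb)] at this),
    Finset.card_range] at h1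
  have h2 := ((X ^ p - X : F[X]).roots.toFinset_card_le).trans (card_roots' _)
  rw [FiniteField.X_pow_card_sub_X_natDegree_eq F hp.out.one_lt] at h2
  omega

/-- Commuting elements of order `p` are powers of each other, given a condition on the middle coefficient. -/
theorem nopp_of [Finite F] {p : ℕ} [hp : Fact p.Prime] [CharP F p] (h3 : 3 ≤ p) {M : Subgroup (GL3 F)}
    (hnotv : NoTv M)
    (real : ∀ u ∈ M, ∀ v ∈ M, ∀ (n : Matrix (Fin 3) (Fin 3) F) (b c : F),
      (u : Matrix (Fin 3) (Fin 3) F) = 1 + n → n ^ 3 = 0 → n * n ≠ 0 →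
      (v : Matrix (Fin 3) (Fin 3) F) = 1 + b • n + c • (n * n) → b ^ p = b) :
    ∀ u ∈ M, ∀ v ∈ M, u ^ p = 1 → v ^ p = 1 → u ≠ 1 → u * v = v * u → ∃ i : ℕ, v = u ^ i := by
  intro u hu v hv hup hvp hu1 hc
  obtain ⟨n, hn⟩ : ∃ n, n = (u : Matrix (Fin 3) (Fin 3) F) - 1 := ⟨_, rfl⟩
  have ue : (u : Matrix (Fin 3) (Fin 3) F) = 1 + n := by rw [hn]; abel
  have hu' : (u : Matrix (Fin 3) (Fin 3) F) ≠ 1 := fun e => hu1 (Units.ext (by rw [e, Units.val_one]))
  have h30 : n ^ 3 = 0 := by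
    rw [hn]
    exact cube_zero_of_ppow (p := p) (i := 1) (by rw [pow_one, ← Units.val_pow_eq_pow_val, hup, Units.val_one])
  have h2 : n * n ≠ 0 := fun e => hnotv u hu ⟨hu', by rwa [hn] at e⟩
  have h30' : n * (n * n) = 0 := by rw [← h30, pow_succ, pow_two, mul_assoc]
  have hcn : (v : Matrix (Fin 3) (Fin 3) F) * n = n * (v : Matrix (Fin 3) (Fin 3) F) := by
    rw [hn, Matrix.mul_sub, Matrix.sub_mul, Matrix.mul_one, Matrix.one_mul, ← Units.val_mul, ← Units.val_mul, hc]
  obtain ⟨x, hx, -, a, b, c, -, ev⟩ := exists_regnil h30 h2 hcn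
  have hnil : n ^ p = 0 := pow_eq_zero_of_le h3 h30
  have ha : a = 1 := by
    have e : ((v : Matrix (Fin 3) (Fin 3) F)) ^ p = 1 := by rw [← Units.val_pow_eq_pow_val, hvp, Units.val_one]
    rw [ev, show a • (1 : Matrix (Fin 3) (Fin 3) F) + b • n + c • (n * n) =
        a • 1 + n * (b • 1 + c • n) by rw [mul_add, Matrix.mul_smul, Matrix.mul_smul, mul_one, add_assoc],
      add_pow_char_of_commute p ((Commute.one_left _).smul_left a),
      ((Commute.one_right n).smul_right b |>.add_right ((Commute.refl n).smul_right c)).mul_pow, hnil, zero_mul,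
      add_zero, _root_.smul_pow, one_pow] at e
    have h1 : a ^ p = 1 := by simpa using congrFun (congrFun e 0) 0
    have h4 : (a - 1) ^ p = 0 := by rw [sub_pow_char, h1, one_pow, sub_self]
    exact sub_eq_zero.1 (pow_eq_zero_iff hp.out.ne_zero |>.1 h4)
  rw [ha, one_smul] at ev
  obtain ⟨i, hi⟩ := exists_natCast (real u hu v hv n b c ue h30 h2 ev)
  -- the powers of u
  have hpow : ∀ k : ℕ, ∃ d : F, ((u ^ k : GL3 F) : Matrix (Fin 3) (Fin 3) F) = 1 + (k : F) • n + d • (n * n) := by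
    intro k
    induction k with
    | zero => exact ⟨0, by simp⟩
    | succ k ih =>
      obtain ⟨d, hd⟩ := ih
      refine ⟨d + k, ?_⟩
      rw [pow_succ, Units.val_mul, hd, ue]
      simp only [mul_add, add_mul, mul_one, one_mul, Matrix.smul_mul, mul_assoc, h30', smul_zero, Nat.cast_succ]
      module
  obtain ⟨d, hd⟩ := hpow i
  obtain ⟨w, hw⟩ : ∃ w : GL3 F, w = v * (u ^ i)⁻¹ := ⟨_, rfl⟩
  have hwM : w ∈ M := hw ▸ M.mul_mem hv (M.inv_mem (M.pow_mem hu i))
  by_contra hne
  push Not at hne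
  have e1 : (w : Matrix (Fin 3) (Fin 3) F) * (1 + b • n + d • (n * n)) = 1 + b • n + c • (n * n) := by
    rw [← hi, ← hd, ← Units.val_mul, hw, inv_mul_cancel_right, ev, hi]
  have e2 : ((w : Matrix (Fin 3) (Fin 3) F) - 1) * (1 + b • n + d • (n * n)) = (c - d) • (n * n) := by
    rw [Matrix.sub_mul, e1, Matrix.one_mul]; module
  have e3 : (w : Matrix (Fin 3) (Fin 3) F) - 1 = (c - d) • (n * n) * (((u ^ i)⁻¹ : GL3 F) : Matrix (Fin 3) (Fin 3) F) := by
    rw [← e2, ← hi, ← hd, mul_assoc, Units.mul_inv, mul_one]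
  refine hnotv w hwM ⟨fun e => hne i ?_, ?_⟩
  · have : w = 1 := Units.ext (by rw [e, Units.val_one])
    rw [hw, mul_inv_eq_one] at this
    exact this
  · have hcomm : Commute (((u ^ i)⁻¹ : GL3 F) : Matrix (Fin 3) (Fin 3) F) (n * n) := by
      refine Commute.units_inv_left ?_
      have h0 : Commute ((u : Matrix (Fin 3) (Fin 3) F)) n := by
        rw [ue]; exact (Commute.one_left n).add_left (Commute.refl n)
      rw [Units.val_pow_eq_pow_val]
      exact (h0.mul_right h0).pow_left i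
    rw [e3, Matrix.smul_mul, Matrix.smul_mul, Matrix.mul_smul, mul_assoc, ← mul_assoc _ (n * n), hcomm.eq,
      ← mul_assoc (n * n), ← mul_assoc (n * n)]
    simp only [mul_assoc n n n, mul_assoc n n (n * n), h30', mul_zero, zero_mul, smul_zero]

end CfsgLib.HessianMax
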