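import Cfsg.Agent.Lib.HessianMax.Core

/-!
The case of a group containing the homologies of order three: the twelve Hessian centres are permuted.
-/

set_option autoImplicit false
set_option linter.unusedSectionVars false

namespace CfsgLib.HessianMax.Frame

open Matrix

variable {K : Type*} [Field K] [Finite K] {p : ℕ} [hp : Fact p.Prime] [CharP K p]

local notation "M3" => Matrix (Fin 3) (Fin 3) K

/-- The twelve centres. -/
def ctr (ω : K) : Option (Fin 3) → Fin 3 → (Fin 3 → K)
  | none, i => Pi.single i 1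
  | some k, i => ![1, ω ^ i.val, ω ^ (k.val + 2 * i.val)]

/-- The twelve axes. -/
def dual (ω : K) : Option (Fin 3) → Fin 3 → (Fin 3 → K)
  | none, i => Pi.single i 1
  | some k, i => ![3⁻¹, 3⁻¹ * ω ^ (2 * i.val), 3⁻¹ * ω ^ (2 * (k.val + 2 * i.val))]

/-- The twelve projectors. -/
def P (ω : K) (f : Option (Fin 3)) (i : Fin 3) : M3 := vecMulVec (ctr ω f i) (dual ω f i)

/-- Orthogonal pair product. -/
def C (ω : K) (A B : M3) : M3 := 1 + (ω - 1) • A + (ω ^ 2 - 1) • B

section ident

variable {ω : K} (hω : ω ^ 2 + ω + 1 = 0) (h3 : (3 : K) ≠ 0)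
include hω h3

theorem dual_ctr (f : Option (Fin 3)) (i : Fin 3) : dual ω f i ⬝ᵥ ctr ω f i = 1 := by
  have h := om3 hω
  rcases f with _ | k
  · simp [dual, ctr]
  · simp [dual, ctr, dotProduct, Fin.sum_univ_three]
    rw [mul_assoc, mul_assoc, ← pow_add, ← pow_add, show 2 * i.val + i.val = 3 * i.val by ring,
      show 2 * (k.val + 2 * i.val) + (k.val + 2 * i.val) = 3 * (k.val + 2 * i.val) by ring, pow_mul, pow_mul, h,
      one_pow, one_pow]
    field_simp
    norm_num

theorem sum_P (f : Option (Fin 3)) : P ω f 0 + P ω f 1 + P ω f 2 = 1 := by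
  rcases f with _ | k
  · ext a b; fin_cases a <;> fin_cases b <;> simp [P, ctr, dual, vecMulVec_apply]
  · ext a b
    fin_cases k <;> fin_cases a <;> fin_cases b <;> simp [P, ctr, dual, vecMulVec_apply] <;> field_simp <;> grind

theorem X_move (k i : Fin 3) : Xm ω * P ω (some k) i = P ω (some k) (i + 1) * Xm ω := by
  ext a b
  fin_cases k <;> fin_cases i <;> fin_cases a <;> fin_cases b <;>
    simp [P, ctr, dual, Xm, Matrix.mul_apply, Fin.sum_univ_three, vecMulVec_apply] <;> grind

theorem D_move (k i : Fin 3) : Dm ω * P ω (some k) i = P ω (some (k + 1)) (i + 2) * Dm ω := by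
  ext a b
  fin_cases k <;> fin_cases i <;> fin_cases a <;> fin_cases b <;>
    simp [P, ctr, dual, Dm, Matrix.mul_apply, Fin.sum_univ_three, vecMulVec_apply] <;> grind

theorem Y_move (i : Fin 3) : (Ym : M3) * P ω none i = P ω none (i + 2) * (Ym : M3) := by
  ext a b
  fin_cases i <;> fin_cases a <;> fin_cases b <;>
    simp [P, ctr, dual, Ym, Matrix.mul_apply, Fin.sum_univ_three, vecMulVec_apply]

theorem g_move : gm ω * P ω none 0 = P ω (some 0) 0 * gm ω := by
  have hd := delta_ne hω h3
  ext a b
  fin_cases a <;> fin_cases b <;>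
    simp [P, ctr, dual, gm, Matrix.mul_apply, Fin.sum_univ_three, vecMulVec_apply] <;> field_simp <;> grind

theorem X_eq : Xm ω = C ω (P ω none 1) (P ω none 2) := by
  ext a b
  fin_cases a <;> fin_cases b <;> simp [C, P, ctr, dual, Xm, vecMulVec_apply]

theorem Y_eq : (Ym : M3) = C ω (P ω (some 0) 1) (P ω (some 0) 2) := by
  ext a b
  fin_cases a <;> fin_cases b <;> simp [C, P, ctr, dual, Ym, vecMulVec_apply] <;> field_simp <;> grind

theorem pair_none (i : Fin 3) :
    C ω (P ω none (i + 1)) (P ω none (i + 2)) = ω ^ (2 * i.val) • (Xm ω ^ 1 * (Ym : M3) ^ 0) := by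
  ext a b
  fin_cases i <;> fin_cases a <;> fin_cases b <;> simp [C, P, ctr, dual, Xm, vecMulVec_apply] <;> grind

set_option maxHeartbeats 4000000 in
theorem pair_some (k i : Fin 3) :
    C ω (P ω (some k) (i + 1)) (P ω (some k) (i + 2)) =
      ω ^ (2 * i.val) • (Xm ω ^ (2 * k.val) * (Ym : M3) ^ 1) := by
  ext a b
  fin_cases k <;> fin_cases i <;> fin_cases a <;> fin_cases b <;>
    simp [C, P, ctr, dual, Xm, Ym, pow_succ, pow_zero, Matrix.mul_apply, Fin.sum_univ_three, vecMulVec_apply] <;>
    field_simp <;> grind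

theorem sum_zero {a b : ℕ} (h : 1 + ω ^ a + ω ^ b = 0) :
    (a % 3 = 1 ∧ b % 3 = 2) ∨ (a % 3 = 2 ∧ b % 3 = 1) := by
  have h1 := om_ne_one hω h3
  rw [pow_eq_pow_mod a (om3 hω), pow_eq_pow_mod b (om3 hω)] at h
  have ha := Nat.mod_lt a (show 3 > 0 by norm_num)
  have hb := Nat.mod_lt b (show 3 > 0 by norm_num)
  generalize a % 3 = u at h ha ⊢
  generalize b % 3 = v at h hb ⊢
  interval_cases u <;> interval_cases v <;> simp at h ⊢ <;> grind

/-- Centres of different frames are never perpendicular. -/
theorem frame_eq {f f' : Option (Fin 3)} {i i' : Fin 3} (h : dual ω f i ⬝ᵥ ctr ω f' i' = 0) : f = f' := by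
  have hω0 := om_ne_zero hω
  rcases f with _ | k <;> rcases f' with _ | k'
  · rfl
  · fin_cases i <;> simp [dual, ctr, hω0] at h
  · fin_cases i' <;> simp [dual, ctr, hω0, h3] at h
  · simp [dual, ctr, dotProduct, Fin.sum_univ_three] at h
    have h' : 1 + ω ^ (2 * i.val + i'.val) + ω ^ (2 * (k.val + 2 * i.val) + (k'.val + 2 * i'.val)) = 0 := by
      rw [pow_add, pow_add]
      field_simp at h
      linear_combination h
    have := sum_zero hω h3 h'
    congr 1
    apply Fin.ext
    omega

end ident

theorem hm_sq (ν : K) {a φ : Fin 3 → K} (h : φ ⬝ᵥ a = 1) : hm ν a φ * hm ν a φ = hm (ν ^ 2) a φ := by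
  rw [hm, hm]
  simp only [Matrix.add_mul, Matrix.mul_add, Matrix.one_mul, Matrix.mul_one, Matrix.smul_mul, Matrix.mul_smul,
    vecMulVec_mul_vecMulVec, h, one_smul]
  module

theorem hm_pair (ν : K) {a φ b ψ : Fin 3 → K} (ha : φ ⬝ᵥ a = 1) (hb : ψ ⬝ᵥ b = 1) (h0 : φ ⬝ᵥ b = 0) :
    hm ν a φ * (hm ν b ψ * hm ν b ψ) = C ν (vecMulVec a φ) (vecMulVec b ψ) := by
  rw [hm_sq ν hb, hm, hm, C]
  simp only [Matrix.add_mul, Matrix.mul_add, Matrix.one_mul, Matrix.mul_one, Matrix.smul_mul, Matrix.mul_smul,
    vecMulVec_mul_vecMulVec, h0, zero_smul, vecMulVec_zero, smul_zero, add_zero]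

theorem C_sq {ω : K} (h3' : ω ^ 3 = 1) {a φ b ψ : Fin 3 → K} (ha : φ ⬝ᵥ a = 1) (hb : ψ ⬝ᵥ b = 1)
    (h0 : φ ⬝ᵥ b = 0) (h0' : ψ ⬝ᵥ a = 0) :
    C ω (vecMulVec a φ) (vecMulVec b ψ) * C ω (vecMulVec a φ) (vecMulVec b ψ) =
      C ω (vecMulVec b ψ) (vecMulVec a φ) := by
  simp only [C, Matrix.add_mul, Matrix.mul_add, Matrix.one_mul, Matrix.mul_one, Matrix.smul_mul, Matrix.mul_smul,
    vecMulVec_mul_vecMulVec, ha, hb, h0, h0', one_smul, zero_smul, vecMulVec_zero, smul_zero, add_zero, zero_add,
    smul_smul]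
  linear_combination (norm := module) (ω * h3') • vecMulVec b ψ

/-- The value set. -/
def Nice (c : K) : Prop := 3 * c = 1 ∨ 3 * c = 2 ∨ 9 * c ^ 2 - 9 * c + 1 = 0

theorem small' {n : ℕ} (hn0 : 0 < n) (hn : n < 7) (h7 : 7 ≤ p) : (n : K) ≠ 0 := small_ne n hn0 (by omega)

theorem half_not_nice (h7 : 7 ≤ p) {c : K} (h : 2 * c = 1) : ¬ Nice c := by
  rintro (e | e | e)
  · exact small' (K := K) (n := 1) (by omega) (by omega) h7 (by push_cast; linear_combination 2 * e - 3 * h)
  · exact small' (K := K) (n := 1) (by omega) (by omega) h7 (by push_cast; linear_combination 3 * h - 2 * e)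
  · exact small' (K := K) (n := 5) (by omega) (by omega) h7
      (by push_cast; linear_combination -4 * e + (18 * c - 9) * h)

/-- Three nonzero values with sum one are all one third. -/
theorem triple (h7 : 7 ≤ p) {u v w : K} (hu : Nice u) (hv : Nice v) (hw : Nice w) (hs : u + v + w = 1) :
    3 * u = 1 ∧ 3 * v = 1 ∧ 3 * w = 1 := by
  have k : ∀ {Q : Prop} (n : ℕ), 0 < n → n < 7 → (n : K) = 0 → Q := fun n a b e => absurd e (small' a b h7)
  let R : K → Prop := fun x => x ^ 2 - 3 * x + 1 = 0
  have hv' : ∀ {c : K}, Nice c → 3 * c = 1 ∨ 3 * c = 2 ∨ R (3 * c) := fun hc => by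
    rcases hc with e | e | e
    exacts [Or.inl e, Or.inr (Or.inl e), Or.inr (Or.inr (by linear_combination e))]
  have hs' : 3 * u + 3 * v + 3 * w = 3 := by linear_combination 3 * hs
  suffices key : ∀ x y z : K, (x = 1 ∨ x = 2 ∨ R x) → (y = 1 ∨ y = 2 ∨ R y) → (z = 1 ∨ z = 2 ∨ R z) →
      x + y + z = 3 → x = 1 ∧ y = 1 ∧ z = 1 from key _ _ _ (hv' hu) (hv' hv) (hv' hw) hs'
  intro x y z hx hy hz s
  -- one root
  have one : ∀ a : K, R a → ∀ m : K, m = 2 ∨ m = 3 ∨ m = 4 → a = 3 - m → False := by
    rintro a ha m (rfl | rfl | rfl) e <;> simp only [R, e] at ha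
    · exact k 1 (by omega) (by omega) (by push_cast; linear_combination -ha)
    · exact k 1 (by omega) (by omega) (by push_cast; linear_combination ha)
    · exact k 5 (by omega) (by omega) (by push_cast; linear_combination ha)
  have two : ∀ a b : K, R a → R b → ∀ m : K, m = 1 ∨ m = 2 → a + b = 3 - m → False := by
    intro a b ha hb m hm e
    simp only [R] at ha hb
    rcases mul_eq_zero.1 (show (a - b) * (a + b - 3) = 0 by linear_combination ha - hb) with f | f
    · rcases hm with rfl | rfl
      · exact k 4 (by omega) (by omega) (by push_cast; linear_combination -4 * ha + (2 * a - 4) * (e + f))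
      · exact k 1 (by omega) (by omega) (by push_cast; linear_combination -4 * ha + (2 * a - 5) * (e + f))
    · rcases hm with rfl | rfl
      · exact k 1 (by omega) (by omega) (by push_cast; linear_combination e - f)
      · exact k 2 (by omega) (by omega) (by push_cast; linear_combination e - f)
  have three : ∀ a b c : K, R a → R b → R c → a + b + c = 3 → False := by
    intro a b c ha hb hc e
    have sp : ∀ a b : K, R a → R b → a = b ∨ a + b = 3 := fun a b ha hb => by
      simp only [R] at ha hb
      rcases mul_eq_zero.1 (show (a - b) * (a + b - 3) = 0 by linear_combination ha - hb) with f | f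
      exacts [Or.inl (sub_eq_zero.1 f), Or.inr (sub_eq_zero.1 f)]
    rcases sp a b ha hb with rfl | f
    · rcases sp a c ha hc with rfl | f
      · simp only [R] at ha
        rcases mul_eq_zero.1 (show (3 : K) * (a - 1) = 0 by linear_combination e) with f | f
        · exact k 3 (by omega) (by omega) (by push_cast; linear_combination f)
        · rw [sub_eq_zero.1 f] at ha
          exact k 1 (by omega) (by omega) (by push_cast; linear_combination -ha)
      · simp only [R] at ha
        have a0 : a = 0 := by linear_combination e - f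
        rw [a0] at ha
        exact k 1 (by omega) (by omega) (by push_cast; linear_combination ha)
    · simp only [R] at hc
      have c0 : c = 0 := by linear_combination e - f
      rw [c0] at hc
      exact k 1 (by omega) (by omega) (by push_cast; linear_combination hc)
  rcases hx with hx | hx | hx <;> rcases hy with hy | hy | hy <;> rcases hz with hz | hz | hz <;>
    subst_vars <;>
    first
      | exact ⟨rfl, rfl, rfl⟩
      | exact k 1 (by omega) (by omega) (by push_cast; linear_combination s)
      | exact k 2 (by omega) (by omega) (by push_cast; linear_combination s)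
      | exact k 3 (by omega) (by omega) (by push_cast; linear_combination s)
      | exact (one z hz 2 (Or.inl rfl) (by linear_combination s)).elim
      | exact (one z hz 3 (Or.inr (Or.inl rfl)) (by linear_combination s)).elim
      | exact (one z hz 4 (Or.inr (Or.inr rfl)) (by linear_combination s)).elim
      | exact (one y hy 2 (Or.inl rfl) (by linear_combination s)).elim
      | exact (one y hy 3 (Or.inr (Or.inl rfl)) (by linear_combination s)).elim
      | exact (one y hy 4 (Or.inr (Or.inr rfl)) (by linear_combination s)).elim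
      | exact (one x hx 2 (Or.inl rfl) (by linear_combination s)).elim
      | exact (one x hx 3 (Or.inr (Or.inl rfl)) (by linear_combination s)).elim
      | exact (one x hx 4 (Or.inr (Or.inr rfl)) (by linear_combination s)).elim
      | exact (two x y hx hy 1 (Or.inl rfl) (by linear_combination s)).elim
      | exact (two x y hx hy 2 (Or.inr rfl) (by linear_combination s)).elim
      | exact (two x z hx hz 1 (Or.inl rfl) (by linear_combination s)).elim
      | exact (two x z hx hz 2 (Or.inr rfl) (by linear_combination s)).elim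
      | exact (two y z hy hz 1 (Or.inl rfl) (by linear_combination s)).elim
      | exact (two y z hy hz 2 (Or.inr rfl) (by linear_combination s)).elim
      | exact (three x y z hx hy hz s).elim

section main

variable {ω : K} {M : Subgroup (GL3 K)} (h : Setup p ω M)
  (hD : ∃ g ∈ M, ∃ c : K, (g : Matrix (Fin 3) (Fin 3) K) = c • Dm ω)
include h hD

/-- The twelve homologies are in the extended group. -/
theorem hom_mem (f : Option (Fin 3)) (i : Fin 3) :
    ∃ g ∈ withScalars M, (g : M3) = hm ω (ctr ω f i) (dual ω f i) := by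
  have hω := h.om
  have h3 := h.three
  obtain ⟨g, hg, c, ec⟩ := hD
  have hc : c ≠ 0 := by
    rintro rfl
    have := h.det g hg
    rw [ec, zero_smul, det_zero] at this
    exact zero_ne_one this
  have hd : IsUnit (Dm ω : M3).det := by
    simp [Dm, det_fin_three, om_ne_zero hω]
  obtain ⟨d, ed⟩ := (Matrix.isUnit_iff_isUnit_det _).2 hd
  have dm : d ∈ withScalars M := ⟨c⁻¹, inv_ne_zero hc, g, hg, by rw [ec, smul_smul, inv_mul_cancel₀ hc, one_smul, ed]⟩
  let Has : M3 → Prop := fun A => ∃ z ∈ withScalars M, (z : M3) = 1 + (ω - 1) • A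
  have move : ∀ {A B : M3} {m : GL3 K}, m ∈ withScalars M → (m : M3) * A = B * (m : M3) → Has A → Has B := by
    rintro A B m hm e ⟨z, hz, ez⟩
    refine ⟨m * z * m⁻¹, mul_mem (mul_mem hm hz) (inv_mem hm), ?_⟩
    rw [Units.val_mul, Units.val_mul, ez, Matrix.mul_add, Matrix.mul_one, Matrix.mul_smul, e, Matrix.add_mul,
      ← Units.val_mul, mul_inv_cancel, Units.val_one, Matrix.smul_mul, Matrix.mul_assoc, ← Units.val_mul,
      mul_inv_cancel, Units.val_one, Matrix.mul_one]
  have h00 : Has (P ω none 0) := ⟨d, dm, by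
    rw [ed]
    ext a b
    fin_cases a <;> fin_cases b <;> simp [Dm, P, ctr, dual, vecMulVec_apply]⟩
  obtain ⟨x, hx, ex⟩ := h.mX
  obtain ⟨y, hy, ey⟩ := h.mY
  obtain ⟨f0, hf0, ef0⟩ := h.mg
  have sY : ∀ i : Fin 3, Has (P ω none i) → Has (P ω none (i + 2)) := fun i hi =>
    move (le_withScalars M hy) (by rw [ey]; exact Y_move hω h3 i) hi
  have sX : ∀ k i : Fin 3, Has (P ω (some k) i) → Has (P ω (some k) (i + 1)) := fun k i hi =>
    move (le_withScalars M hx) (by rw [ex]; exact X_move hω h3 k i) hi
  have sD : ∀ k i : Fin 3, Has (P ω (some k) i) → Has (P ω (some (k + 1)) (i + 2)) := fun k i hi =>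
    move dm (by rw [ed]; exact D_move hω h3 k i) hi
  have a0 : Has (P ω (some 0) 0) := move (le_withScalars M hf0) (by rw [ef0]; exact g_move hω h3) h00
  have e2 : Has (P ω none 2) := sY 0 h00
  have e1 : Has (P ω none 1) := sY 2 e2
  have a1 := sX 0 0 a0
  have a2 := sX 0 1 a1
  have b2 := sD 0 0 a0
  have b0 := sX 1 2 b2
  have b1 := sX 1 0 b0
  have c1 := sD 1 2 b2
  have c2 := sX 2 1 c1
  have c0 := sX 2 2 c2
  rcases f with _ | k
  · fin_cases i
    exacts [h00, e1, e2]
  · fin_cases k <;> fin_cases i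
    exacts [a0, a1, a2, b0, b1, b2, c0, c1, c2]

/-- A homology of the extended group is one of the twelve. -/
theorem centre_mem {y φ : Fin 3 → K} (hyφ : φ ⬝ᵥ y = 1) {r : GL3 K} (hr : r ∈ withScalars M)
    (er : (r : M3) = hm ω y φ) : ∃ f i, vecMulVec y φ = P ω f i := by
  by_contra hne
  push Not at hne
  have hω := h.om
  have h3 := h.three
  have h7 := h.p7
  have hω1 := om_ne_one hω h3
  have hω0 := om_ne_zero hω
  have hω3 := om3 hω
  have key : ∀ f i, (dual ω f i ⬝ᵥ y = 0 ∧ φ ⬝ᵥ ctr ω f i = 0) ∨
      Nice ((dual ω f i ⬝ᵥ y) * (φ ⬝ᵥ ctr ω f i)) := fun f i => by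
    obtain ⟨s, hs, es⟩ := hom_mem h hD f i
    have hν2 : ω ^ 2 ≠ 1 := fun e => hω1 (by
      calc ω = ω ^ 3 := by rw [pow_succ, e, one_mul]
        _ = 1 := hω3)
    rcases pair p h7 (noTv_withScalars p h.notv) (μ := ω ^ 2) (by linear_combination ω * hω3) hω0 hν2
      (dual_ctr hω h3 f i) hyφ hs hr es er with e | e | e
    · exact absurd e.symm (hne f i)
    · exact Or.inl e
    · exact Or.inr (pair_three p h7 hω e)
  set c : Option (Fin 3) → Fin 3 → K := fun f i => (dual ω f i ⬝ᵥ y) * (φ ⬝ᵥ ctr ω f i) with hc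
  have hsum : ∀ f, c f 0 + c f 1 + c f 2 = 1 := fun f => by
    have e := congrArg (fun A => φ ⬝ᵥ (A *ᵥ y)) (sum_P hω h3 f)
    simp only [add_mulVec, dotProduct_add, P, vecMulVec_mulVec, op_smul_eq_smul, dotProduct_smul, smul_eq_mul,
      one_mulVec, hyφ] at e
    exact e
  have nz : ∀ f i, (∃ j, c f j = 0) ∨ 3 * c f i = 1 := fun f i => by
    rcases key f 0 with a | a
    · exact Or.inl ⟨0, by simp [hc, a.1]⟩
    rcases key f 1 with b | b
    · exact Or.inl ⟨1, by simp [hc, b.1]⟩
    rcases key f 2 with d | d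
    · exact Or.inl ⟨2, by simp [hc, d.1]⟩
    obtain ⟨t1, t2, t3⟩ := triple h7 a b d (hsum f)
    right
    fin_cases i
    exacts [t1, t2, t3]
  have zero_both : ∀ f i, c f i = 0 → dual ω f i ⬝ᵥ y = 0 ∧ φ ⬝ᵥ ctr ω f i = 0 := fun f i e => by
    rcases key f i with a | a
    · exact a
    · exfalso
      rcases a with a | a | a <;> rw [show (dual ω f i ⬝ᵥ y) * (φ ⬝ᵥ ctr ω f i) = 0 from e] at a
      · simp at a
      · simp at a; exact h.two a.symm
      · simp at a
  have ce : ∀ i, c none i = y i * φ i := fun i => by simp [hc, dual, ctr]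
  by_cases hz : ∃ i, c none i = 0
  · obtain ⟨i, hi⟩ := hz
    have := zero_both none i hi
    simp [dual, ctr] at this
    obtain ⟨hyi, hφi⟩ := this
    obtain ⟨j, l, hjl, hji, hli, hex⟩ : ∃ j l : Fin 3, j ≠ l ∧ j ≠ i ∧ l ≠ i ∧
        ∀ g : Fin 3 → K, g 0 + g 1 + g 2 = g i + g j + g l := by
      fin_cases i
      · exact ⟨1, 2, by decide, by decide, by decide, fun g => by simp⟩
      · exact ⟨2, 0, by decide, by decide, by decide, fun g => by simp; ring⟩
      · exact ⟨0, 1, by decide, by decide, by decide, fun g => by simp; ring⟩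
    have hs : c none j + c none l = 1 := by
      have := hsum none
      rw [hex (c none), hi, zero_add] at this
      exact this
    have hj : c none j ≠ 0 := fun e => by
      rcases key none l with a | a
      · rw [e, show c none l = 0 by simp [hc, a.1]] at hs
        simp at hs
      · rw [e, zero_add] at hs
        rcases a with a | a | a <;> rw [show (dual ω none l ⬝ᵥ y) * (φ ⬝ᵥ ctr ω none l) = 1 from hs] at a
        · exact h.two (by linear_combination a)
        · exact one_ne_zero (α := K) (by linear_combination a)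
        · exact one_ne_zero (α := K) (by linear_combination a)
    have dot3 : ∀ u v : Fin 3 → K, u ⬝ᵥ v = u i * v i + u j * v j + u l * v l := fun u v => by
      rw [← hex (fun k => u k * v k), dotProduct, Fin.sum_univ_three]
    by_cases hz' : ∃ k m, c (some k) m = 0
    · obtain ⟨k, m, hkm⟩ := hz'
      obtain ⟨z1, z2⟩ := zero_both _ _ hkm
      rw [dot3, hyi, mul_zero, zero_add] at z1
      rw [dot3, hφi, zero_mul, zero_add] at z2
      have hu : ∀ x, dual ω (some k) m x * ctr ω (some k) m x = 3⁻¹ := fun x => by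
        fin_cases x <;> simp [dual, ctr, mul_assoc, ← pow_add]
        · rw [show 2 * m.val + m.val = 3 * m.val by ring, pow_mul, hω3, one_pow, mul_one]
        · rw [show 2 * (k.val + 2 * m.val) + (k.val + 2 * m.val) = 3 * (k.val + 2 * m.val) by ring, pow_mul, hω3,
            one_pow, mul_one]
      have e1 : dual ω (some k) m j * y j * (φ j * ctr ω (some k) m j) =
          dual ω (some k) m l * y l * (φ l * ctr ω (some k) m l) := by
        linear_combination (φ j * ctr ω (some k) m j) * z1 - (dual ω (some k) m l * y l) * z2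
      have e2 : c none j = c none l := by
        rw [ce, ce]
        have : (3 : K)⁻¹ * (y j * φ j) = 3⁻¹ * (y l * φ l) := by
          linear_combination e1 - (y j * φ j) * hu j + (y l * φ l) * hu l
        exact mul_left_cancel₀ (inv_ne_zero h3) this
      rcases key none j with a | a
      · exact hj (by simp [hc, a.1])
      · exact half_not_nice h7 (by linear_combination hs + e2) a
    · push Not at hz'
      have third : ∀ k m, 3 * c (some k) m = 1 := fun k m =>
        (nz (some k) m).resolve_left fun ⟨x, hx⟩ => hz' k x hx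
      -- cross terms vanish
      have hA : ∀ k m, dual ω (some k) m j * y j * (φ l * ctr ω (some k) m l) +
          dual ω (some k) m l * y l * (φ j * ctr ω (some k) m j) = 0 := fun k m => by
        have hu : ∀ x, dual ω (some k) m x * ctr ω (some k) m x = 3⁻¹ := fun x => by
          fin_cases x <;> simp [dual, ctr, mul_assoc, ← pow_add]
          · rw [show 2 * m.val + m.val = 3 * m.val by ring, pow_mul, hω3, one_pow, mul_one]
          · rw [show 2 * (k.val + 2 * m.val) + (k.val + 2 * m.val) = 3 * (k.val + 2 * m.val) by ring, pow_mul,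
              hω3, one_pow, mul_one]
        have e := third k m
        simp only [hc] at e
        rw [dot3, dot3 φ, hyi, hφi, mul_zero, zero_mul, zero_add, zero_add] at e
        have hs' : y j * φ j + y l * φ l = 1 := by rw [← ce, ← ce]; exact hs
        have i3 : (3 : K) * 3⁻¹ = 1 := mul_inv_cancel₀ h3
        refine (mul_eq_zero.1 (show (3 : K) * _ = 0 from ?_)).resolve_left h3
        linear_combination e - 3 * (y j * φ j) * hu j - 3 * (y l * φ l) * hu l - 3 * 3⁻¹ * hs' - i3
      have key2 : ∀ k, dual ω (some k) 0 j * y j * (φ l * ctr ω (some k) 0 l) ≠ 0 := fun k => by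
        have hl : c none l ≠ 0 := fun e => by
          rcases key none j with a | a
          · exact hj (by simp [hc, a.1])
          · rw [e, add_zero] at hs
            rcases a with a | a | a <;> rw [show (dual ω none j ⬝ᵥ y) * (φ ⬝ᵥ ctr ω none j) = 1 from hs] at a
            · exact h.two (by linear_combination a)
            · exact one_ne_zero (α := K) (by linear_combination a)
            · exact one_ne_zero (α := K) (by linear_combination a)
        rw [ce] at hl hj
        have hd : ∀ x, dual ω (some k) 0 x ≠ 0 := fun x => by fin_cases x <;> simp [dual, h3, hω0]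
        have hk : ∀ x, ctr ω (some k) 0 x ≠ 0 := fun x => by fin_cases x <;> simp [ctr, hω0]
        exact mul_ne_zero (mul_ne_zero (hd j) (left_ne_zero_of_mul hj))
          (mul_ne_zero (right_ne_zero_of_mul hl) (hk l))
      -- two choices of the pair of exponents
      have h00 := hA 0 0
      have h01 := hA 0 1
      have h10 := hA 1 0
      apply key2 0
      clear hA third nz key zero_both hsum hex dot3 ce
      fin_cases j <;> fin_cases l <;> simp [dual, ctr] at h00 h01 h10 ⊢ <;> grind
  · push Not at hz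
    have third : ∀ i, 3 * (y i * φ i) = 1 := fun i => by
      rw [← ce]
      exact (nz none i).resolve_left fun ⟨x, hx⟩ => hz x hx
    have hy : ∀ i, y i ≠ 0 := fun i e => by
      have := third i
      rw [e] at this
      simp at this
    have hφ : ∀ i, φ i = 3⁻¹ * (y i)⁻¹ := fun i => by
      have := third i
      field_simp [hy i]
      linear_combination this
    by_cases hz' : ∃ k m, c (some k) m = 0
    · obtain ⟨k, m, hkm⟩ := hz'
      obtain ⟨z1, z2⟩ := zero_both _ _ hkm
      simp [dual, ctr, dotProduct, Fin.sum_univ_three] at z1 z2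
      rw [hφ 0, hφ 1, hφ 2] at z2
      set a := ω ^ m.val with ha
      set b := ω ^ (k.val + 2 * m.val) with hb
      have e2a : ω ^ (2 * m.val) = a⁻¹ := by
        refine eq_inv_of_mul_eq_one_left ?_
        rw [ha, ← pow_add, show 2 * m.val + m.val = 3 * m.val by ring, pow_mul, hω3, one_pow]
      have e2b : ω ^ (2 * (k.val + 2 * m.val)) = b⁻¹ := by
        refine eq_inv_of_mul_eq_one_left ?_
        rw [hb, ← pow_add, show 2 * (k.val + 2 * m.val) + (k.val + 2 * m.val) = 3 * (k.val + 2 * m.val) by ring,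
          pow_mul, hω3, one_pow]
      rw [e2a, e2b] at z1
      have ha0 : a ≠ 0 := pow_ne_zero _ hω0
      have hb0 : b ≠ 0 := pow_ne_zero _ hω0
      have hy0 := hy 0
      have hy1 := hy 1
      have hy2 := hy 2
      set U := y 1 / (y 0 * a) with hU
      set W := y 2 / (y 0 * b) with hW
      have eU : y 1 = U * (y 0 * a) := by rw [hU]; field_simp
      have eW : y 2 = W * (y 0 * b) := by rw [hW]; field_simp
      have hU0 : U ≠ 0 := by rw [hU]; exact div_ne_zero hy1 (mul_ne_zero hy0 ha0)
      have hW0 : W ≠ 0 := by rw [hW]; exact div_ne_zero hy2 (mul_ne_zero hy0 hb0)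
      rw [eU, eW] at z1 z2
      field_simp at z1 z2
      have s1 : 1 + U + W = 0 := (mul_eq_zero.1 (z1.trans (mul_zero _))).resolve_left hy0
      have s2 : U * W + W + U = 0 := by linear_combination z2
      have hUW : U ^ 2 + U + 1 = 0 := by linear_combination -s2 + (U + 1) * s1
      have hU' : U = ω ∨ U = ω ^ 2 := by
        rcases mul_eq_zero.1 (show (U - ω) * (U - ω ^ 2) = 0 by
          linear_combination hUW - U * hω + hω3) with e | e
        exacts [Or.inl (sub_eq_zero.1 e), Or.inr (sub_eq_zero.1 e)]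
      have fin : ∀ d : Fin 3, U = ω ^ d.val → W = ω ^ (2 * d.val) → False := fun d hd hd' => by
        refine hne (some k) (m + d) ?_
        have p1 : ω ^ (m + d).val = a * ω ^ d.val := by
          rw [ha, ← pow_add, Fin.val_add, ← pow_eq_pow_mod _ hω3]
        have p2 : ω ^ (k.val + 2 * (m + d).val) = b * ω ^ (2 * d.val) := by
          rw [hb, pow_add, pow_mul', p1, mul_pow, ha, ← pow_mul, ← pow_mul, ← mul_assoc, ← pow_add,
            mul_comm m.val 2, mul_comm d.val 2]
        have q1 : ω ^ (2 * (m + d).val) = (a * ω ^ d.val)⁻¹ := by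
          refine eq_inv_of_mul_eq_one_left ?_
          rw [← p1, ← pow_add, show 2 * (m + d).val + (m + d).val = 3 * (m + d).val by ring, pow_mul, hω3, one_pow]
        have q2 : ω ^ (2 * (k.val + 2 * (m + d).val)) = (b * ω ^ (2 * d.val))⁻¹ := by
          refine eq_inv_of_mul_eq_one_left ?_
          rw [← p2, ← pow_add, show 2 * (k.val + 2 * (m + d).val) + (k.val + 2 * (m + d).val) =
            3 * (k.val + 2 * (m + d).val) by ring, pow_mul, hω3, one_pow]
        ext u v
        rw [P, vecMulVec_apply, vecMulVec_apply, hφ v]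
        fin_cases u <;> fin_cases v <;>
          simp [ctr, dual, p1, p2, q1, q2, eU, eW, hd, hd'] <;> field_simp
      rcases hU' with e | e
      · exact fin 1 (by simp [e]) (by simp; linear_combination s1 - e - hω)
      · exact fin 2 (by simp [e]) (by simp; linear_combination s1 - e - hω - (ω : K) * hω3)
    · push Not at hz'
      have t : ∀ k m, 3 * c (some k) m = 1 := fun k m =>
        (nz (some k) m).resolve_left fun ⟨x, hx⟩ => hz' k x hx
      have hy0 := hy 0
      have hy1 := hy 1
      have hy2 := hy 2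
      have S0 := And.intro (t 0 0) (And.intro (t 1 0) (t 2 0))
      have S1 := And.intro (t 0 1) (And.intro (t 1 1) (t 2 1))
      simp [hc, dual, ctr, dotProduct, Fin.sum_univ_three, hφ] at S0 S1
      field_simp at S0 S1
      set u := y 0
      set v := y 1
      set w := y 2
      have A : u ^ 2 + v ^ 2 = 0 := by
        have : (3 : K) * (w * (u ^ 2 + v ^ 2)) = 0 := by
          linear_combination S0.1 + S0.2.1 + S0.2.2 - u * v * w * (ω ^ 3 + 2) * hω3 -
            ((u + v) * (u * v) + w * (w * (v + u)) * (ω ^ 2 - ω + 1)) * hω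
        simpa [h3, hy2] using this
      have B : ω * u ^ 2 + ω ^ 2 * v ^ 2 = 0 := by
        have : (3 : K) * (w * (ω * u ^ 2 + ω ^ 2 * v ^ 2)) = 0 := by
          linear_combination S1.1 + S1.2.1 + S1.2.2 -
            u * v * w * (3 + (ω ^ 3 + 1) + (ω ^ 6 + ω ^ 3 + 1) + (ω ^ 9 + ω ^ 6 + ω ^ 3 + 1)) * hω3 -
            ((u + v * ω ^ 2) * (u * v) * ω ^ 2 + w * (w * (v + u * ω)) * ω ^ 4 * (ω ^ 2 - ω + 1)) * hω
        simpa [h3, hy2] using this
      have : (ω ^ 2 - ω) * v ^ 2 = 0 := by linear_combination B - ω * A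
      rcases mul_eq_zero.1 this with e | e
      · exact delta_ne hω h3 (by linear_combination -e)
      · exact hy1 (by simpa using e)

/-- The group normalises the Heisenberg group. -/
theorem le_normalizer : M ≤ Subgroup.normalizer (Rsub K ω h.om : Set (GL3 K)) := by
  intro m hm
  have hω := h.om
  have h3 := h.three
  have key : ∀ {f : Option (Fin 3)} {i i' : Fin 3}, i ≠ i' → ∃ A, InR ω A ∧
      (m : M3) * C ω (P ω f i) (P ω f i') = A * (m : M3) := by
    intro f i i' hii
    obtain ⟨r, hr, er⟩ := hom_mem h hD f i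
    obtain ⟨s, hs, es⟩ := hom_mem h hD f i'
    have hmW := le_withScalars M hm
    set y1 := (m : M3) *ᵥ ctr ω f i
    set φ1 := dual ω f i ᵥ* ((m⁻¹ : GL3 K) : M3)
    set y2 := (m : M3) *ᵥ ctr ω f i'
    set φ2 := dual ω f i' ᵥ* ((m⁻¹ : GL3 K) : M3)
    have d1 : φ1 ⬝ᵥ y1 = 1 := by rw [conj_dot]; exact dual_ctr hω h3 f i
    have d2 : φ2 ⬝ᵥ y2 = 1 := by rw [conj_dot]; exact dual_ctr hω h3 f i'
    obtain ⟨f1, i1, e1⟩ := centre_mem h hD d1 (r := m * r * m⁻¹) (mul_mem (mul_mem hmW hr) (inv_mem hmW)) (by
      rw [Units.val_mul, Units.val_mul, er, conj_hm])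
    obtain ⟨f2, i2, e2⟩ := centre_mem h hD d2 (r := m * s * m⁻¹) (mul_mem (mul_mem hmW hs) (inv_mem hmW)) (by
      rw [Units.val_mul, Units.val_mul, es, conj_hm])
    have orth : dual ω f i ⬝ᵥ ctr ω f i' = 0 := by
      rcases f with _ | k
      · simp [dual, ctr, hii.symm]
      · fin_cases k <;> fin_cases i <;> fin_cases i' <;>
          simp [dual, ctr, dotProduct, Fin.sum_univ_three] at hii ⊢ <;> field_simp <;> grind
    have tP : ∀ f i, P ω f i = vecMulVec (ctr ω f i) (dual ω f i) := fun _ _ => rfl
    have o12 : φ1 ⬝ᵥ y2 = 0 := by rw [conj_dot, orth]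
    have prod0 : P ω f1 i1 * P ω f2 i2 = 0 := by
      rw [← e1, ← e2, vecMulVec_mul_vecMulVec, o12, zero_smul, vecMulVec_zero]
    have hne : (f1, i1) ≠ (f2, i2) := by
      rintro e
      obtain ⟨rfl, rfl⟩ := Prod.mk.inj e
      rw [tP, vecMulVec_mul_vecMulVec, dual_ctr hω h3, one_smul] at prod0
      rcases vecMulVec_eq_zero.1 prod0 with e' | e'
      · exact (ne_of_dot (dual_ctr hω h3 f1 i1)).2 e'
      · exact (ne_of_dot (dual_ctr hω h3 f1 i1)).1 e'
    have hd0 : dual ω f1 i1 ⬝ᵥ ctr ω f2 i2 = 0 := by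
      rw [tP, tP, vecMulVec_mul_vecMulVec, vecMulVec_smul, smul_eq_zero] at prod0
      refine prod0.resolve_right fun e' => ?_
      rcases vecMulVec_eq_zero.1 e' with e' | e'
      · exact (ne_of_dot (dual_ctr hω h3 f1 i1)).2 e'
      · exact (ne_of_dot (dual_ctr hω h3 f2 i2)).1 e'
    obtain rfl := frame_eq hω h3 hd0
    refine ⟨C ω (P ω f1 i1) (P ω f1 i2), ?_, ?_⟩
    · have hi : i2 = i1 + 1 ∨ i1 = i2 + 1 := by
        have : i1 ≠ i2 := fun e => hne (by rw [e])
        revert this
        fin_cases i1 <;> fin_cases i2 <;> decide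
      have fwd : ∀ j : Fin 3, InR ω (C ω (P ω f1 (j + 1)) (P ω f1 (j + 2))) := fun j => by
        rcases f1 with _ | k
        · exact ⟨_, _, _, pair_none hω h3 j⟩
        · exact ⟨_, _, _, pair_some hω h3 k j⟩
      have orth' : ∀ {a b : Fin 3}, a ≠ b → dual ω f1 a ⬝ᵥ ctr ω f1 b = 0 := fun {a b} hab => by
        rcases f1 with _ | k
        · simp [dual, ctr, hab.symm]
        · fin_cases k <;> fin_cases a <;> fin_cases b <;>
            simp [dual, ctr, dotProduct, Fin.sum_univ_three] at hab ⊢ <;> field_simp <;> grind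
      rcases hi with rfl | rfl
      · have := fwd (i1 + 2)
        rwa [add_assoc, show (2 : Fin 3) + 1 = 0 from rfl, add_zero, add_assoc,
          show (2 : Fin 3) + 2 = 1 from rfl] at this
      · have := fwd (i2 + 2)
        rw [add_assoc, show (2 : Fin 3) + 1 = 0 from rfl, add_zero, add_assoc,
          show (2 : Fin 3) + 2 = 1 from rfl] at this
        have h2 := InR.mul hω this this
        have hab : i2 ≠ i2 + 1 := by fin_cases i2 <;> decide
        rwa [tP, tP, C_sq (om3 hω) (dual_ctr hω h3 _ _) (dual_ctr hω h3 _ _) (orth' hab) (orth' hab.symm)] at h2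
    · rw [← e1, ← e2, C, C, Matrix.mul_add, Matrix.mul_add, Matrix.add_mul, Matrix.add_mul, Matrix.mul_one,
        Matrix.one_mul, Matrix.mul_smul, Matrix.mul_smul, Matrix.smul_mul, Matrix.smul_mul, tP, tP, mul_vecMulVec,
        mul_vecMulVec, vecMulVec_mul, vecMulVec_mul, vecMul_vecMul, vecMul_vecMul, ← Units.val_mul, inv_mul_cancel,
        Units.val_one, vecMul_one, vecMul_one]
  obtain ⟨A, hA, eA⟩ := key (f := none) (show (1 : Fin 3) ≠ 2 by decide)
  obtain ⟨B, hB, eB⟩ := key (f := some 0) (show (1 : Fin 3) ≠ 2 by decide)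
  exact mem_normalizer_Rsub hA hB (by rw [X_eq hω h3]; exact eA) (by rw [Y_eq hω h3]; exact eB)

end main

end CfsgLib.HessianMax.Frame
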