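import Cfsg.Agent.Lib.HessianMax.Form
import Cfsg.Agent.Lib.RegGen.Axes
import Cfsg.Prelude.Def_GeometricClasses

/-!
A transvection and the Heisenberg group generate the special linear group over a prime field; change of coordinates.
-/

set_option autoImplicit false
set_option linter.unusedSectionVars false

namespace CfsgLib.HessianMax

open Matrix
open CfsgLib.RegGen CfsgLib.RootSub.TSL
open scoped MatrixGroups

variable {F : Type*} [Field F]

local notation "V" => Fin 3 → F
local notation "MF" => Matrix (Fin 3) (Fin 3) F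
local notation "S" => SpecialLinearGroup (Fin 3) F

/-- A non-zero matrix with square zero has rank one. -/
theorem exists_vec {N : MF} (h0 : N ≠ 0) (h2 : N * N = 0) :
    ∃ x f : V, x ≠ 0 ∧ f ≠ 0 ∧ f ⬝ᵥ x = 0 ∧ N = vecMulVec x f := by
  classical
  obtain ⟨j, hj⟩ : ∃ j, N *ᵥ Pi.single j 1 ≠ 0 := by
    by_contra hc
    push Not at hc
    exact h0 (Matrix.ext_of_mulVec_single fun i => by rw [hc i, zero_mulVec])
  set x := N *ᵥ Pi.single j 1 with hx
  have hle : LinearMap.range N.toLin' ≤ LinearMap.ker N.toLin' := by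
    rintro _ ⟨y, rfl⟩
    rw [LinearMap.mem_ker, Matrix.toLin'_apply, Matrix.toLin'_apply, mulVec_mulVec, h2, zero_mulVec]
  have h1 : Module.finrank F (LinearMap.range N.toLin') ≤ 1 := by
    have := N.toLin'.finrank_range_add_finrank_ker
    rw [Module.finrank_fin_fun] at this
    have := Submodule.finrank_mono hle
    omega
  have hsp : (F ∙ x) = LinearMap.range N.toLin' :=
    Submodule.eq_of_le_of_finrank_le ((Submodule.span_singleton_le_iff_mem _ _).2 ⟨Pi.single j 1, Matrix.toLin'_apply _ _⟩)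
      (by rw [finrank_span_singleton hj]; exact h1)
  have hc : ∀ k, ∃ c : F, c • x = N *ᵥ Pi.single k 1 := fun k =>
    Submodule.mem_span_singleton.1 (hsp ▸ ⟨Pi.single k 1, Matrix.toLin'_apply _ _⟩)
  choose f hf using hc
  have hN : N = vecMulVec x f := by
    ext i k
    have := congrFun (hf k) i
    rw [Pi.smul_apply, smul_eq_mul, mulVec_single_one] at this
    rw [vecMulVec_apply, mul_comm]
    exact this.symm
  have hf0 : f ≠ 0 := fun e => h0 (by rw [hN, e, vecMulVec_zero])
  refine ⟨x, f, hj, hf0, ?_, hN⟩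
  have h3 : N *ᵥ x = 0 := by rw [hx, mulVec_mulVec, h2, zero_mulVec]
  rw [hN, vecMulVec_mulVec] at h3
  by_contra hd
  exact hj (funext fun i => by have := congrFun h3 i; simpa [hd] using this)

theorem ne_top_ker {φ : V} (hφ : φ ≠ 0) :
    ∃ W : Submodule F V, W ≠ ⊤ ∧ ∀ x, x ∈ W ↔ φ ⬝ᵥ x = 0 := by
  let L : V →ₗ[F] F :=
    { toFun := fun x => φ ⬝ᵥ x, map_add' := fun x y => dotProduct_add _ _ _, map_smul' := fun c x => by
        simp [dotProduct_smul] }
  refine ⟨LinearMap.ker L, fun e => hφ (funext fun i => ?_), fun x => Iff.rfl⟩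
  have : (Pi.single i 1 : V) ∈ LinearMap.ker L := e ▸ Submodule.mem_top
  simpa [L] using this

section gen

variable {R : Subgroup (GL (Fin 3) F)} (hI : Cfsg.Geo.ActsIrreducibly (Cfsg.Geo.matrixSet R))
  {H : Subgroup (SpecialLinearGroup (Fin 3) F)}
  (hR : ∀ r ∈ R, ∃ s ∈ H, (s : Matrix (Fin 3) (Fin 3) F) = (r : Matrix (Fin 3) (Fin 3) F))
include hI hR

theorem exists_out {φ v : V} (hφ : φ ≠ 0) (hv : v ≠ 0) : ∃ s ∈ H, φ ⬝ᵥ ((s : MF) *ᵥ v) ≠ 0 := by
  obtain ⟨W, hW, hm⟩ := ne_top_ker hφ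
  obtain ⟨r, hr, h⟩ := exists_move hI hv hW
  obtain ⟨s, hs, e⟩ := hR r hr
  exact ⟨s, hs, by rw [e]; exact fun h0 => h ((hm _).2 h0)⟩

/-- A full transvection group and an irreducible group give everything. -/
theorem top_of_full {x f : V} (hF : Full H x f) (hx : x ≠ 0) (hf : f ≠ 0) : H = ⊤ := by
  have conjv : ∀ {s : S}, s ∈ H → ∀ {w : V}, w ≠ 0 → (s : MF) *ᵥ w ≠ 0 := fun {s} _ {w} hw e => hw (by
    have h1 : ((s⁻¹ : S) : MF) * (s : MF) = 1 := by
      rw [← Matrix.SpecialLinearGroup.coe_mul, inv_mul_cancel, Matrix.SpecialLinearGroup.coe_one]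
    rw [← one_mulVec w, ← h1, ← mulVec_mulVec, e, mulVec_zero])
  -- two centres of one axis
  have key : ∀ {x z f h : V}, f ≠ 0 → h ≠ 0 → Full H x f → Full H z h → h ⬝ᵥ x = 0 → x ⨯₃ z ≠ 0 →
      ∃ g : V, g ≠ 0 ∧ AxisFull H g := by
    intro x z f h hf hh h1 h2 hx hxz
    by_cases hfz : f ⬝ᵥ z = 0
    · -- the axis `f`
      obtain ⟨p, hp⟩ : ∃ p, f ⬝ᵥ p ≠ 0 := by
        obtain ⟨i, hi⟩ := Function.ne_iff.1 hf
        exact ⟨Pi.single i 1, by simpa using hi⟩
      refine ⟨f, hf, axisFull_of_two (p := p) h1 h2 hfz hp (fun e => ?_) hh⟩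
      obtain ⟨q, hq0, hq⟩ := Matrix.exists_vecMul_eq_zero_iff.2 e
      have hs : q 0 • x + q 1 • p + q 2 • z = 0 := by
        rw [← hq]; funext i; simp [Matrix.vecMul, dotProduct, Fin.sum_univ_three]
      have := congrArg (fun v => f ⬝ᵥ v) hs
      simp only [dotProduct_add, dotProduct_smul, h1.1, hfz, smul_eq_mul, mul_zero, zero_add, add_zero,
        dotProduct_zero] at this
      have q1 := (mul_eq_zero.1 this).resolve_right hp
      rw [q1, zero_smul, add_zero] at hs
      have c1 := congrArg (fun v => v ⨯₃ z) hs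
      have c2 := congrArg (fun v => x ⨯₃ v) hs
      simp only [map_add, map_smul, LinearMap.add_apply, LinearMap.smul_apply, cross_self, smul_zero, add_zero,
        zero_add, map_zero, LinearMap.zero_apply] at c1 c2
      exact hq0 (funext fun i => by
        fin_cases i
        · exact (smul_eq_zero.1 c1).resolve_right hxz
        · exact q1
        · exact (smul_eq_zero.1 c2).resolve_right hxz)
    · -- the axis `h`
      have h3 : Full H x h := h2.comm h1 hx hfz
      have hp : ∃ p, h ⬝ᵥ p ≠ 0 := by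
        obtain ⟨i, hi⟩ := Function.ne_iff.1 hh
        exact ⟨Pi.single i 1, by simpa using hi⟩
      obtain ⟨p, hp⟩ := hp
      refine ⟨h, hh, axisFull_of_two (p := p) h3 h2 h2.1 hp (fun e => ?_) hh⟩
      obtain ⟨q, hq0, hq⟩ := Matrix.exists_vecMul_eq_zero_iff.2 e
      have hs : q 0 • x + q 1 • p + q 2 • z = 0 := by
        rw [← hq]; funext i; simp [Matrix.vecMul, dotProduct, Fin.sum_univ_three]
      have := congrArg (fun v => h ⬝ᵥ v) hs
      simp only [dotProduct_add, dotProduct_smul, h3.1, h2.1, smul_eq_mul, mul_zero, zero_add, add_zero,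
        dotProduct_zero] at this
      have q1 := (mul_eq_zero.1 this).resolve_right hp
      rw [q1, zero_smul, add_zero] at hs
      have c1 := congrArg (fun v => v ⨯₃ z) hs
      have c2 := congrArg (fun v => x ⨯₃ v) hs
      simp only [map_add, map_smul, LinearMap.add_apply, LinearMap.smul_apply, cross_self, smul_zero, add_zero,
        zero_add, map_zero, LinearMap.zero_apply] at c1 c2
      exact hq0 (funext fun i => by
        fin_cases i
        · exact (smul_eq_zero.1 c1).resolve_right hxz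
        · exact q1
        · exact (smul_eq_zero.1 c2).resolve_right hxz)
  have hax0 : ∀ {s : S}, s ∈ H → f ᵥ* ((s⁻¹ : S) : MF) ≠ 0 := fun {s} _ e => hf (by
    have h1 : ((s⁻¹ : S) : MF) * (s : MF) = 1 := by
      rw [← Matrix.SpecialLinearGroup.coe_mul, inv_mul_cancel, Matrix.SpecialLinearGroup.coe_one]
    rw [← vecMul_one f, ← h1, ← vecMul_vecMul, e, zero_vecMul])
  obtain ⟨g₀, hg₀, hA⟩ : ∃ g : V, g ≠ 0 ∧ AxisFull H g := by
    obtain ⟨m, hm, hfy⟩ := exists_out hI hR hf hx
    obtain ⟨y, hy⟩ : ∃ y, y = (m : MF) *ᵥ x := ⟨_, rfl⟩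
    obtain ⟨g, hg⟩ : ∃ g, g = f ᵥ* ((m⁻¹ : S) : MF) := ⟨_, rfl⟩
    rw [← hy] at hfy
    have hY : Full H y g := hy ▸ hg ▸ hF.conj hm
    have hxy : x ⨯₃ y ≠ 0 := fun e => hfy (by
      by_contra hd
      obtain ⟨i, hi⟩ := Function.ne_iff.1 hx
      have e0 := congrFun e 0
      have e1 := congrFun e 1
      have e2 := congrFun e 2
      have hfx := hF.1
      simp [crossProduct] at e0 e1 e2
      simp [dotProduct, Fin.sum_univ_three] at hfx
      refine hd ((mul_eq_zero.1 (show x i * (f ⬝ᵥ y) = 0 from ?_)).resolve_left hi)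
      rw [dotProduct, Fin.sum_univ_three]
      fin_cases i <;> simp only [Fin.zero_eta, Fin.mk_one, Fin.reduceFinMk]
      · linear_combination y 0 * hfx + f 1 * e2 - f 2 * e1
      · linear_combination y 1 * hfx - f 0 * e2 + f 2 * e0
      · linear_combination y 2 * hfx + f 0 * e1 - f 1 * e0)
    by_cases hgx : g ⬝ᵥ x = 0
    · exact key hf (hg ▸ hax0 hm) hF hY hgx hxy
    obtain ⟨n, hn, hz⟩ := exists_out hI hR hxy hx
    obtain ⟨z, hzd⟩ : ∃ z, z = (n : MF) *ᵥ x := ⟨_, rfl⟩
    obtain ⟨θ, hθ⟩ : ∃ θ, θ = f ᵥ* ((n⁻¹ : S) : MF) := ⟨_, rfl⟩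
    rw [← hzd] at hz
    have hZ : Full H z θ := hzd ▸ hθ ▸ hF.conj hn
    have hθ0 : θ ≠ 0 := hθ ▸ hax0 hn
    by_cases hθx : θ ⬝ᵥ x = 0
    · refine key hf hθ0 hF hZ hθx fun e => hz ?_
      rw [dotProduct_comm, ← triple_product_permutation, dotProduct_comm] at *
      have e0 := congrFun e 0
      have e1 := congrFun e 1
      have e2 := congrFun e 2
      simp [crossProduct, dotProduct, Fin.sum_univ_three] at e0 e1 e2 ⊢
      linear_combination -y 0 * e0 - y 1 * e1 - y 2 * e2
    · -- the centre moved into the kernel of `θ`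
      obtain ⟨c, hc⟩ : ∃ c, c = -(θ ⬝ᵥ y) / ((f ⬝ᵥ y) * (θ ⬝ᵥ x)) := ⟨_, rfl⟩
      have hU := hY.conj (hF.2 c)
      have e1 : ((tv hF.1 c : S) : MF) *ᵥ y = y + (c * (f ⬝ᵥ y)) • x := by
        rw [tv_val, add_mulVec, one_mulVec, smul_mulVec, vecMulVec_mulVec]
        simp [smul_smul]
      rw [e1] at hU
      refine key ?_ hθ0 hU hZ ?_ fun e => hz ?_
      · intro e0
        refine (hg ▸ hax0 hm) ?_
        have h1 : g = (g ᵥ* (((tv hF.1 c)⁻¹ : S) : MF)) ᵥ* ((tv hF.1 c : S) : MF) := by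
          rw [vecMul_vecMul, ← Matrix.SpecialLinearGroup.coe_mul, inv_mul_cancel, Matrix.SpecialLinearGroup.coe_one,
            vecMul_one]
        rw [h1, e0, zero_vecMul]
      · rw [dotProduct_add, dotProduct_smul, hc, smul_eq_mul]
        field_simp
        ring
      · have e0 := congrFun e 0
        have e1 := congrFun e 1
        have e2 := congrFun e 2
        simp [crossProduct, dotProduct, Fin.sum_univ_three] at e0 e1 e2 ⊢
        linear_combination x 0 * e0 + x 1 * e1 + x 2 * e2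
  -- the axes form a subspace
  have hsmul : ∀ (a : F) (g : V), AxisFull H g → AxisFull H (a • g) := fun a g hg w hw => by
    by_cases ha : a = 0
    · rw [ha, zero_smul]; exact Full.zero_axis w
    exact (hg w (by rw [smul_dotProduct, smul_eq_mul] at hw; exact (mul_eq_zero.1 hw).resolve_left ha)).smul_axis a
  let A : Submodule F V :=
    { carrier := {g | AxisFull H g}
      zero_mem' := fun w _ => Full.zero_axis w
      smul_mem' := hsmul
      add_mem' := by
        intro g h hg hh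
        show AxisFull H (g + h)
        by_cases hp : ∀ w, g ⬝ᵥ w = 0 → h ⬝ᵥ w = 0
        · intro w hw
          by_cases hgw : g ⬝ᵥ w = 0
          · exact (hg w hgw).add_axis (hh w (hp w hgw))
          · -- `h` is a multiple of `g`
            have : h = (h ⬝ᵥ w / (g ⬝ᵥ w)) • g := funext fun i => by
              have := hp (Pi.single i 1 - (g i / (g ⬝ᵥ w)) • w) (by
                rw [dotProduct_sub, dotProduct_smul, dotProduct_single, smul_eq_mul, div_mul_cancel₀ _ hgw]; simp)
              rw [dotProduct_sub, dotProduct_smul, dotProduct_single, sub_eq_zero, smul_eq_mul, mul_one] at this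
              rw [Pi.smul_apply, smul_eq_mul, this]
              ring
            rw [this] at hw ⊢
            rw [show g + (h ⬝ᵥ w / (g ⬝ᵥ w)) • g = (1 + h ⬝ᵥ w / (g ⬝ᵥ w)) • g by module] at hw ⊢
            exact hsmul _ g hg w hw
        · push Not at hp
          obtain ⟨w, hgw, hhw⟩ := hp
          have hmv := hh.conj ((hg w hgw).2 (-(h ⬝ᵥ w)⁻¹))
          have e : h ᵥ* (((tv (hg w hgw).1 (-(h ⬝ᵥ w)⁻¹))⁻¹ : S) : MF) = g + h := by
            rw [show (tv (hg w hgw).1 (-(h ⬝ᵥ w)⁻¹))⁻¹ = tv (hg w hgw).1 (h ⬝ᵥ w)⁻¹ from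
              inv_eq_of_mul_eq_one_right (by rw [← tv_add, neg_add_cancel, tv_zero]), tv_val, vecMul_add, vecMul_one,
              vecMul_smul, vecMul_vecMulVec, smul_smul, inv_mul_cancel₀ hhw, one_smul, add_comm]
          rwa [e] at hmv }
  have hA' : ∀ g : V, g ∈ A := by
    intro g
    by_contra hgA
    obtain ⟨L, hL0, hL⟩ := Submodule.exists_le_ker_of_lt_top A (lt_top_iff_ne_top.2 fun e => hgA (e ▸ Submodule.mem_top))
    obtain ⟨w, hw⟩ : ∃ w : V, ∀ v, L v = v ⬝ᵥ w := ⟨fun i => L (Pi.single i 1), fun v => by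
      conv_lhs => rw [CfsgLib.RegGen.sum_coord v]
      rw [map_sum, dotProduct]
      exact Finset.sum_congr rfl fun i _ => by rw [map_smul, smul_eq_mul]⟩
    have hw0 : w ≠ 0 := fun e => hL0 (LinearMap.ext fun v => by rw [hw, e, dotProduct_zero, LinearMap.zero_apply])
    obtain ⟨s, hs, hsw⟩ := exists_out hI hR hg₀ hw0
    have h1 := hA.conj (inv_mem hs)
    rw [inv_inv] at h1
    have h2 := LinearMap.mem_ker.1 (hL (show g₀ ᵥ* (s : MF) ∈ A from h1))
    rw [hw, ← dotProduct_mulVec] at h2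
    exact hsw h2
  exact eq_top_of_full (by norm_num) fun i j hij => hA' _ _ (by simp [hij.symm])

/-- Over a prime field a transvection and an irreducible group give everything. -/
theorem top_of_tv [Finite F] {p : ℕ} [Fact p.Prime] [CharP F p] (hp : ∀ c : F, ∃ i : ℕ, (i : F) = c) {t : S}
    (ht : t ∈ H) (htv : IsTv (t : MF)) : H = ⊤ := by
  obtain ⟨x, f, hx, hf, hfx, hN⟩ := exists_vec (sub_ne_zero.2 htv.1) htv.2
  refine top_of_full hI hR ⟨hfx, fun c => ?_⟩ hx hf
  obtain ⟨i, rfl⟩ := hp c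
  have e : ∀ k : ℕ, tv hfx (k : F) = t ^ k := by
    intro k
    induction k with
    | zero => rw [Nat.cast_zero, tv_zero, pow_zero]
    | succ k ih =>
      rw [Nat.cast_succ, tv_add, ih, pow_succ]
      congr 1
      exact Subtype.ext (by rw [tv_val, one_smul, ← hN]; abel)
  rw [e]
  exact H.pow_mem ht i

end gen

/-- Maximality is kept by an automorphism. -/
theorem isMaximalIn_map {G : Type*} [Group G] (e : G ≃* G) {K N : Subgroup G} (hK : K.map e.toMonoidHom = K)
    (h : Cfsg.Geo.IsMaximalIn K (N ⊓ K)) : Cfsg.Geo.IsMaximalIn K (N.map e.toMonoidHom ⊓ K) := by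
  have hm : N.map e.toMonoidHom ⊓ K = (N ⊓ K).map e.toMonoidHom := by
    rw [Subgroup.map_inf _ _ _ e.injective, hK]
  have back : ∀ X : Subgroup G, (X.comap e.toMonoidHom).map e.toMonoidHom = X := fun X =>
    Subgroup.map_comap_eq_self_of_surjective e.surjective X
  have hK' : K.comap e.toMonoidHom = K := by
    conv_lhs => rw [← hK, Subgroup.comap_map_eq_self_of_injective e.injective]
  rw [hm]
  refine ⟨lt_of_lt_of_eq ((Subgroup.map_lt_map_iff_of_injective e.injective).2 h.1) hK, fun M hM hM' => ?_⟩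
  rcases h.2 (M.comap e.toMonoidHom) (Subgroup.map_le_iff_le_comap.1 hM)
      (by rw [← hK']; exact Subgroup.comap_mono hM') with e' | e'
  · exact Or.inl (by rw [← back M, e'])
  · exact Or.inr (by rw [← back M, e', hK])

end CfsgLib.HessianMax
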