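import Cfsg.Agent.Lib.HessianMax.Sylow
import Cfsg.Agent.Lib.ZStar.Main
import Cfsg.Agent.Lib.Coprime.Generation

/-!
The case of an isolated involution: the core of odd order is the Heisenberg group.
-/

set_option autoImplicit false
set_option linter.unusedSectionVars false

namespace CfsgLib.HessianMax

open Matrix TwoDim CfsgLib.SL2
open scoped MatrixGroups

variable {K : Type*} [Field K] [Finite K] {p : ℕ} [hp : Fact p.Prime] [CharP K p]

local notation "M2" => Matrix (Fin 2) (Fin 2) K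
local notation "M3" => Matrix (Fin 3) (Fin 3) K
local notation "SL2" => SpecialLinearGroup (Fin 2) K
local notation "PSL" => ProjectiveSpecialLinearGroup (Fin 2) K

namespace InR

variable {ω : K} (hω : ω ^ 2 + ω + 1 = 0)
include hω

theorem comm_scalar {A B : M3} (hA : InR ω A) (hB : InR ω B) : ∃ a : ℕ, A * B = ω ^ a • (B * A) := by
  obtain ⟨i', j', k', rfl⟩ := hA
  obtain ⟨i, j, k, rfl⟩ := hB
  refine ⟨j * k' + 2 * (j' * k), ?_⟩
  simp only [Matrix.smul_mul, Matrix.mul_smul, smul_smul]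
  rw [show Xm ω ^ j' * (Ym : M3) ^ k' * (Xm ω ^ j * (Ym : M3) ^ k) =
    ω ^ (j * k') • (Xm ω ^ (j' + j) * (Ym : M3) ^ (k' + k)) by
    rw [Matrix.mul_assoc, ← Matrix.mul_assoc ((Ym : M3) ^ k'), InR.X_pow_Y hω, Matrix.smul_mul, Matrix.mul_smul,
      pow_add, pow_add]
    simp only [Matrix.mul_assoc]]
  rw [show Xm ω ^ j * (Ym : M3) ^ k * (Xm ω ^ j' * (Ym : M3) ^ k') =
    ω ^ (j' * k) • (Xm ω ^ (j' + j) * (Ym : M3) ^ (k' + k)) by
    rw [Matrix.mul_assoc, ← Matrix.mul_assoc ((Ym : M3) ^ k), InR.X_pow_Y hω, Matrix.smul_mul, Matrix.mul_smul,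
      add_comm j', add_comm k', pow_add, pow_add]
    simp only [Matrix.mul_assoc]]
  simp only [smul_smul, ← pow_add]
  congr 1
  rw [pow_eq_pow_mod _ (om3 hω)]
  conv_rhs => rw [pow_eq_pow_mod _ (om3 hω)]
  congr 1
  omega

theorem cube {A : M3} (hA : InR ω A) : A ^ 3 = 1 := by
  obtain ⟨i, j, k, rfl⟩ := hA
  rw [smul_pow, ← pow_mul, mul_comm i, pow_mul, om3 hω, one_pow, one_smul]
  have e1 := X_pow_Y hω j k
  have e2 := X_pow_Y hω j (k + k)
  have e4 : Xm ω ^ (j + j + j) = 1 := by rw [show j + j + j = 3 * j by ring, pow_mul, Xm_cube hω, one_pow]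
  have e5 : (Ym : M3) ^ (k + k + k) = 1 := by rw [show k + k + k = 3 * k by ring, pow_mul, Ym_cube, one_pow]
  have sq : (Xm ω ^ j * (Ym : M3) ^ k) * (Xm ω ^ j * (Ym : M3) ^ k) =
      ω ^ (j * k) • (Xm ω ^ (j + j) * (Ym : M3) ^ (k + k)) := by
    rw [Matrix.mul_assoc, ← Matrix.mul_assoc ((Ym : M3) ^ k), e1, Matrix.smul_mul, Matrix.mul_smul, pow_add (Xm ω),
      pow_add (Ym : M3)]
    simp only [Matrix.mul_assoc]
  rw [pow_succ, pow_two, sq, Matrix.smul_mul, Matrix.mul_assoc, ← Matrix.mul_assoc ((Ym : M3) ^ (k + k)), e2,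
    Matrix.smul_mul, Matrix.mul_smul, smul_smul, ← pow_add, Matrix.mul_assoc (Xm ω ^ j), ← pow_add (Ym : M3), e5,
    Matrix.mul_one, ← pow_add (Xm ω), e4, show j * k + j * (k + k) = 3 * (j * k) by ring, pow_mul, om3 hω, one_pow,
    one_smul]

end InR

theorem isPGroup_Rsub {ω : K} (hω : ω ^ 2 + ω + 1 = 0) : IsPGroup 3 (Rsub K ω hω) := fun g =>
  ⟨1, Subtype.ext (Units.ext (by
    rw [pow_one, Subgroup.coe_pow, Units.val_pow_eq_pow_val, InR.cube hω g.2, Subgroup.coe_one, Units.val_one]))⟩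

namespace Setup

variable {ω : K} {M : Subgroup (GL3 K)} (h : Setup p ω M)
include h

/-- The central involution is isolated if no conjugate inverts its fixed line. -/
theorem isolated (hns : ¬ ∃ s ∈ M, s * s = 1 ∧ (tB h.two).Fits (s : M3) ∧ (tB h.two).ln (s : M3) = -1)
    {t : GL3 K} (ht : t ∈ M) (et : (t : M3) = tm) : Cfsg.IsIsolatedInvolution (⟨t, ht⟩ : M) := by
  haveI : Fact (Nat.Prime 2) := ⟨Nat.prime_two⟩
  have h2 := h.two
  set B := tB h2 with hB
  have tsq : t * t = 1 := Units.ext (by rw [Units.val_mul, et, tm_sq, Units.val_one])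
  have tne : t ≠ 1 := fun e => by
    have := congrArg (fun u : GL3 K => (u : M3) 0 0) e
    simp [et, tm] at this
    exact h2 (by linear_combination -this)
  refine ⟨orderOf_eq_prime (Subtype.ext (by rw [pow_two]; exact tsq)) (fun e => tne (congrArg Subtype.val e)),
    fun g hg => ?_⟩
  apply Subtype.ext
  set t' : GL3 K := (g : GL3 K) * t * (g : GL3 K)⁻¹
  have ht' : t' ∈ M := mul_mem (mul_mem g.2 ht) (inv_mem g.2)
  have ct : t * t' = t' * t := congrArg Subtype.val hg.eq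
  have hf : B.Fits (t' : M3) := (tB_fits_iff h2 _).2 (by
    rw [← et, ← Units.val_mul, ← Units.val_mul, ct])
  have t'sq : t' * t' = 1 := by
    rw [conj_mul, tsq, mul_one, mul_inv_cancel]
  have t'ne : t' ≠ 1 := fun e => tne (by simpa [t'] using e)
  have esq : (t' : M3) * (t' : M3) = 1 := by rw [← Units.val_mul, t'sq, Units.val_one]
  have hl : B.ln (t' : M3) * B.ln (t' : M3) = 1 := by rw [← Blk.ln_mul hf, esq, Blk.ln_one]
  have hl1 : B.ln (t' : M3) = 1 := (mul_self_eq_one_iff.1 hl).resolve_right fun e =>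
    hns ⟨t', ht', t'sq, hf, e⟩
  have hdet : (B.pl (t' : M3)).det = 1 := by
    have := h.det t' ht'
    rwa [hf.det_eq, hl1, one_mul] at this
  have hp2' : B.pl (t' : M3) * B.pl (t' : M3) = 1 := by rw [← Blk.pl_mul hf, esq, Blk.pl_one]
  let A : SL2 := ⟨B.pl (t' : M3), hdet⟩
  have hs := sq_eq A
  have hs' : B.pl (t' : M3) * B.pl (t' : M3) = (B.pl (t' : M3)).trace • B.pl (t' : M3) - 1 := hs
  rw [hp2', eq_sub_iff_add_eq] at hs'
  have hT : (B.pl (t' : M3)).trace ≠ 0 := fun e => by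
    rw [e, zero_smul] at hs'
    have := congrFun (congrFun hs' 0) 0
    simp [one_add_one_eq_two, h2] at this
  set T := (B.pl (t' : M3)).trace
  have hpl : B.pl (t' : M3) = (T⁻¹ * 2) • 1 := by
    rw [← inv_smul_smul₀ hT (B.pl (t' : M3)), ← hs', mul_smul]
    congr 1
    rw [two_smul]
  rw [hpl, det_smul, det_one, mul_one, Fintype.card_fin, pow_two] at hdet
  show t' = t
  rcases mul_self_eq_one_iff.1 hdet with e | e
  · refine absurd (Units.ext (Blk.Fits.ext hf Blk.fits_one ?_ ?_)) t'ne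
    · rw [Units.val_one, Blk.pl_one, hpl, e, one_smul]
    · rw [Units.val_one, Blk.ln_one, hl1]
  · refine Units.ext (et ▸ Blk.Fits.ext hf (tB_fits_t h2) ?_ ?_)
    · rw [tB_pl_t, hpl, e, neg_one_smul]
    · rw [tB_ln_t, hl1]

theorem oddOrd {N : Subgroup (GL3 K)} (hNodd : Odd (Nat.card N)) : ∀ n ∈ N, Odd (orderOf n) := fun n hn => by
  have := orderOf_dvd_natCard (⟨n, hn⟩ : N)
  rw [← Subgroup.orderOf_coe] at this
  exact Odd.of_dvd_nat hNodd this

/-- In a normal subgroup of odd order the elements commuting with the generator and the involution are scalars. -/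
theorem diag_scalar {N : Subgroup (GL3 K)} (hNle : N ≤ M) (hconj : ∀ m ∈ M, ∀ n ∈ N, m * n * m⁻¹ ∈ N)
    (hNodd : Odd (Nat.card N)) {n : GL3 K} (hn : n ∈ N) (hnX : (n : M3) * Xm ω = Xm ω * (n : M3))
    (hnt : (n : M3) * tm = tm * (n : M3)) : ∃ c : K, (n : M3) = c • 1 := by
  classical
  haveI : Finite (GL3 K) := finite_gl
  have h2 := h.two
  have h3 := h.three
  have hω := h.om
  have h7 := h.p7
  set B := tB h2 with hB
  obtain ⟨g0, hg0, eg0⟩ := h.mg
  have oddOrd := h.oddOrd hNodd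
  -- the image of the plane groups of the core has odd order
  have hodd : Odd (Nat.card ((B.planeSL N).map proj : Subgroup PSL)) := by
    rw [← Nat.not_even_iff_odd, even_iff_two_dvd]
    intro h2d
    haveI : Fact (Nat.Prime 2) := ⟨Nat.prime_two⟩
    obtain ⟨a, ha⟩ := exists_prime_orderOf_dvd_card' 2 h2d
    obtain ⟨A, hA, hAa⟩ := a.2
    obtain ⟨g, hg, fg, μ, eA⟩ := Blk.mem_planeSL B |>.1 hA
    set m := orderOf g
    have h1 : proj A ^ m = 1 := by
      rw [← map_pow, ← pm_iff]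
      refine scalar_pm _ (c := μ ^ m) ?_
      rw [show ((A ^ m : SL2) : M2) = (A : M2) ^ m from rfl, eA, smul_pow, ← (Blk.pl_pow fg m).2.1,
        ← Units.val_pow_eq_pow_val, pow_orderOf_eq_one, Units.val_one, Blk.pl_one]
    have h4 : orderOf a ∣ m := by
      rw [← Subgroup.orderOf_coe, ← hAa]
      exact orderOf_dvd_of_pow_eq_one h1
    rw [ha] at h4
    exact Nat.not_even_iff_odd.2 (oddOrd g hg) (even_iff_two_dvd.2 h4)
  have hNtv : NoTv N := h.notv.mono hNle
  have hNtv : NoTv N := h.notv.mono hNle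
  have hf : B.Fits (n : M3) := (tB_fits_iff h2 _).2 hnt
  have hg0f : B.Fits (g0 : M3) := eg0 ▸ tB_fits_g h2 hω h3
  set n' : GL3 K := g0 * n * g0⁻¹
  have hn' : n' ∈ N := hconj g0 hg0 n hn
  have hf' : B.Fits (n' : M3) := by
    rw [Units.val_mul, Units.val_mul]
    exact (hg0f.mul hf).mul hg0f.inv
  have e' : ∀ a b : Fin 3, ((n : M3) * Xm ω) a b = (Xm ω * (n : M3)) a b := fun a b => by rw [hnX]
  have z0' : ∀ {a x : K}, a ≠ 0 → a * x = 0 → x = 0 := fun ha hx => (mul_eq_zero.1 hx).resolve_left ha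
  have hω1 := om_ne_one hω h3
  have hω0 := om_ne_zero hω
  have hω2 : ω ^ 2 ≠ 1 := fun e => hω1 (by linear_combination -ω * e + om3 hω)
  have hω12 : ω ^ 2 - ω ≠ 0 := fun e' => by
    rcases mul_eq_zero.1 (show ω * (ω - 1) = 0 by linear_combination e') with a | a
    exacts [hω0 a, hω1 (sub_eq_zero.1 a)]
  have e01 := e' 0 1
  have e02 := e' 0 2
  have e10 := e' 1 0
  have e12 := e' 1 2
  have e20 := e' 2 0
  have e21 := e' 2 1
  simp [Xm, Matrix.mul_apply, vecMul, dotProduct, Fin.sum_univ_three] at e01 e02 e10 e12 e20 e21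
  set a := (n : M3) 0 0
  set b := (n : M3) 1 1
  set c := (n : M3) 2 2
  have dn : (n : M3) = !![a, 0, 0; 0, b, 0; 0, 0, c] := by
    have a01 := z0' (sub_ne_zero.2 hω1) (show (ω - 1) * (n : M3) 0 1 = 0 by linear_combination e01)
    have a02 := z0' (sub_ne_zero.2 hω2) (show (ω ^ 2 - 1) * (n : M3) 0 2 = 0 by linear_combination e02)
    have a10 := z0' (sub_ne_zero.2 hω1) (show (ω - 1) * (n : M3) 1 0 = 0 by linear_combination -e10)
    have a12 := z0' hω12 (show (ω ^ 2 - ω) * (n : M3) 1 2 = 0 by linear_combination e12)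
    have a20 := z0' (sub_ne_zero.2 hω2) (show (ω ^ 2 - 1) * (n : M3) 2 0 = 0 by linear_combination -e20)
    have a21 := z0' hω12 (show (ω ^ 2 - ω) * (n : M3) 2 1 = 0 by linear_combination -e21)
    ext i j
    fin_cases i <;> fin_cases j <;> simp [a, b, c, a01, a02, a10, a12, a20, a21]
  have hbc : c = b := by
    have := congrFun (congrFun hnt 1) 2
    rw [dn] at this
    simp [tm, Matrix.mul_apply, Fin.sum_univ_three] at this
    exact this.symm
  rw [hbc] at dn
  have hdet : a * b * b = 1 := by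
    rw [← h.det n (hNle hn), dn]
    simp [det_fin_three]
  have hpl : B.pl (n : M3) = !![a, 0; 0, b] := by
    rw [tB_pl_apply, dn]
    ext i j
    fin_cases i <;> fin_cases j <;> simp [h2] <;> field_simp <;> ring
  obtain ⟨μ, hμ⟩ : IsSquare b := h.sq n (hNle hn) b (isRoot_of_eigvec (v := ![0, 1, 0])
    (fun e => one_ne_zero (α := K) (congrFun e 1)) (by
      rw [dn]; ext i; fin_cases i <;> simp [mulVec, dotProduct, Fin.sum_univ_three]))
  have hμ0 : μ ≠ 0 := by rintro rfl; rw [hμ] at hdet; simp at hdet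
  set G : M2 := B.pl (g0 : M3)
  set G' : M2 := B.pl ((g0⁻¹ : GL3 K) : M3)
  have hG' : G' * G = 1 := B.pl_inv hg0f
  have hpl' : B.pl (n' : M3) = G * B.pl (n : M3) * G' := by
    rw [Units.val_mul, Units.val_mul, Blk.pl_mul hg0f.inv, Blk.pl_mul hf]
  have hA : (μ • B.pl (n : M3)).det = 1 := by
    rw [det_smul, hpl, det_fin_two, Fintype.card_fin]
    simp
    linear_combination hdet - a * b * hμ
  have hA' : (μ • B.pl (n' : M3)).det = 1 := by
    rw [det_smul] at hA ⊢
    rw [hpl', det_mul, det_mul, mul_right_comm G.det, ← det_mul, mul_eq_one_comm.1 hG', det_one, one_mul]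
    exact hA
  have key := TwoDim.comm_of_odd p (B.planeSL_pfree p (by omega) hNtv) (by omega) hodd ⟨_, hA⟩
    ((Blk.mem_planeSL B).2 ⟨n, hn, hf, μ, rfl⟩) ⟨_, hA'⟩ ((Blk.mem_planeSL B).2 ⟨n', hn', hf', μ, rfl⟩)
  have key' : B.pl (n : M3) * B.pl (n' : M3) = B.pl (n' : M3) * B.pl (n : M3) := by
    have := congrArg (fun u : SL2 => (u : M2)) key
    change (μ • B.pl (n : M3)) * (μ • B.pl (n' : M3)) = (μ • B.pl (n' : M3)) * (μ • B.pl (n : M3)) at this
    rw [Matrix.smul_mul, Matrix.mul_smul, smul_smul, Matrix.smul_mul, Matrix.mul_smul, smul_smul] at this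
    exact smul_right_injective M2 (mul_ne_zero hμ0 hμ0) this
  have eG : G = (ω - ω ^ 2)⁻¹ • !![1, 2; 1, -1] := by
    show B.pl (g0 : M3) = _
    rw [eg0, tB_pl_g h2 hω h3]
  have hGG : G * G = (-1 : K) • (1 : M2) := by
    have hd := delta_ne hω h3
    rw [eG, Matrix.smul_mul, Matrix.mul_smul, smul_smul, ← mul_inv, ← pow_two, delta_sq hω]
    have h3' : (-3 : K) ≠ 0 := neg_ne_zero.2 h3
    ext i j
    fin_cases i <;> fin_cases j <;> simp [Matrix.mul_apply, Fin.sum_univ_two] <;> field_simp <;> ring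
  have eG' : G' = -G := by
    calc G' = G' * (G * -G) := by rw [Matrix.mul_neg, hGG, neg_smul, one_smul, neg_neg, Matrix.mul_one]
      _ = _ := by rw [← Matrix.mul_assoc, hG', Matrix.one_mul]
  rw [hpl', eG', eG, hpl] at key'
  have k01 := congrFun (congrFun key' 0) 1
  simp [Matrix.mul_apply, Fin.sum_univ_two] at k01
  have hd := delta_ne hω h3
  field_simp at k01
  have hab : a = b := by
    have : (2 : K) * ((a - b) * (a - b)) = 0 := by grind
    exact sub_eq_zero.1 (mul_self_eq_zero.1 ((mul_eq_zero.1 this).resolve_left h2))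
  refine ⟨b, ?_⟩
  rw [dn, hab]
  ext i j
  fin_cases i <;> fin_cases j <;> simp

/-- A thin subgroup of odd order is the Heisenberg group. -/
theorem eq_Rsub_of_thin {N : Subgroup (GL3 K)} (hthin : h.Thin N) (hNodd : Odd (Nat.card N)) :
    N ≤ Rsub K ω h.om := by
  classical
  haveI : Finite (GL3 K) := finite_gl
  haveI : Fact (Nat.Prime 3) := ⟨Nat.prime_three⟩
  have h3 := h.three
  have hω := h.om
  set R := Rsub K ω hω with hRdef
  obtain ⟨x, hx, ex⟩ := h.mX
  obtain ⟨y, hy, ey⟩ := h.mY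
  obtain ⟨z0, hz0, ez0⟩ := h.mem_scalar
  have hRN : R ≤ N := hthin.sub
  have hxN : x ∈ N := hRN (mem_Rsub.2 ⟨0, 1, 0, by simp [ex]⟩)
  have hyN : y ∈ N := hRN (mem_Rsub.2 ⟨0, 0, 1, by simp [ey]⟩)
  have hzN : z0 ∈ N := hRN (mem_Rsub.2 ⟨1, 0, 0, by simp [ez0]⟩)
  have oddOrd := h.oddOrd hNodd
  -- modulo scalars
  set zN : N := ⟨z0, hzN⟩
  set Z : Subgroup N := Subgroup.zpowers zN
  haveI hZn : Z.Normal := by
    constructor
    intro a ha g
    obtain ⟨i, rfl⟩ := Subgroup.mem_zpowers_iff.1 ha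
    have hc : Commute g zN := Subtype.ext (Units.ext (by
      show ((g : GL3 K) : M3) * (z0 : M3) = (z0 : M3) * ((g : GL3 K) : M3)
      rw [ez0, Matrix.mul_smul, Matrix.mul_one, Matrix.smul_mul, Matrix.one_mul]))
    rw [(hc.zpow_right i).eq, mul_inv_cancel_right]
    exact ha
  have z0R : z0 ∈ R := ⟨1, 0, 0, by simp [ez0]⟩
  set π := QuotientGroup.mk' Z
  set R0 : Subgroup N := R.subgroupOf N
  set Rb := R0.map π
  have ker_le : π.ker ≤ R0 := by
    rw [QuotientGroup.ker_mk']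
    exact Subgroup.zpowers_le.2 z0R
  have comapRb : Rb.comap π = R0 := Subgroup.comap_map_eq_self ker_le
  have scal : ∀ {n : N} {i : ℕ}, ((n : GL3 K) : M3) = ω ^ i • 1 → π n = 1 := by
    intro n i e
    refine (QuotientGroup.eq_one_iff n).2 ?_
    have : n = zN ^ i := Subtype.ext (Units.ext (by
      rw [Subgroup.coe_pow, Units.val_pow_eq_pow_val]
      show _ = (z0 : M3) ^ i
      rw [e, ez0, smul_pow, one_pow]))
    rw [this]
    exact Subgroup.npow_mem_zpowers _ _
  have hR0p : IsPGroup 3 R0 :=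
    (isPGroup_Rsub hω).comap_of_ker_isPGroup N.subtype (IsPGroup.ker_isPGroup_of_injective N.subtype_injective)
  have hRbp : IsPGroup 3 Rb := hR0p.map π
  obtain ⟨P, hP⟩ := hRbp.exists_le_sylow
  have hPeq : (P : Subgroup (N ⧸ Z)) = Rb := by
    have hpre : IsPGroup 3 ((P : Subgroup (N ⧸ Z)).comap π) :=
      P.2.comap_of_ker_isPGroup π (hR0p.to_le ker_le)
    have hle : R0 ≤ (P : Subgroup (N ⧸ Z)).comap π := Subgroup.map_le_iff_le_comap.1 hP
    have := hthin.sylow (Subgroup.map_subtype_le _) (hpre.map N.subtype) (fun r hr => ⟨⟨r, hRN hr⟩, hle hr, rfl⟩)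
    refine le_antisymm (fun q hq => ?_) hP
    obtain ⟨n, rfl⟩ := QuotientGroup.mk'_surjective Z q
    refine ⟨n, ?_, rfl⟩
    show (n : GL3 K) ∈ R
    rw [hRdef, ← this]
    exact ⟨n, hq, rfl⟩
  have habel : ∀ a ∈ (P : Subgroup (N ⧸ Z)), ∀ b ∈ (P : Subgroup (N ⧸ Z)), a * b = b * a := by
    rw [hPeq]
    rintro _ ⟨r, hr, rfl⟩ _ ⟨s, hs, rfl⟩
    obtain ⟨a, ea⟩ := InR.comm_scalar hω ((mem_Rsub (hω := hω)).1 hr) ((mem_Rsub (hω := hω)).1 hs)
    have : π (r * s * (s * r)⁻¹) = 1 := scal (i := a) (by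
      show ((((r : GL3 K) * s) * ((s : GL3 K) * r)⁻¹ : GL3 K) : M3) = _
      rw [Units.val_mul, Units.val_mul]
      simp only [Subgroup.coe_subtype] at ea
      rw [ea, Matrix.smul_mul, ← Units.val_mul, ← Units.val_mul, mul_inv_cancel, Units.val_one])
    rw [map_mul, map_inv, mul_inv_eq_one, map_mul, map_mul] at this
    exact this
  have hnorm : Subgroup.normalizer ((P : Subgroup (N ⧸ Z)) : Set (N ⧸ Z)) ≤
      Subgroup.centralizer ((P : Subgroup (N ⧸ Z)) : Set (N ⧸ Z)) := by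
    intro q hq
    rw [hPeq] at hq
    obtain ⟨n, rfl⟩ := QuotientGroup.mk'_surjective Z q
    have key : ∀ r : N, (r : GL3 K) ∈ R ↔ ((n * r * n⁻¹ : N) : GL3 K) ∈ R := fun r => by
      have := (Subgroup.mem_normalizer_iff.1 hq) (π r)
      rw [← map_inv, ← map_mul, ← map_mul, ← Subgroup.mem_comap, ← Subgroup.mem_comap, comapRb] at this
      exact this
    have hn : (n : GL3 K) ∈ Subgroup.normalizer (R : Set (GL3 K)) := by
      rw [Subgroup.mem_normalizer_iff]
      intro g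
      constructor
      · exact fun hg => (key ⟨g, hRN hg⟩).1 hg
      · intro hg
        have hg' := mul_mem (mul_mem (inv_mem n.2) (hRN hg)) n.2
        rw [show (n : GL3 K)⁻¹ * ((n : GL3 K) * g * (n : GL3 K)⁻¹) * (n : GL3 K) = g by group] at hg'
        exact (key ⟨g, hg'⟩).2 hg
    have hnR : π n ∈ (P : Subgroup (N ⧸ Z)) :=
      hPeq ▸ ⟨n, hthin.norm_odd n.2 hn (oddOrd _ n.2), rfl⟩
    exact Subgroup.mem_centralizer_iff.2 fun g hg => habel g hg _ hnR
  have hcompl := MonoidHom.ker_transferSylow_isComplement' P hnorm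
  have hndvd := MonoidHom.not_dvd_card_ker_transferSylow P hnorm
  set Kk := (MonoidHom.transferSylow P hnorm).ker
  haveI : IsMulCommutative (P : Subgroup (N ⧸ Z)) := ⟨⟨fun a b => Subtype.ext (habel a a.2 b b.2)⟩⟩
  have hncyc : ¬ IsCyclic (P : Subgroup (N ⧸ Z)) := by
    intro hcyc
    have hxP : π ⟨x, hxN⟩ ∈ (P : Subgroup (N ⧸ Z)) := hPeq ▸ ⟨_, (⟨0, 1, 0, by simp [ex]⟩ : InR ω _), rfl⟩
    have hyP : π ⟨y, hyN⟩ ∈ (P : Subgroup (N ⧸ Z)) := hPeq ▸ ⟨_, (⟨0, 0, 1, by simp [ey]⟩ : InR ω _), rfl⟩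
    set xb : (P : Subgroup (N ⧸ Z)) := ⟨_, hxP⟩
    set yb : (P : Subgroup (N ⧸ Z)) := ⟨_, hyP⟩
    have hexp : Monoid.exponent (P : Subgroup (N ⧸ Z)) ∣ 3 := by
      refine Monoid.exponent_dvd_of_forall_pow_eq_one fun q => Subtype.ext ?_
      have hq : (q : N ⧸ Z) ∈ Rb := hPeq ▸ q.2
      obtain ⟨r, hr, e⟩ := hq
      rw [Subgroup.coe_pow, ← e, ← map_pow, Subgroup.coe_one]
      refine scal (i := 0) ?_
      rw [Subgroup.coe_pow, Units.val_pow_eq_pow_val, pow_zero, one_smul]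
      exact InR.cube hω hr
    rw [IsCyclic.exponent_eq_card] at hexp
    have notscal : ∀ {r : N}, π r = 1 → ∃ c : K, ((r : GL3 K) : M3) = c • 1 := by
      intro r e
      obtain ⟨i, rfl⟩ := Subgroup.mem_zpowers_iff.1 ((QuotientGroup.eq_one_iff r).1 e)
      have hpos : ∃ m : ℕ, zN ^ i = zN ^ m := by
        obtain ⟨m, hm⟩ := mem_powers_iff_mem_zpowers.2 (show zN ^ i ∈ Subgroup.zpowers zN from Subgroup.zpow_mem_zpowers _ _)
        exact ⟨m, hm.symm⟩
      obtain ⟨m, hm⟩ := hpos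
      refine ⟨ω ^ m, ?_⟩
      rw [hm, Subgroup.coe_pow, Units.val_pow_eq_pow_val]
      show (z0 : M3) ^ m = _
      rw [ez0, smul_pow, one_pow]
    have hxb : xb ≠ 1 := fun e => by
      obtain ⟨c, hc⟩ := notscal (congrArg Subtype.val e)
      simp only [ex] at hc
      have h00 := congrFun (congrFun hc 0) 0
      have h11 := congrFun (congrFun hc 1) 1
      simp [Xm] at h00 h11
      exact om_ne_one hω h3 (h11.trans h00.symm)
    have hord : orderOf xb = Nat.card (P : Subgroup (N ⧸ Z)) := by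
      rcases (Nat.dvd_prime Nat.prime_three).1 hexp with e | e
      · exact absurd (Subsingleton.elim (α := (P : Subgroup (N ⧸ Z))) (h := (Nat.card_eq_one_iff_unique.1 e).1) xb 1) hxb
      · rw [e]
        rcases (Nat.dvd_prime Nat.prime_three).1 (e ▸ orderOf_dvd_natCard xb) with e' | e'
        · exact absurd (orderOf_eq_one_iff.1 e') hxb
        · exact e'
    have htop : Subgroup.zpowers xb = ⊤ := Subgroup.eq_top_of_card_eq _ (by rw [Nat.card_zpowers, hord])
    obtain ⟨m, hm⟩ := mem_powers_iff_mem_zpowers.2 (show yb ∈ Subgroup.zpowers xb from htop ▸ Subgroup.mem_top _)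
    have e2 : π ((⟨x, hxN⟩ : N) ^ m * (⟨y, hyN⟩ : N)⁻¹) = 1 := by
      rw [map_mul, map_pow, map_inv, mul_inv_eq_one]
      exact congrArg Subtype.val hm
    obtain ⟨c, hc⟩ := notscal e2
    have e3 : Xm ω ^ m = c • (Ym : M3) := by
      rw [← ex, ← ey, ← Units.val_pow_eq_pow_val]
      change ((x ^ m * y⁻¹ : GL3 K) : M3) = _ at hc
      rw [Units.val_mul] at hc
      calc ((x ^ m : GL3 K) : M3) = ((x ^ m : GL3 K) : M3) * ((y⁻¹ : GL3 K) : M3) * (y : M3) := by
            rw [Matrix.mul_assoc, ← Units.val_mul y⁻¹, inv_mul_cancel, Units.val_one, Matrix.mul_one]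
        _ = _ := by rw [hc, Matrix.smul_mul, Matrix.one_mul]
    have off : ∀ m : ℕ, (Xm ω ^ m) 0 1 = 0 ∧ (Xm ω ^ m) 0 0 = 1 := by
      intro m
      induction m with
      | zero => simp
      | succ m ih =>
        rw [pow_succ]
        simp [Xm, Matrix.mul_apply, Fin.sum_univ_three, vecMul, dotProduct] at ih ⊢
        simp [ih]
    have h00 := (off m).2
    rw [e3] at h00
    simp [Ym] at h00
  have hKbot : Kk = ⊥ := by
    have hcop : (Nat.card (P : Subgroup (N ⧸ Z))).Coprime (Nat.card Kk) := by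
      obtain ⟨e, he⟩ := IsPGroup.iff_card.1 P.2
      rw [he]
      exact Nat.Coprime.pow_left _ ((Nat.Prime.coprime_iff_not_dvd Nat.prime_three).2 hndvd)
    have hgen := CfsgLib.Coprime.iSup_centralizer_eq (A := (P : Subgroup (N ⧸ Z))) (K := Kk) hncyc
      (fun a _ => by rw [Subgroup.normalizer_eq_top]; exact Subgroup.mem_top a) hcop
    rw [eq_bot_iff, ← hgen]
    refine iSup₂_le fun a ⟨haP, hane⟩ => ?_
    rintro q ⟨hqK, hqc⟩
    have haR : a ∈ Rb := hPeq ▸ haP
    obtain ⟨r, hr, rfl⟩ := haR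
    have hns' : ¬ Chr ω ((r : GL3 K) : M3) 0 := fun hc => by
      obtain ⟨i, -, ei⟩ := h.scalar_of_chr hr hc
      exact hane (scal ei)
    obtain ⟨n, rfl⟩ := QuotientGroup.mk'_surjective Z q
    have he : π (n * r * (r * n)⁻¹) = 1 := by
      rw [map_mul, map_inv, map_mul, map_mul, mul_inv_eq_one]
      exact (Subgroup.mem_centralizer_singleton_iff.1 hqc)
    obtain ⟨m, hm⟩ := mem_powers_iff_mem_zpowers.2 ((QuotientGroup.eq_one_iff _).1 he)
    have hlift : InR ω ((n : GL3 K) : M3) := by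
      refine hthin.lift (r := (r : GL3 K)) (i := m) hr hns' n.2 ?_
      have e : n * r = zN ^ m * (r * n) := eq_mul_of_mul_inv_eq hm.symm
      have e' := congrArg (fun u : N => ((u : GL3 K) : M3)) e
      simp only [Subgroup.coe_mul, Subgroup.coe_pow, Units.val_mul, Units.val_pow_eq_pow_val] at e'
      rw [e', show ((zN : GL3 K) : M3) = ω • 1 from ez0, smul_pow, one_pow, Matrix.smul_mul, Matrix.one_mul]
    have hnP : π n ∈ (P : Subgroup (N ⧸ Z)) := hPeq ▸ ⟨n, hlift, rfl⟩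
    exact hcompl.disjoint.le_bot ⟨hqK, hnP⟩
  have hPtop : (P : Subgroup (N ⧸ Z)) = ⊤ := by
    have := hcompl.sup_eq_top
    rwa [hKbot, bot_sup_eq] at this
  intro n hn
  have : π ⟨n, hn⟩ ∈ Rb := hPeq ▸ hPtop ▸ Subgroup.mem_top _
  rw [← Subgroup.mem_comap, comapRb] at this
  exact this

/-- Without an involution inverting the fixed line the central involution is isolated, and `M` normalises. -/
theorem isolated_case (hns : ¬ ∃ s ∈ M, s * s = 1 ∧ (tB h.two).Fits (s : M3) ∧ (tB h.two).ln (s : M3) = -1) :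
    M ≤ Subgroup.normalizer (Rsub K ω h.om : Set (GL3 K)) := by
  classical
  haveI : Finite (GL3 K) := finite_gl
  have hω := h.om
  set R := Rsub K ω hω with hRdef
  obtain ⟨t, ht, et⟩ := h.mem_t
  obtain ⟨x, hx, ex⟩ := h.mX
  obtain ⟨y, hy, ey⟩ := h.mY
  obtain ⟨z0, hz0, ez0⟩ := h.mem_scalar
  set tt : M := ⟨t, ht⟩ with htt
  have hiso : Cfsg.IsIsolatedInvolution tt := h.isolated hns ht et
  -- the core
  obtain ⟨N₀, hcore, hN₀n, hN₀odd⟩ : ∃ N₀ : Subgroup M,
      (∀ g : M, tt * g * tt⁻¹ * g⁻¹ ∈ N₀) ∧ N₀.Normal ∧ Odd (Nat.card N₀) :=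
    ⟨_, CfsgLib.ZStar.commutatorsInCore_of_isolated hiso, Cfsg.pPrimeCore_normal 2 M,
      CfsgLib.ZStar.odd_card_core⟩
  set N := N₀.map M.subtype with hNdef
  have hNodd : Odd (Nat.card N) := by
    rw [Nat.card_congr (N₀.equivMapOfInjective _ M.subtype_injective).toEquiv.symm]
    exact hN₀odd
  have hNle : N ≤ M := Subgroup.map_subtype_le N₀
  have hconj : ∀ m ∈ M, ∀ n ∈ N, m * n * m⁻¹ ∈ N := by
    rintro m hm _ ⟨n, hn, rfl⟩
    refine Subgroup.mem_map.2 ⟨_, Subgroup.Normal.conj_mem hN₀n n hn ⟨m, hm⟩, ?_⟩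
    rw [map_mul, map_mul, map_inv]
    rfl
  have hcomm : ∀ g ∈ M, t * g * t⁻¹ * g⁻¹ ∈ N := fun g hg =>
    Subgroup.mem_map_of_mem M.subtype (hcore ⟨g, hg⟩)
  have hxN : x ∈ N := by
    have e : t * x = x ^ 2 * t := Units.ext (by
      rw [Units.val_mul, Units.val_mul, Units.val_pow_eq_pow_val, et, ex, tm_X hω])
    have := hcomm x hx
    rwa [e, mul_inv_cancel_right, pow_two, mul_inv_cancel_right] at this
  have hyN : y ∈ N := by
    have e : t * y = y ^ 2 * t := Units.ext (by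
      rw [Units.val_mul, Units.val_mul, Units.val_pow_eq_pow_val, et, ey, tm_Y])
    have := hcomm y hy
    rwa [e, mul_inv_cancel_right, pow_two, mul_inv_cancel_right] at this
  have hzN : z0 ∈ N := by
    have e : y * x = z0 * (x * y) := Units.ext (by
      rw [Units.val_mul, Units.val_mul, Units.val_mul, ex, ey, ez0, YX hω, Matrix.smul_mul, Matrix.one_mul])
    have := mul_mem (mul_mem hyN hxN) (inv_mem (mul_mem hxN hyN))
    rwa [e, mul_inv_cancel_right] at this
  have hRN : R ≤ N := by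
    intro g hg
    obtain ⟨i, j, k, e⟩ := mem_Rsub.1 hg
    have : g = z0 ^ i * (x ^ j * y ^ k) := Units.ext (by
      rw [Units.val_mul, Units.val_mul, Units.val_pow_eq_pow_val, Units.val_pow_eq_pow_val, Units.val_pow_eq_pow_val,
        ex, ey, ez0, e, smul_pow, one_pow, Matrix.smul_mul, Matrix.one_mul])
    rw [this]
    exact mul_mem (pow_mem hzN i) (mul_mem (pow_mem hxN j) (pow_mem hyN k))
  have hNR : N ≤ R := h.eq_Rsub_of_thin
    (h.thin_of_diag hNle hconj hRN fun n hn => h.diag_scalar hNle hconj hNodd hn) hNodd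
  have heq : N = R := le_antisymm hNR hRN
  intro m hm
  rw [Subgroup.mem_normalizer_iff]
  intro g
  rw [← heq]
  refine ⟨hconj m hm g, fun hg => ?_⟩
  have := hconj m⁻¹ (inv_mem hm) _ hg
  rwa [inv_inv, show m⁻¹ * (m * g * m⁻¹) * m = g by group] at this

end Setup

end CfsgLib.HessianMax
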