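import Cfsg.Agent.Lib.HessianMax.Semi
import Cfsg.Agent.Lib.HessianMax.Arith

/-!
The count with one class of involutions is impossible.
-/

set_option autoImplicit false
set_option linter.unusedSectionVars false

namespace CfsgLib.HessianMax

open Matrix

variable {K : Type*} [Field K] [Finite K] {p : ℕ} [hp : Fact p.Prime] [CharP K p]

local notation "M3" => Matrix (Fin 3) (Fin 3) K

namespace Setup

variable {ω : K} {M : Subgroup (GL3 K)} (h : Setup p ω M) {k : ℕ} {c j : GL3 K} (hC : CT ω M h.two k c j)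
  (cls : ∃ m : M, m * h.tM * m⁻¹ = (⟨c, hC.mc⟩ : M) * ⟨j, hC.mj⟩)
include h hC cls

theorem twelve_dvd : 12 * k ∣ Nat.card M := by
  haveI := h.finM hC cls
  rw [← (h.ax hC).card_C]
  exact Subgroup.card_subgroup_dvd_card _

theorem not_dvd_twelve : ¬ p ∣ 12 * k := by
  haveI := h.finM hC cls
  intro hd
  rw [← (h.ax hC).card_C] at hd
  obtain ⟨v, hv⟩ := exists_prime_orderOf_dvd_card' p hd
  have hv1 : (v : M) ≠ 1 := fun e => by
    have : v = 1 := Subtype.ext e
    rw [this, orderOf_one] at hv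
    exact hp.out.one_lt.ne hv
  refine h.unip_uncov hC cls (u := (v : M)) (by
      have hvp := pow_orderOf_eq_one v
      rw [hv] at hvp
      rw [← Subgroup.coe_pow, hvp, Subgroup.coe_one])
    hv1 ?_
  exact (h.ax hC).cov_of_comm cls (h.ax hC).tsq (h.ax hC).t_ne (Subgroup.mem_centralizer_singleton_iff.1 v.2)

/-- The normaliser of an element of order p, through an eigenbasis. -/
theorem normalizer_eig {u w : M} (hu : u ^ p = 1) (hu1 : u ≠ 1) {a : ℕ} (hw : w * u * w⁻¹ = u ^ a)
    (ha0 : (a : K) ≠ 0) (ha1 : (a : K) ≠ 1) (ha2 : (a : K) ^ 2 ≠ 1) :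
    ∃ (B : Eig ((w : GL3 K) : M3)) (α : K), B.d 0 = α ∧ B.d 1 = (a : K) * α ∧ B.d 2 = (a : K) ^ 2 * α ∧ α ≠ 0 ∧
      α ^ 3 * (a : K) ^ 3 = 1 := by
  obtain ⟨h3, h2⟩ := h.unip hC cls hu hu1
  set n := ((u : GL3 K) : M3) - 1
  set W := ((w : GL3 K) : M3)
  set av : K := (a : K)
  have h3' : n * (n * n) = 0 := by rw [← h3, pow_succ, pow_two, mul_assoc]
  obtain ⟨C, hC'⟩ : ∃ C : K, ((u : GL3 K) : M3) ^ a = 1 + av • n + C • (n * n) := by
    have key : ∀ b : ℕ, ∃ C : K, ((u : GL3 K) : M3) ^ b = 1 + (b : K) • n + C • (n * n) := by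
      intro b
      induction b with
      | zero => exact ⟨0, by simp⟩
      | succ b ih =>
        obtain ⟨C, e⟩ := ih
        refine ⟨C + b, ?_⟩
        have hu' : ((u : GL3 K) : M3) = 1 + n := by simp only [n]; abel
        rw [pow_succ, e, hu']
        simp only [Matrix.add_mul, Matrix.mul_add, Matrix.one_mul, Matrix.mul_one, Matrix.smul_mul, mul_assoc n n n,
          h3', smul_zero, Nat.cast_succ, add_smul, one_smul]
        abel
    exact key a
  have hWn : W * n = (av • n + C • (n * n)) * W := by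
    have e : w * u = u ^ a * w := mul_inv_eq_iff_eq_mul.1 hw
    have e' := congrArg (fun b : M => ((b : GL3 K) : M3)) e
    simp only [Subgroup.coe_mul, Units.val_mul, Subgroup.coe_pow, Units.val_pow_eq_pow_val] at e'
    rw [hC'] at e'
    simp only [n, W, Matrix.mul_sub, Matrix.mul_one, e']
    simp only [Matrix.add_mul, Matrix.one_mul]
    abel
  obtain ⟨x, hx, hind, -⟩ := exists_regnil (g := (1 : M3)) h3 h2 (by rw [Matrix.one_mul, Matrix.mul_one])
  have htop := hind.span_eq_top_of_card_eq_finrank (by simp)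
  obtain ⟨f, hf⟩ := Submodule.mem_span_range_iff_exists_fun K |>.1 (htop ▸ Submodule.mem_top : W *ᵥ x ∈ _)
  simp [Fin.sum_univ_three] at hf
  set v1 := n *ᵥ x
  set v2 := (n * n) *ᵥ x
  have n1 : n *ᵥ v1 = v2 := by simp only [v1, v2, mulVec_mulVec]
  have n2 : n *ᵥ v2 = 0 := by simp only [v2, mulVec_mulVec, h3', zero_mulVec]
  have Wv : ∀ v, W *ᵥ (n *ᵥ v) = av • (n *ᵥ (W *ᵥ v)) + C • (n *ᵥ (n *ᵥ (W *ᵥ v))) := fun v => by
    rw [mulVec_mulVec, hWn]
    simp only [add_mulVec, smul_mulVec, Matrix.add_mul, Matrix.smul_mul, ← mulVec_mulVec]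
  set α := f 0
  set β := f 1
  have W1 : W *ᵥ v1 = (av * α) • v1 + (av * β + C * α) • v2 := by
    show W *ᵥ (n *ᵥ x) = _
    rw [Wv, ← hf]
    simp only [mulVec_add, mulVec_smul, n1, n2, smul_zero, add_zero, smul_add, smul_smul, add_smul,
      show n *ᵥ x = v1 from rfl]
    abel
  have W2 : W *ᵥ v2 = (av ^ 2 * α) • v2 := by
    rw [← n1, Wv, W1]
    simp only [mulVec_add, mulVec_smul, n1, n2, smul_zero, add_zero, smul_smul]
    congr 1
    ring
  have hα : α ≠ 0 := fun e => by
    have hd : W.det ≠ 0 := by rw [h.det _ w.2]; exact one_ne_zero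
    have hv2 := Matrix.eq_zero_of_mulVec_eq_zero hd (v := v2) (by rw [W2, e, mul_zero, zero_smul])
    exact hx hv2
  -- eigenvectors
  have d12 : av * α - av ^ 2 * α ≠ 0 := fun e => ha1 (by
    have : av * α * (1 - av) = 0 := by linear_combination e
    exact (sub_eq_zero.1 ((mul_eq_zero.1 this).resolve_left (mul_ne_zero ha0 hα))).symm)
  have d02 : α - av ^ 2 * α ≠ 0 := fun e => ha2 (by
    have : α * (1 - av ^ 2) = 0 := by linear_combination e
    exact (sub_eq_zero.1 ((mul_eq_zero.1 this).resolve_left hα)).symm)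
  have d01 : α - av * α ≠ 0 := fun e => ha1 (by
    have : α * (1 - av) = 0 := by linear_combination e
    exact (sub_eq_zero.1 ((mul_eq_zero.1 this).resolve_left hα)).symm)
  set s1 := (av * β + C * α) / (av * α - av ^ 2 * α)
  set r0 := β / (α - av * α)
  set q0 := (f 2 + r0 * (av * β + C * α)) / (α - av ^ 2 * α)
  have hlin : ∀ a b c : K, a • x + b • v1 + c • v2 = 0 → a = 0 ∧ b = 0 ∧ c = 0 := fun a b c e => by
    have := Fintype.linearIndependent_iff.1 hind ![a, b, c] (by simpa [Fin.sum_univ_three] using e)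
    exact ⟨this 0, this 1, this 2⟩
  obtain ⟨B, hB⟩ := exists_eig_of_vec (g := W) (d := ![α, av * α, av ^ 2 * α])
    (v := ![x + r0 • v1 + q0 • v2, v1 + s1 • v2, v2])
    (by
      intro i l e
      fin_cases i <;> fin_cases l <;> simp only [Fin.zero_eta, Fin.mk_one, Fin.reduceFinMk, Matrix.cons_val] at e <;>
        first
          | rfl
          | exact (d01 (by linear_combination e)).elim
          | exact (d01 (by linear_combination -e)).elim
          | exact (d02 (by linear_combination e)).elim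
          | exact (d02 (by linear_combination -e)).elim
          | exact (d12 (by linear_combination e)).elim
          | exact (d12 (by linear_combination -e)).elim)
    (by
      intro i
      fin_cases i <;> intro e <;> simp at e
      · exact one_ne_zero (hlin 1 r0 q0 (by rw [one_smul]; exact e)).1
      · exact one_ne_zero (hlin 0 1 s1 (by rw [zero_smul, zero_add, one_smul]; exact e)).2.1
      · exact hx e)
    (by
      intro i
      fin_cases i <;> simp only [Fin.zero_eta, Fin.mk_one, Fin.reduceFinMk, Matrix.cons_val]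
      · rw [mulVec_add, mulVec_add, mulVec_smul, mulVec_smul, ← hf, W1, W2]
        simp only [smul_add, smul_smul]
        have e1 : r0 * (α - av * α) = β := div_mul_cancel₀ _ d01
        have e2 : q0 * (α - av ^ 2 * α) = f 2 + r0 * (av * β + C * α) := div_mul_cancel₀ _ d02
        have c1 : f 1 + r0 * (av * α) = α * r0 := by linear_combination -e1
        have c2 : f 2 + r0 * (av * β + C * α) + q0 * (av ^ 2 * α) = α * q0 := by linear_combination -e2
        rw [← c1, ← c2]
        module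
      · rw [mulVec_add, mulVec_smul, W1, W2]
        simp only [smul_add, smul_smul]
        have e1 : s1 * (av * α - av ^ 2 * α) = av * β + C * α := div_mul_cancel₀ _ d12
        have c1 : av * β + C * α + s1 * (av ^ 2 * α) = av * α * s1 := by linear_combination -e1
        rw [← c1]
        module
      · exact W2)
  refine ⟨B, α, by rw [hB]; rfl, by rw [hB]; rfl, by rw [hB]; rfl, hα, ?_⟩
  have hd := B.prod_d
  rw [h.det _ w.2, hB] at hd
  simp at hd
  linear_combination -hd

set_option maxHeartbeats 1000000 in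
/-- One class of involutions is impossible. -/
theorem false_of_one_class : False := by
  classical
  haveI := h.finM hC cls
  haveI : Finite (GL3 K) := finite_gl
  have AX := h.ax hC
  have h7 := h.p7
  have h4 := Nat.le_of_dvd AX.kpos AX.four
  have hMpos : 0 < Nat.card M := Nat.card_pos
  have hrest := AX.rest_card
  set Rs := Abs.Ax.Rest k h.zM (⟨c, hC.mc⟩ : M) ⟨j, hC.mj⟩ h.xM
  have h12 := h.twelve_dvd hC cls
  have hnd := h.not_dvd_twelve hC cls
  by_cases hpM : p ∣ Nat.card M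
  swap
  · -- no element of order p
    haveI : IsEmpty Rs := ⟨fun g => h.no_semi hC cls g.2 fun hd => hpM (hd.trans (orderOf_dvd_natCard g.1))⟩
    rw [Nat.card_of_isEmpty, mul_zero, zero_add] at hrest
    have := Nat.le_of_dvd hMpos h12
    nlinarith
  obtain ⟨u, hu⟩ := exists_prime_orderOf_dvd_card' p hpM
  have hu1 : u ≠ 1 := fun e => by rw [e, orderOf_one] at hu; exact hp.out.one_lt.ne hu
  have hup : u ^ p = 1 := by rw [← hu, pow_orderOf_eq_one]
  set U := Subgroup.zpowers u
  have hUcard : Nat.card U = p := by rw [Nat.card_zpowers, hu]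
  have hz : ∀ (i : ℕ) (y : M), Commute (h.zM ^ i) y := fun i y => (AX.zcomm y).pow_left i
  have notz : ∀ {v : M}, v ^ p = 1 → v ≠ 1 → ∀ i, v ≠ h.zM ^ i := fun hv hv1 i e =>
    h.unip_uncov hC cls hv hv1 (Or.inl ⟨i, e⟩)
  -- the centraliser
  set Cu := Subgroup.centralizer ({u} : Set M)
  have memCu : ∀ {g : M}, g ∈ Cu ↔ g * u = u * g := Subgroup.mem_centralizer_singleton_iff
  have repCu : ∀ {g : M}, g ∈ Cu → ∃ a b, g = h.zM ^ a * u ^ b := fun hg =>
    (h.comm_unip hC cls hup hu1 (memCu.1 hg)).2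
  have powp : ∀ b : ℕ, (u ^ b) ^ p = 1 := fun b => by rw [← pow_mul, mul_comm, pow_mul, hup, one_pow]
  have gen : ∀ {b : ℕ}, u ^ b ≠ 1 → ∃ f : ℕ, (u ^ b) ^ f = u := by
    intro b hb
    have hco : Nat.Coprime b p := ((Nat.Prime.coprime_iff_not_dvd hp.out).2 fun hd => hb (by
      rw [← orderOf_dvd_iff_pow_eq_one, hu]; exact hd)).symm
    obtain ⟨f, -, hf⟩ := Nat.exists_mul_mod_eq_of_coprime 1 hco hp.out.ne_zero
    refine ⟨f, ?_⟩
    rw [← pow_mul, pow_eq_pow_mod _ hup, hf]
    rw [Nat.mod_eq_of_lt hp.out.one_lt, pow_one]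
  have hCu : Nat.card Cu = 3 * p := by
    let f : Fin 3 × Fin p → Cu := fun q => ⟨h.zM ^ q.1.1 * u ^ q.2.1, memCu.2
      ((hz _ u).mul_left (Commute.pow_self u _)).eq⟩
    have hb : Function.Bijective f := by
      constructor
      · rintro ⟨a, b⟩ ⟨a', b'⟩ e
        have e' : h.zM ^ a.1 * u ^ b.1 = h.zM ^ a'.1 * u ^ b'.1 := congrArg Subtype.val e
        have e1 : u ^ (b.1 + (p - b'.1)) = h.zM ^ (3 - a.1 + a'.1) := by
          have h1 : h.zM ^ (3 - a.1) * h.zM ^ a.1 = 1 := by rw [← pow_add, Nat.sub_add_cancel a.2.le, AX.z3]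
          have h2 : u ^ b'.1 * u ^ (p - b'.1) = 1 := by rw [← pow_add, Nat.add_sub_cancel' b'.2.le, hup]
          calc u ^ (b.1 + (p - b'.1)) = h.zM ^ (3 - a.1) * (h.zM ^ a.1 * u ^ b.1) * u ^ (p - b'.1) := by
                rw [← mul_assoc, h1, one_mul, pow_add]
            _ = _ := by rw [e', pow_add, ← mul_assoc, mul_assoc, h2, mul_one]
        have e2 : u ^ (b.1 + (p - b'.1)) = 1 := by
          by_contra hne
          exact notz (powp _) hne _ e1
        have hd := orderOf_dvd_of_pow_eq_one e2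
        rw [hu] at hd
        obtain ⟨t', ht'⟩ := hd
        have hb : b.1 = b'.1 := by
          have := b.2; have := b'.2
          have : t' = 1 := by
            rcases t' with _ | _ | t''
            · omega
            · rfl
            · rw [Nat.mul_add, Nat.mul_add] at ht'
              omega
          rw [this, mul_one] at ht'
          omega
        rw [hb] at e'
        have := mul_right_cancel e'
        obtain ⟨ha, -⟩ := AX.rot_inj a.2 a'.2 (show 0 < 2 * k by omega) (show 0 < 2 * k by omega)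
          (show h.zM ^ a.1 * (⟨c, hC.mc⟩ : M) ^ 0 = h.zM ^ a'.1 * (⟨c, hC.mc⟩ : M) ^ 0 by rw [this])
        exact Prod.ext (Fin.ext ha) (Fin.ext hb)
      · rintro ⟨g, hg⟩
        obtain ⟨a, b, rfl⟩ := repCu hg
        refine ⟨(⟨a % 3, Nat.mod_lt _ (by norm_num)⟩, ⟨b % p, Nat.mod_lt _ hp.out.pos⟩), Subtype.ext ?_⟩
        show h.zM ^ (a % 3) * u ^ (b % p) = _
        rw [← pow_eq_pow_mod a AX.z3, ← pow_eq_pow_mod b hup]
    rw [← Nat.card_congr (Equiv.ofBijective f hb), Nat.card_prod, Nat.card_fin, Nat.card_fin]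
  set S : Set M := {g | g ∈ Cu ∧ ∀ i, g ≠ h.zM ^ i}
  set H := Subgroup.normalizer (U : Set M)
  have hcard : Nat.card S + 3 = 3 * p := by
    have hZc : Nat.card (Subgroup.zpowers h.zM) = 3 := by
      haveI : Fact (Nat.Prime 3) := ⟨Nat.prime_three⟩
      rw [Nat.card_zpowers]
      refine orderOf_eq_prime AX.z3 fun e => ?_
      obtain ⟨h3, -⟩ := AX.ord 1 0 (by rw [e, one_pow, pow_zero, one_mul])
      omega
    have e : S = ((Cu : Set M) \ (Subgroup.zpowers h.zM : Set M)) := by
      ext a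
      constructor
      · rintro ⟨ha, hne⟩
        refine ⟨ha, fun hz => ?_⟩
        obtain ⟨i, hi⟩ := mem_powers_iff_mem_zpowers.2 hz
        exact hne i hi.symm
      · rintro ⟨ha, hz⟩
        exact ⟨ha, fun i e => hz (e ▸ Subgroup.npow_mem_zpowers _ _)⟩
    have hle : Subgroup.zpowers h.zM ≤ Cu := Subgroup.zpowers_le.2 (memCu.2 (AX.zc u))
    have h0 : Nat.card (↥((Cu : Set M) \ (Subgroup.zpowers h.zM : Set M))) + Nat.card (Subgroup.zpowers h.zM) =
        Nat.card Cu := Set.ncard_sdiff_add_ncard_of_subset hle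
    rw [hZc, hCu, ← e] at h0
    exact h0
  have repS : ∀ {s : M}, s ∈ S → ∃ a b, s = h.zM ^ a * u ^ b ∧ u ^ b ≠ 1 := fun {s} hs => by
    obtain ⟨a, b, e⟩ := repCu hs.1
    exact ⟨a, b, e, fun e1 => hs.2 a (by rw [e, e1, mul_one])⟩
  have hinv : ∀ m ∈ H, ∀ s ∈ S, m * s * m⁻¹ ∈ S := by
    intro m hm s hs
    refine ⟨memCu.2 ?_, fun i e => hs.2 i (by
      calc s = m⁻¹ * (m * s * m⁻¹) * m := by group
        _ = _ := by rw [e, (hz i m⁻¹).symm.eq, inv_mul_cancel_right])⟩
    have hmu : m⁻¹ * u * m ∈ U := by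
      have := (Subgroup.mem_normalizer_iff.1 (inv_mem hm) u).1 (Subgroup.mem_zpowers u)
      rwa [inv_inv] at this
    obtain ⟨i, hi⟩ := Subgroup.mem_zpowers_iff.1 hmu
    have hc : s * (m⁻¹ * u * m) = m⁻¹ * u * m * s := by
      rw [← hi]
      exact ((show Commute s u from memCu.1 hs.1).zpow_right i).eq
    calc m * s * m⁻¹ * u = m * (s * (m⁻¹ * u * m)) * m⁻¹ := by group
      _ = m * (m⁻¹ * u * m * s) * m⁻¹ := by rw [hc]
      _ = _ := by group
  have hti : ∀ m, ∀ s ∈ S, m * s * m⁻¹ ∈ S → m ∈ H := by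
    intro m s hs hs'
    obtain ⟨a, b, rfl, hb⟩ := repS hs
    obtain ⟨a', b', e, hb'⟩ := repS hs'
    have e3 : m * u ^ (3 * b) * m⁻¹ = u ^ (3 * b') := by
      have := congrArg (· ^ 3) e
      simp only [conj_pow, (hz _ _).mul_pow, ← pow_mul] at this
      rwa [mul_comm a, mul_comm a', pow_mul h.zM 3, pow_mul h.zM 3, AX.z3, one_pow, one_pow, one_mul, one_mul,
        mul_comm b, mul_comm b'] at this
    have ne3 : ∀ {b : ℕ}, u ^ b ≠ 1 → u ^ (3 * b) ≠ 1 := fun {b} hb e => hb (by
      have hd := orderOf_dvd_of_pow_eq_one e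
      rw [hu] at hd
      rw [← orderOf_dvd_iff_pow_eq_one, hu]
      exact ((Nat.coprime_primes hp.out Nat.prime_three).2 (by omega)).dvd_of_dvd_mul_left hd)
    obtain ⟨f, hf⟩ := gen (ne3 hb)
    obtain ⟨f', hf'⟩ := gen (ne3 hb')
    have hmu : m * u * m⁻¹ = u ^ (3 * b' * f) := by
      conv_lhs => rw [← hf]
      rw [← conj_pow, e3, ← pow_mul]
    have hmu' : m⁻¹ * u * m = u ^ (3 * b * f') := by
      conv_lhs => rw [← hf']
      rw [← e3, conj_pow, ← pow_mul]; group
    rw [Subgroup.mem_normalizer_iff]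
    intro g
    constructor
    · intro hg
      obtain ⟨i, rfl⟩ := Subgroup.mem_zpowers_iff.1 hg
      rw [← conj_zpow, hmu]
      exact Subgroup.zpow_mem _ (Subgroup.npow_mem_zpowers _ _) _
    · intro hg
      obtain ⟨i, hi⟩ := Subgroup.mem_zpowers_iff.1 hg
      have : g = (m⁻¹ * u * m) ^ i := by
        rw [show (m⁻¹ * u * m) ^ i = (m⁻¹ * u * m⁻¹⁻¹) ^ i by rw [inv_inv], conj_zpow, hi]
        group
      rw [this, hmu']
      exact Subgroup.zpow_mem _ (Subgroup.npow_mem_zpowers _ _) _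
  have hcl := Abs.card_cl (S := S) (H := H) hinv hti
  -- the Sylow group
  have hUp : IsPGroup p U := IsPGroup.of_card (n := 1) (by rw [pow_one, hUcard])
  obtain ⟨P, hP⟩ := hUp.exists_le_sylow
  have hPU : (P : Subgroup M) ≤ U := by
    haveI : Nontrivial P := ⟨⟨u, hP (Subgroup.mem_zpowers u)⟩, 1, fun e => hu1 (congrArg Subtype.val e)⟩
    haveI := P.2.center_nontrivial
    obtain ⟨⟨y, hy⟩, hy1⟩ := exists_ne (1 : Subgroup.center P)
    obtain ⟨r, hr⟩ := P.2 y
    obtain ⟨r', -, hr'⟩ := (Nat.dvd_prime_pow hp.out).1 (orderOf_dvd_of_pow_eq_one hr)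
    have hr0 : r' ≠ 0 := fun e => hy1 (Subtype.ext (orderOf_eq_one_iff.1 (by rw [hr', e, pow_zero])))
    set v : M := ((y ^ p ^ (r' - 1) : P) : M)
    have hv1 : v ≠ 1 := fun e => by
      have : y ^ p ^ (r' - 1) = 1 := Subtype.ext e
      have := Nat.le_of_dvd (pow_pos hp.out.pos _) (orderOf_dvd_of_pow_eq_one this)
      rw [hr'] at this
      have := Nat.pow_lt_pow_right hp.out.one_lt (show r' - 1 < r' by omega)
      omega
    have hvp : v ^ p = 1 := by
      rw [← Subgroup.coe_pow, ← pow_mul, ← pow_succ, Nat.sub_add_cancel (Nat.pos_of_ne_zero hr0), ← hr',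
        pow_orderOf_eq_one, Subgroup.coe_one]
    have hcomm : ∀ g ∈ (P : Subgroup M), ∃ b, g = v ^ b := by
      intro g hg
      have hgy : (⟨g, hg⟩ : P) * y = y * ⟨g, hg⟩ := Subgroup.mem_center_iff.1 hy ⟨g, hg⟩
      have hgv : g * v = v * g := congrArg Subtype.val ((show Commute (⟨g, hg⟩ : P) y from hgy).pow_right _).eq
      obtain ⟨-, a, b, e⟩ := h.comm_unip hC cls hvp hv1 hgv
      refine ⟨b, ?_⟩
      have hzP : h.zM ^ a ∈ (P : Subgroup M) := by
        have hvP : v ∈ (P : Subgroup M) := (y ^ p ^ (r' - 1) : P).2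
        have := mul_mem hg (inv_mem (pow_mem hvP b))
        rwa [e, mul_inv_cancel_right] at this
      obtain ⟨i, hi⟩ := P.2 ⟨_, hzP⟩
      have hi' : (h.zM ^ a) ^ p ^ i = 1 := congrArg Subtype.val hi
      have h3' : (h.zM ^ a) ^ 3 = 1 := by rw [← pow_mul, mul_comm, pow_mul, AX.z3, one_pow]
      have := pow_gcd_eq_one.2 ⟨h3', hi'⟩
      rw [((Nat.coprime_primes Nat.prime_three hp.out).2 (by omega)).pow_right i, pow_one] at this
      rw [e, this, one_mul]
    obtain ⟨b, hb⟩ := hcomm u (hP (Subgroup.mem_zpowers u))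
    intro g hg
    obtain ⟨b', rfl⟩ := hcomm g hg
    have hbne : v ^ b ≠ 1 := hb ▸ hu1
    have hvb : ¬ p ∣ b := fun ⟨q, hq⟩ => hbne (by rw [hq, pow_mul, hvp, one_pow])
    obtain ⟨f, -, hf⟩ := Nat.exists_mul_mod_eq_of_coprime 1
      ((Nat.Prime.coprime_iff_not_dvd hp.out).2 hvb).symm hp.out.ne_zero
    have hv : v = u ^ f := by
      rw [hb, ← pow_mul, pow_eq_pow_mod _ hvp, hf, Nat.mod_eq_of_lt hp.out.one_lt, pow_one]
    rw [hv, ← pow_mul]
    exact Subgroup.npow_mem_zpowers _ _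
  have hPeq : (P : Subgroup M) = U := le_antisymm hPU hP
  have hRS : Rs = Abs.cl S := by
    ext g
    constructor
    · intro hg
      have hgd : p ∣ orderOf g := by
        by_contra hgd
        exact h.no_semi hC cls hg hgd
      set v := g ^ (orderOf g / p)
      have hv : orderOf v = p := by
        rw [orderOf_pow_of_dvd (Nat.div_pos (Nat.le_of_dvd (orderOf_pos g) hgd) hp.out.pos).ne'
          (Nat.div_dvd_of_dvd hgd), Nat.div_div_self hgd (orderOf_pos g).ne']
      have hv1 : v ≠ 1 := fun e => by rw [e, orderOf_one] at hv; exact hp.out.one_lt.ne hv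
      have hvp : v ^ p = 1 := by rw [← hv, pow_orderOf_eq_one]
      obtain ⟨-, a, b, e⟩ := h.comm_unip hC cls hvp hv1 (Commute.self_pow g _).eq
      obtain ⟨Q, hQ⟩ := (IsPGroup.of_card (n := 1) (by rw [pow_one, Nat.card_zpowers, hv]) :
        IsPGroup p (Subgroup.zpowers v)).exists_le_sylow
      obtain ⟨m, hm⟩ := MulAction.exists_smul_eq M Q P
      have hvU : m * v * m⁻¹ ∈ U := by
        rw [← hPeq, ← hm]
        exact ⟨v, hQ (Subgroup.mem_zpowers v), rfl⟩
      obtain ⟨i, hi⟩ := mem_powers_iff_mem_zpowers.2 hvU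
      replace hi : u ^ i = m * v * m⁻¹ := hi
      refine ⟨m⁻¹, h.zM ^ a * u ^ (i * b), ⟨memCu.2 ((hz a u).mul_left (Commute.pow_self u _)).eq, fun l el => ?_⟩, ?_⟩
      · have hs : g = h.zM ^ l := by
          rw [pow_mul, hi, conj_pow, ← mul_assoc, ← mul_assoc, (hz a m).eq, mul_assoc m, ← e] at el
          calc g = m⁻¹ * (m * g * m⁻¹) * m := by group
            _ = _ := by rw [el, (hz l m⁻¹).symm.eq, inv_mul_cancel_right]
        exact hg (Or.inl ⟨l, hs⟩)
      · rw [pow_mul, hi, conj_pow, inv_inv, ← mul_assoc (h.zM ^ a), ← mul_assoc (h.zM ^ a), (hz a m).eq, mul_assoc m,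
          ← e]
        group
    · rintro ⟨m, s, hs, rfl⟩
      show ¬ h.Covd hC _
      refine h.uncov_conj hC cls (fun hcov => ?_) m
      obtain ⟨i, e⟩ := h.scalar_of_comm hC cls (h.unip_uncov hC cls hup hu1) hcov (memCu.1 hs.1).symm
      exact hs.2 i e
  -- the order of the normaliser
  haveI hUc : IsCyclic U := isCyclic_of_prime_card hUcard
  haveI : Fact (Nat.card U).Prime := ⟨by rw [hUcard]; exact hp.out⟩
  haveI : IsCyclic (MulAut U) :=
    isCyclic_of_surjective (IsCyclic.mulAutMulEquiv U).symm.toMonoidHom (IsCyclic.mulAutMulEquiv U).symm.surjective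
  set χ := U.normalizerMonoidHom
  set e := Nat.card χ.range
  have hedvd : e ∣ p - 1 := by
    have h0 := Subgroup.card_subgroup_dvd_card χ.range
    rwa [IsCyclic.card_mulAut, hUcard, Nat.totient_prime hp.out] at h0
  have he0 : 0 < e := Nat.card_pos
  have hCH : Cu ≤ H := fun m hm => by
    have hc : Commute m u := memCu.1 hm
    rw [Subgroup.mem_normalizer_iff]
    intro g
    constructor
    · intro hg
      obtain ⟨i, rfl⟩ := Subgroup.mem_zpowers_iff.1 hg
      rw [(hc.zpow_right i).eq, mul_inv_cancel_right]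
      exact hg
    · intro hg
      obtain ⟨i, hi⟩ := Subgroup.mem_zpowers_iff.1 hg
      have : g = u ^ i := by
        calc g = m⁻¹ * (m * g * m⁻¹) * m := by group
          _ = _ := by rw [← hi, mul_assoc, ← (hc.zpow_right i).eq, inv_mul_cancel_left]
      rw [this]
      exact Subgroup.zpow_mem_zpowers _ _
  have hcU : Subgroup.centralizer (U : Set M) = Cu := by
    refine le_antisymm (fun m hm => memCu.2 (Subgroup.mem_centralizer_iff.1 hm u (Subgroup.mem_zpowers u)).symm)
      fun m hm => Subgroup.mem_centralizer_iff.2 fun g hg => ?_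
    obtain ⟨i, rfl⟩ := Subgroup.mem_zpowers_iff.1 hg
    exact ((show Commute m u from memCu.1 hm).zpow_right i).eq.symm
  have hker : Nat.card χ.ker = 3 * p := by
    rw [Subgroup.normalizerMonoidHom_ker, hcU, Nat.card_congr (Subgroup.subgroupOfEquivOfLe hCH).toEquiv, hCu]
  have hH : Nat.card H = 3 * p * e := by
    rw [Subgroup.card_eq_card_quotient_mul_card_subgroup χ.ker, hker,
      Nat.card_congr (QuotientGroup.quotientKerEquivRange χ).toEquiv]
    ring
  -- the equation
  have hE : (Nat.card M : ℤ) * ((p : ℤ) * e * (5 * k + 9) - 36 * k * ((p : ℤ) - 1)) = 108 * k * p * e := by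
    rw [← hRS] at hcl
    rw [hH] at hcl
    zify at hcl hcard hrest
    linear_combination (-((p : ℤ) * e)) * hrest + 12 * (k : ℤ) * hcl + 12 * (k : ℤ) * (Nat.card M : ℤ) * hcard
  have hMZ : (0 : ℤ) < Nat.card M := by exact_mod_cast hMpos
  rcases Nat.lt_or_ge e 5 with he5 | he5
  · exact count_small (p := p) (e := e) (k := k) (by exact_mod_cast h7) (by exact_mod_cast he0) (by omega)
      (by exact_mod_cast h4) hMZ hE
  -- e divides k
  have hek : e ∣ k := by
    obtain ⟨⟨g, hgR⟩, hgo⟩ : ∃ g : χ.range, orderOf g = e := IsCyclic.exists_ofOrder_eq_natCard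
    obtain ⟨⟨w, hwH⟩, rfl⟩ := hgR
    obtain ⟨a, hwa⟩ := mem_powers_iff_mem_zpowers.2 ((Subgroup.mem_normalizer_iff.1 hwH u).1 (Subgroup.mem_zpowers u))
    replace hwa : w * u * w⁻¹ = u ^ a := hwa.symm
    have hpow : ∀ m : ℕ, w ^ m * u * (w ^ m)⁻¹ = u ^ (a ^ m) := by
      intro m
      induction m with
      | zero => simp
      | succ m ih =>
        rw [pow_succ, show w ^ m * w * u * (w ^ m * w)⁻¹ = w ^ m * (w * u * w⁻¹) * (w ^ m)⁻¹ by group, hwa,
          ← conj_pow, ih, ← pow_mul, ← pow_succ]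
    have hed : ∀ m : ℕ, (a : K) ^ m = 1 → e ∣ m := by
      intro m hm
      have hmod : u ^ (a ^ m) = u := by
        have h1 : ((a ^ m : ℕ) : K) = ((1 : ℕ) : K) := by push_cast; exact hm
        conv_rhs => rw [← pow_one u]
        rw [pow_eq_pow_iff_modEq, hu]
        exact (CharP.natCast_eq_natCast K p).1 h1
      rw [← hgo]
      refine orderOf_dvd_of_pow_eq_one (Subtype.ext ?_)
      show (χ ⟨w, hwH⟩) ^ m = 1
      rw [← map_pow, ← MonoidHom.mem_ker, Subgroup.normalizerMonoidHom_ker, Subgroup.mem_subgroupOf, hcU]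
      have h1 := hpow m
      rw [hmod] at h1
      exact memCu.2 (mul_inv_eq_iff_eq_mul.1 h1)
    have small : ∀ m : ℕ, 0 < m → m < 5 → (a : K) ^ m ≠ 1 := fun m hm hm5 e' =>
      absurd (Nat.le_of_dvd hm (hed m e')) (by omega)
    have ha0 : (a : K) ≠ 0 := fun e0 => hu1 (by
      have hd : p ∣ a := (CharP.cast_eq_zero_iff K p a).1 e0
      obtain ⟨q, rfl⟩ := hd
      rw [pow_mul, hup, one_pow] at hwa
      calc u = w⁻¹ * (w * u * w⁻¹) * w := by group
        _ = 1 := by rw [hwa]; group)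
    have ha1 : (a : K) ≠ 1 := fun e1 => small 1 one_pos (by norm_num) (by rw [pow_one, e1])
    obtain ⟨B, α, d0, d1, d2, hα, hdet⟩ := h.normalizer_eig hC cls hup hu1 hwa ha0 ha1 (small 2 two_pos (by norm_num))
    have hsc : ∀ {m : ℕ} {d : K}, (((w ^ m : M) : GL3 K) : M3) = d • 1 → (a : K) ^ m = 1 := by
      intro m d e'
      rw [Subgroup.coe_pow, Units.val_pow_eq_pow_val] at e'
      have e1 := congrArg B.φ e'
      rw [B.φ_pow, B.φ_g, diagonal_pow, B.φ_scalar, smul_one_eq_diagonal] at e1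
      have e00 := congrFun (congrFun e1 0) 0
      have e11 := congrFun (congrFun e1 1) 1
      simp [d0, d1] at e00 e11
      rw [mul_pow, e00] at e11
      have hd0 : d ≠ 0 := fun hd => hα (pow_eq_zero_iff'.1 (e00.trans hd)).1
      exact mul_right_cancel₀ hd0 (by rw [e11, one_mul])
    have hscz : ∀ {m i : ℕ}, w ^ m = h.zM ^ i → (a : K) ^ m = 1 := fun {m i} e' =>
      hsc (d := ω ^ i) (by rw [e', h.zM_pow_val hC cls])
    have hcovw : h.Covd hC w := by
      by_contra hw'
      have hwd : p ∣ orderOf w := by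
        by_contra hwd
        exact h.no_semi hC cls hw' hwd
      set v := w ^ (orderOf w / p)
      have hv : orderOf v = p := by
        rw [orderOf_pow_of_dvd (Nat.div_pos (Nat.le_of_dvd (orderOf_pos w) hwd) hp.out.pos).ne'
          (Nat.div_dvd_of_dvd hwd), Nat.div_div_self hwd (orderOf_pos w).ne']
      have hv1 : v ≠ 1 := fun e' => by rw [e', orderOf_one] at hv; exact hp.out.one_lt.ne hv
      obtain ⟨⟨d, hd⟩, -⟩ := h.comm_unip hC cls (u := v) (by rw [← hv, pow_orderOf_eq_one]) hv1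
        (Commute.self_pow w _).eq
      have hap := hsc (m := p) (d := d) (by rw [Subgroup.coe_pow, Units.val_pow_eq_pow_val, hd])
      refine ha1 (sub_eq_zero.1 (pow_eq_zero_iff'.1 (show ((a : K) - 1) ^ p = 0 by
        rw [sub_pow_char, hap, one_pow, sub_self])).1)
    have conjz : ∀ {m : M} {s : M} {q i : ℕ}, w = m * s * m⁻¹ → s ^ q = h.zM ^ i → (a : K) ^ q = 1 :=
      fun {m s q i} e' es => hscz (i := i) (by rw [e', conj_pow, es, ← (hz i m).eq, mul_inv_cancel_right])
    rcases hcovw with ⟨i, e'⟩ | ⟨m, s, (rfl : s = h.xM), e'⟩ | ⟨m, s, ⟨i, -, rfl⟩, e'⟩ |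
      ⟨m, s, ⟨i, -, n, n0, n2, rfl⟩, e'⟩
    · exact absurd (hscz (m := 1) (by rw [pow_one, e'])) (small 1 one_pos (by norm_num))
    · exact absurd (conjz e' (q := 3) (i := 0) (by rw [AX.x3, pow_zero])) (small 3 (by norm_num) (by norm_num))
    · refine absurd (conjz e' (q := 4) (i := i * 4) ?_) (small 4 (by norm_num) (by norm_num))
      rw [(hz i _).mul_pow, ← pow_mul, show (4 : ℕ) = 2 * 2 from rfl, pow_mul (⟨j, hC.mj⟩ : M), pow_two
        (⟨j, hC.mj⟩ : M), AX.jj, pow_two h.tM, AX.tsq, mul_one]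
    · rcases Nat.even_or_odd' n with ⟨n', rfl | rfl⟩
      · refine hed k (conjz e' (q := k) (i := i * k) ?_)
        rw [(hz i _).mul_pow, ← pow_mul, ← pow_mul, show 2 * n' * k = 2 * k * n' by ring, pow_mul _ (2 * k), AX.c2k,
          one_pow, mul_one]
      · exfalso
        -- an odd rotation
        set kB := (tB h.two).k
        have hkB : ((((h.zM ^ i * (⟨c, hC.mc⟩ : M) ^ (2 * n' + 1) : M) : GL3 K) : M3)) *ᵥ kB = (-(ω ^ i)) • kB := by
          obtain ⟨hf, -, hl⟩ := Blk.pl_pow hC.fc (2 * n' + 1)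
          rw [h.rot_val hC, smul_mulVec, hf.mulVec_k, hl, hC.lc, smul_smul, (odd_two_mul_add_one n').neg_one_pow,
            mul_neg_one]
        set vv := ((m : GL3 K) : M3) *ᵥ kB
        have hkB0 : kB ≠ 0 := Blk.k_ne _
        have hvv : vv ≠ 0 := fun e0 => hkB0 (Matrix.eq_zero_of_mulVec_eq_zero
          (by rw [h.det _ m.2]; exact one_ne_zero) e0)
        have hwv : ((w : GL3 K) : M3) *ᵥ vv = (-(ω ^ i)) • vv := by
          have e1 : w * m = m * (h.zM ^ i * (⟨c, hC.mc⟩ : M) ^ (2 * n' + 1)) := by rw [e']; group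
          have e2 := congrArg (fun b : M => ((b : GL3 K) : M3) *ᵥ kB) e1
          simp only [Subgroup.coe_mul, Units.val_mul, ← mulVec_mulVec] at e2
          rw [e2]
          simp only [Subgroup.coe_mul, Units.val_mul, ← mulVec_mulVec] at hkB
          rw [hkB, mulVec_smul]
        obtain ⟨l, hl⟩ := B.eigval_mem hvv hwv
        have hc3 : (-(ω ^ i)) ^ 3 = -1 := by
          rw [neg_pow, ← pow_mul, mul_comm i, pow_mul, om3 h.om, one_pow]; ring
        have hα3 : α ^ 3 ≠ 0 := pow_ne_zero _ hα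
        have ha6 : (a : K) ^ 6 = 1 ∧ α ^ 6 = 1 := by
          fin_cases l <;> simp [d0, d1, d2] at hl <;> rw [hl] at hc3
          · constructor
            · linear_combination (-(α ^ 3 * (a : K) ^ 6) + (a : K) ^ 6) * hc3 + (α ^ 3 * (a : K) ^ 3 + 1) * hdet
            · linear_combination (α ^ 3 - 1) * hc3
          · exact absurd (show (2 : K) = 0 by linear_combination hdet.symm.trans (show α ^ 3 * (a : K) ^ 3 = -1 by
              linear_combination hc3) + (0 : K) * hdet) h.two
          · have e6 : (a : K) ^ 3 = -1 := by linear_combination hc3 - (a : K) ^ 3 * hdet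
            constructor
            · linear_combination ((a : K) ^ 3 - 1) * e6
            · linear_combination (α ^ 3 * (a : K) ^ 3 + 1) * hdet + (-(α ^ 6 * (a : K) ^ 3) + α ^ 6) * e6
        have hall : ∀ r, B.d r ^ 6 = 1 := by
          intro r
          fin_cases r
          · simp [d0, ha6.2]
          · simp [d1, mul_pow, ha6.1, ha6.2]
          · simp [d2, mul_pow, ← pow_mul, ha6.2]
            rw [show (12 : ℕ) = 6 * 2 from rfl, pow_mul, ha6.1, one_pow]
        obtain ⟨l', hl'⟩ := h.scalar_z hC cls (g := w ^ 6) (a := 1) (by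
          rw [Subgroup.coe_pow, Units.val_pow_eq_pow_val, B.pow_scalar hall])
        have hs6 : (h.zM ^ i * (⟨c, hC.mc⟩ : M) ^ (2 * n' + 1)) ^ 6 = h.zM ^ l' := by
          calc _ = m⁻¹ * (m * (h.zM ^ i * (⟨c, hC.mc⟩ : M) ^ (2 * n' + 1)) * m⁻¹) ^ 6 * m := by rw [conj_pow]; group
            _ = _ := by rw [← e', hl', (hz l' m⁻¹).symm.eq, inv_mul_cancel_right]
        rw [(hz i _).mul_pow, ← pow_mul, ← pow_mul] at hs6
        have e7 : h.zM ^ (i * 6 + 2 * l') * (⟨c, hC.mc⟩ : M) ^ ((2 * n' + 1) * 6) = 1 := by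
          rw [pow_add, ← (hz (2 * l') (h.zM ^ (i * 6))).eq, mul_assoc, hs6, ← pow_add,
            show 2 * l' + l' = 3 * l' by ring, pow_mul, AX.z3, one_pow]
        obtain ⟨-, r, hr⟩ := AX.ord _ _ e7
        obtain ⟨q, hq⟩ := AX.four
        have : 2 * k * r = 8 * (q * r) := by rw [hq]; ring
        omega
  obtain ⟨f, hkf⟩ := hek
  have hf0 : 0 < f := Nat.pos_of_ne_zero fun e' => by rw [e', mul_zero] at hkf; omega
  have hco : Nat.Coprime (12 * k) p := ((Nat.Prime.coprime_iff_not_dvd hp.out).2 hnd).symm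
  obtain ⟨m, hm⟩ := hco.mul_dvd_of_dvd_of_dvd h12 hpM
  have heq : (m : ℤ) * ((f : ℤ) * (5 * p * e - 36 * p + 36) + 9 * p) = 9 := by
    rw [hm, hkf] at hE
    push_cast at hE
    refine mul_left_cancel₀ (show (12 : ℤ) * (e * f) * p * e ≠ 0 from ?_) ?_
    · have : (0 : ℤ) < e ∧ (0 : ℤ) < f ∧ (0 : ℤ) < p :=
        ⟨by exact_mod_cast he0, by exact_mod_cast hf0, by exact_mod_cast hp.out.pos⟩
      obtain ⟨a1, a2, a3⟩ := this
      positivity
    · linear_combination hE
  obtain ⟨hp7, h5⟩ := count_big hp.out h7 he5 hedvd (hkf ▸ AX.four) hf0 heq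
  refine h.five hp7 ?_
  rw [← hkf] at h5
  exact h5.trans ((dvd_mul_left k 12).trans h12)

end Setup

end CfsgLib.HessianMax
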