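import Cfsg.Agent.Lib.HessianMax.Frame
import Cfsg.Agent.Lib.HessianMax.Uni

/-!
The normaliser of the Heisenberg group is maximal among subgroups without transvections.
-/

set_option autoImplicit false

namespace CfsgLib.HessianMax

variable {K : Type*} [Field K] [Finite K] {p : ℕ} [hp : Fact p.Prime] [CharP K p]

/-- A group as in the setting normalises the Heisenberg group. -/
theorem Setup.main {ω : K} {M : Subgroup (GL3 K)} (h : Setup p ω M) :
    M ≤ Subgroup.normalizer (Rsub K ω h.om : Set (GL3 K)) := by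
  by_cases hD : ∃ g ∈ M, ∃ c : K, (g : Matrix (Fin 3) (Fin 3) K) = c • Dm ω
  · exact Frame.le_normalizer h hD
  by_cases hs : ∃ s ∈ M, s * s = 1 ∧ (tB h.two).Fits (s : Matrix (Fin 3) (Fin 3) K) ∧
      (tB h.two).ln (s : Matrix (Fin 3) (Fin 3) K) = -1
  · obtain ⟨k, c, j, hC⟩ := h.exists_CT hD hs
    by_cases cls : ∃ m : M, m * h.tM * m⁻¹ = (⟨c, hC.mc⟩ : M) * ⟨j, hC.mj⟩
    · exact (h.false_of_one_class hC cls).elim
    · exact h.two_classes hC cls
  · exact h.isolated_case hs

end CfsgLib.HessianMax
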