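import Cfsg.Agent.Lib.HessianMax.Plane

/-!
No element of the group moves the three involutions of the plane group cyclically, unless homologies are present.
-/

set_option autoImplicit false
set_option linter.unusedSectionVars false

namespace CfsgLib.HessianMax

open Matrix TwoDim
open scoped MatrixGroups Pointwise

variable {K : Type*} [Field K] [Finite K] {p : ℕ} [hp : Fact p.Prime] [CharP K p]

local notation "M2" => Matrix (Fin 2) (Fin 2) K
local notation "M3" => Matrix (Fin 3) (Fin 3) K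

namespace Setup

variable {ω : K} {M : Subgroup (GL3 K)} (h : Setup p ω M)
  (hD : ¬ ∃ g ∈ M, ∃ c : K, (g : Matrix (Fin 3) (Fin 3) K) = c • Dm ω)
include h hD

/-- No element of `M` is a multiple of a diagonal matrix of order three on the plane. -/
theorem no_diag {y : GL3 K} (hy : y ∈ M) (hf : (tB h.two).Fits (y : M3)) (l : K) :
    (tB h.two).pl (y : M3) ≠ l • !![ω, 0; 0, 1] := by
  intro hpl
  have h2 := h.two
  have h3 := h.three
  have hω := h.om
  have h7 := h.p7
  have hω0 := om_ne_zero hω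
  have hω3 := om3 hω
  set b := tB h2
  obtain ⟨hf3, hpl3, hln3⟩ := Blk.pl_pow hf 3
  have hcube : b.pl (((y ^ 3 : GL3 K)) : M3) = l ^ 3 • 1 := by
    rw [Units.val_pow_eq_pow_val, hpl3, hpl, smul_pow]
    congr 1
    ext i j
    fin_cases i <;> fin_cases j <;> simp [pow_succ, pow_zero, Matrix.mul_apply, Fin.sum_univ_two]
    linear_combination hω3
  obtain ⟨i, -, hi⟩ := h.plane_kernel (pow_mem hy 3) (by rw [Units.val_pow_eq_pow_val]; exact hf3) hcube
  obtain ⟨y₁, hy₁, hf₁, l₁, hl₁, hp1, hl3, ha3⟩ : ∃ y₁ ∈ M, b.Fits (y₁ : M3) ∧ ∃ l₁ : K, l₁ ≠ 0 ∧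
      b.pl (y₁ : M3) = l₁ • !![ω, 0; 0, 1] ∧ l₁ ^ 3 = ω ^ i ∧ b.ln (y₁ : M3) ^ 3 = ω ^ i := by
    have key : ∀ {z : GL3 K} {m : K}, b.Fits (z : M3) → b.pl (z : M3) = m • !![ω, 0; 0, 1] → z ∈ M → m ≠ 0 := by
      rintro z m hz e hzM rfl
      have := h.det z hzM
      rw [hz.det_eq, e, zero_smul, det_zero, mul_zero] at this
      exact zero_ne_one this
    rcases hi with e | e
    · refine ⟨y, hy, hf, l, key hf hpl hy, hpl, ?_, ?_⟩
      · rw [Units.val_pow_eq_pow_val] at e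
        have := congrArg b.pl e
        rw [hpl3, b.pl_smul, Blk.pl_one] at this
        rw [Units.val_pow_eq_pow_val, hpl3] at hcube
        rw [hcube] at this
        simpa using congrFun (congrFun this 0) 0
      · rw [Units.val_pow_eq_pow_val] at e
        rw [← hln3, e, b.ln_smul, Blk.ln_one, mul_one]
    · obtain ⟨t, ht, et⟩ := h.mem_t
      have hft : b.Fits (t : M3) := et ▸ tB_fits_t h2
      have hpt : b.pl ((y * t : GL3 K) : M3) = (-l) • !![ω, 0; 0, 1] := by
        rw [Units.val_mul, Blk.pl_mul hft, et, tB_pl_t, hpl, mul_neg, mul_one, neg_smul]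
      have hfy : b.Fits ((y * t : GL3 K) : M3) := by rw [Units.val_mul]; exact hf.mul hft
      refine ⟨y * t, mul_mem hy ht, hfy, -l, key hfy hpt (mul_mem hy ht), hpt, ?_, ?_⟩
      · rw [Units.val_pow_eq_pow_val] at e
        have := congrArg b.pl e
        rw [b.pl_smul, tB_pl_t, ← Units.val_pow_eq_pow_val, hcube] at this
        have := congrFun (congrFun this 0) 0
        simp at this
        linear_combination -this
      · rw [Units.val_pow_eq_pow_val] at e
        rw [Units.val_mul, Blk.ln_mul hft, et, tB_ln_t, mul_one, ← hln3, e, b.ln_smul, tB_ln_t, mul_one]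
  obtain ⟨m, hmlt, hν⟩ := h.cube_root (x := b.ln (y₁ : M3) / l₁) (by
    rw [div_pow, ha3, ← hl3, div_self (pow_ne_zero 3 hl₁)])
  have hln : b.ln (y₁ : M3) = l₁ * ω ^ m := by rw [← hν]; field_simp
  -- the extended group
  obtain ⟨x, hx, ex⟩ := h.mX
  obtain ⟨w, hw, ew⟩ := h.mY
  obtain ⟨g, hg, eg⟩ := h.mg
  obtain ⟨g', hg', eg'⟩ := h.mh
  have hd : IsUnit (Dm ω : M3).det := by simp [Dm, det_fin_three, hω0]
  obtain ⟨d, ed⟩ := (Matrix.isUnit_iff_isUnit_det _).2 hd
  set J := Subgroup.closure ({x, w, g, g', y₁} : Set (GL3 K))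
  have hJM : J ≤ M := by
    rw [Subgroup.closure_le]
    rintro z (rfl | rfl | rfl | rfl | rfl) <;> assumption
  have hdJ : ∀ z ∈ J, d * z * d⁻¹ ∈ J := by
    intro z hz
    have hx' : x ∈ J := Subgroup.subset_closure (Or.inl rfl)
    have hw' : w ∈ J := Subgroup.subset_closure (Or.inr (Or.inl rfl))
    have hg1 : g ∈ J := Subgroup.subset_closure (Or.inr (Or.inr (Or.inl rfl)))
    have hg2 : g' ∈ J := Subgroup.subset_closure (Or.inr (Or.inr (Or.inr (Or.inl rfl))))
    have hy' : y₁ ∈ J := Subgroup.subset_closure (Or.inr (Or.inr (Or.inr (Or.inr rfl))))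
    have cj : ∀ {a c : GL3 K} {A : M3}, (d : M3) * (a : M3) = A * (d : M3) → (c : M3) = A → c ∈ J → d * a * d⁻¹ ∈ J := by
      intro a c A e ec hc
      have e' : d * a = c * d := Units.ext (by rw [Units.val_mul, Units.val_mul, e, ec])
      rwa [e', mul_inv_cancel_right]
    induction hz using Subgroup.closure_induction with
    | mem a ha =>
      rcases ha with rfl | rfl | rfl | rfl | rfl
      · exact cj (A := Xm ω) (by rw [ed, ex]; exact Dm_X hω) ex hx'
      · refine cj (c := a * x * (x * a)⁻¹ * (x ^ 2 * a)) (A := ω • (Xm ω ^ 2 * (Ym : M3))) ?_ ?_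
          (mul_mem (mul_mem (mul_mem hw' hx') (inv_mem (mul_mem hx' hw'))) (mul_mem (pow_mem hx' 2) hw'))
        · rw [ed, ew]; exact Dm_Y hω
        · rw [Units.val_mul, show ((a * x * (x * a)⁻¹ : GL3 K) : M3) = ω • 1 from ?_, Units.val_mul,
            Units.val_pow_eq_pow_val, ex, ew, Matrix.smul_mul, Matrix.one_mul]
          rw [Units.val_mul, Units.val_mul, ew, ex, YX hω, ← ex, ← ew, ← Units.val_mul, Matrix.smul_mul,
            ← Units.val_mul, mul_inv_cancel, Units.val_one]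
      · exact cj (A := hgm ω) (by rw [ed, eg]; exact Dm_g hω) eg' hg2
      · refine cj (c := g * a * (g * g)) (A := gm ω * hgm ω * tm) (by rw [ed, eg']; exact Dm_h hω h3) ?_
          (mul_mem (mul_mem hg1 hg2) (mul_mem hg1 hg1))
        rw [Units.val_mul, Units.val_mul, Units.val_mul, eg, eg', gm_sq hω h3]
      · refine cj (c := a) (A := (a : M3)) ?_ rfl hy'
        have hfd : b.Fits (d : M3) := ed ▸ tB_fits_D h2
        refine (hfd.mul hf₁).ext (hf₁.mul hfd) ?_ ?_
        · rw [Blk.pl_mul hf₁, Blk.pl_mul hfd, hp1, ed, tB_pl_D, Matrix.smul_mul, Matrix.mul_smul]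
        · rw [Blk.ln_mul hf₁, Blk.ln_mul hfd, mul_comm]
    | one => simp
    | mul a c _ _ ha hc =>
      have : d * (a * c) * d⁻¹ = (d * a * d⁻¹) * (d * c * d⁻¹) := by group
      rw [this]
      exact mul_mem ha hc
    | inv a _ ha =>
      have : d * a⁻¹ * d⁻¹ = (d * a * d⁻¹)⁻¹ := by group
      rw [this]
      exact inv_mem ha
  have hd3 : d ^ 3 = 1 := Units.ext (by
    rw [Units.val_pow_eq_pow_val, ed, Units.val_one]
    ext i j
    fin_cases i <;> fin_cases j <;> simp [Dm, pow_succ, pow_zero, Matrix.mul_apply, Fin.sum_univ_three]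
    linear_combination hω3)
  let S₀ : Subgroup (GL3 K) := J ⊔ Subgroup.zpowers d
  have hnorm : Subgroup.zpowers d ≤ Subgroup.normalizer (J : Set (GL3 K)) := by
    rw [Subgroup.zpowers_le, Subgroup.mem_normalizer_iff]
    refine fun z => ⟨hdJ z, fun hz => ?_⟩
    have h1 := hdJ _ (hdJ _ hz)
    have e : d * (d * (d * z * d⁻¹) * d⁻¹) * d⁻¹ = d ^ 3 * z * (d ^ 3)⁻¹ := by
      simp [pow_succ, mul_assoc]
    rwa [e, hd3, one_mul, inv_one, mul_one] at h1
  have hS₀ : NoTv S₀ := by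
    refine (h.notv.mono hJM).of_pow (p := p) (n := 3) (fun e => by have := Nat.le_of_dvd (by norm_num) e; omega) ?_
    intro s hs
    have hs' : s ∈ (J : Set (GL3 K)) * (Subgroup.zpowers d : Set (GL3 K)) := by
      rw [← Subgroup.coe_mul_of_right_le_normalizer_left J _ hnorm]
      exact hs
    obtain ⟨a, ha, e', he, rfl⟩ := Set.mem_mul.1 hs'
    have hcj := fun z hz => (Subgroup.mem_normalizer_iff.1 (hnorm he) z).1 hz
    have he3 : e' ^ 3 = 1 := by
      obtain ⟨u, rfl⟩ := Subgroup.mem_zpowers_iff.1 he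
      rw [← zpow_natCast, zpow_comm, zpow_natCast, hd3, _root_.one_zpow]
    rw [show (a * e') ^ 3 = a * (e' * a * e'⁻¹) * (e' * (e' * a * e'⁻¹) * e'⁻¹) * e' ^ 3 by simp [pow_succ, mul_assoc], he3, mul_one]
    exact mul_mem (mul_mem ha (hcj a ha)) (hcj _ (hcj a ha))
  have hyS : y₁ ∈ withScalars S₀ :=
    le_withScalars _ (Subgroup.mem_sup_left (Subgroup.subset_closure (Or.inr (Or.inr (Or.inr (Or.inr rfl))))))
  have hdS : d ∈ withScalars S₀ := le_withScalars _ (Subgroup.mem_sup_right (Subgroup.mem_zpowers d))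
  have hwS : w ∈ withScalars S₀ :=
    le_withScalars _ (Subgroup.mem_sup_left (Subgroup.subset_closure (Or.inr (Or.inl rfl))))
  -- the homology with centre (0,1,1)
  set r₀ : M3 := hm ω ![0, 1, 1] ![0, 2⁻¹, 2⁻¹] with hr₀
  have fr₀ : b.Fits r₀ := (tB_fits_iff h2 _).2 (by
    ext i j
    fin_cases i <;> fin_cases j <;>
      simp [hr₀, hm, tm, Matrix.mul_apply, Fin.sum_univ_three, vecMulVec_apply] <;> ring)
  have plr₀ : b.pl r₀ = !![1, 0; 0, ω] := by
    rw [tB_pl_apply]
    ext i j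
    fin_cases i <;> fin_cases j <;> simp [hr₀, hm, vecMulVec_apply] <;> field_simp <;> ring
  have lnr₀ : b.ln r₀ = 1 := by
    rw [tB_ln_apply]
    simp [hr₀, hm, vecMulVec_apply]
    field_simp
    ring
  have hU : ∃ r ∈ withScalars S₀, (r : M3) = r₀ := by
    have fd : b.Fits (d : M3) := ed ▸ tB_fits_D h2
    have mk : ∀ (z : GL3 K) (c : K), c ≠ 0 → z ∈ withScalars S₀ → (z : M3) = c • r₀ →
        ∃ r ∈ withScalars S₀, (r : M3) = r₀ := by
      intro z c hc hz e
      obtain ⟨c', hc', s, hs, es⟩ := hz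
      have hdet : IsUnit r₀.det := by
        rw [fr₀.det_eq, plr₀, lnr₀, det_fin_two_of]
        simp [hω0]
      obtain ⟨r, er⟩ := (Matrix.isUnit_iff_isUnit_det _).2 hdet
      refine ⟨r, ⟨c⁻¹ * c', mul_ne_zero (inv_ne_zero hc) hc', s, hs, ?_⟩, er⟩
      rw [er, ← smul_smul, ← es, e, smul_smul, inv_mul_cancel₀ hc, one_smul]
    interval_cases m
    · -- a multiple of D
      refine (hD ⟨y₁, hy₁, l₁, hf₁.ext ?_ ?_ ?_⟩).elim
      · rw [Blk.Fits, Matrix.smul_mul, Matrix.mul_smul, show Dm ω * b.prj = b.prj * Dm ω from tB_fits_D h2]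
      · rw [hp1, b.pl_smul, tB_pl_D]
      · rw [hln, b.ln_smul, tB_ln_D, pow_zero]
    · -- inverse
      refine mk y₁⁻¹ (l₁ * ω)⁻¹ (inv_ne_zero (mul_ne_zero hl₁ hω0)) (inv_mem hyS) ?_
      have e1 : ((l₁ * ω)⁻¹ • r₀) * (y₁ : M3) = 1 := by
        have hfp : b.Fits ((l₁ * ω)⁻¹ • r₀) := by
          rw [Blk.Fits, Matrix.smul_mul, Matrix.mul_smul, show r₀ * b.prj = b.prj * r₀ from fr₀]
        refine (hfp.mul hf₁).ext Blk.fits_one ?_ ?_
        · rw [Blk.pl_mul hf₁, b.pl_smul, plr₀, hp1, Blk.pl_one, Matrix.smul_mul, Matrix.mul_smul, smul_smul]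
          ext i j
          fin_cases i <;> fin_cases j <;> simp [Matrix.mul_apply, Fin.sum_univ_two] <;> field_simp
        · rw [Blk.ln_mul hf₁, b.ln_smul, lnr₀, hln, Blk.ln_one, pow_one]
          field_simp
      calc ((y₁⁻¹ : GL3 K) : M3) = ((l₁ * ω)⁻¹ • r₀) * (y₁ : M3) * ((y₁⁻¹ : GL3 K) : M3) := by rw [e1, Matrix.one_mul]
        _ = _ := by rw [Matrix.mul_assoc, ← Units.val_mul, mul_inv_cancel, Units.val_one, Matrix.mul_one]
    · -- product with D
      refine mk (d * y₁) (l₁ * ω ^ 2) (mul_ne_zero hl₁ (pow_ne_zero _ hω0)) (mul_mem hdS hyS) ?_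
      have hfp : b.Fits ((l₁ * ω ^ 2) • r₀) := by
        rw [Blk.Fits, Matrix.smul_mul, Matrix.mul_smul, show r₀ * b.prj = b.prj * r₀ from fr₀]
      rw [Units.val_mul]
      refine (fd.mul hf₁).ext hfp ?_ ?_
      · rw [Blk.pl_mul hf₁, b.pl_smul, plr₀, hp1, ed, tB_pl_D, Matrix.mul_smul]
        ext i j
        fin_cases i <;> fin_cases j <;> simp [Matrix.mul_apply, Fin.sum_univ_two] <;> grind
      · rw [Blk.ln_mul hf₁, b.ln_smul, lnr₀, hln, ed, tB_ln_D, one_mul, mul_one]
  obtain ⟨r, hr, er⟩ := hU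
  have es : ((w * d * w⁻¹ : GL3 K) : M3) = hm ω (Pi.single 2 1) (Pi.single 2 1) := by
    have e : (w : M3) * (d : M3) = hm ω (Pi.single 2 1) (Pi.single 2 1) * (w : M3) := by
      rw [ew, ed]
      ext i j
      fin_cases i <;> fin_cases j <;>
        simp [hm, Dm, Ym, Matrix.mul_apply, Fin.sum_univ_three, vecMulVec_apply]
    rw [Units.val_mul, Units.val_mul, e, Matrix.mul_assoc, ← Units.val_mul, mul_inv_cancel, Units.val_one,
      Matrix.mul_one]
  have hν2 : ω ^ 2 ≠ 1 := fun e => om_ne_one hω h3 (by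
    calc ω = ω ^ 3 := by rw [pow_succ, e, one_mul]
      _ = 1 := hω3)
  have d1 : (![0, 2⁻¹, 2⁻¹] : Fin 3 → K) ⬝ᵥ ![0, 1, 1] = 1 := by
    simp [dotProduct, Fin.sum_univ_three]; field_simp; ring
  have d2 : (Pi.single 2 1 : Fin 3 → K) ⬝ᵥ Pi.single 2 1 = 1 := by simp
  rcases pair p h7 (noTv_withScalars p hS₀) (μ := ω ^ 2) (by linear_combination ω * hω3) hω0 hν2 d1 d2 hr
    (mul_mem (mul_mem hwS hdS) (inv_mem hwS)) er es with e | e | e
  · have := congrFun (congrFun e 1) 1
    simp [vecMulVec_apply] at this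
    exact h2 this
  · obtain ⟨e1, -⟩ := e
    simp at e1
    exact h2 e1
  · have hc : ((![0, 2⁻¹, 2⁻¹] : Fin 3 → K) ⬝ᵥ Pi.single 2 1) * ((Pi.single 2 1 : Fin 3 → K) ⬝ᵥ ![0, 1, 1]) = 2⁻¹ := by
      simp
    rw [hc] at e
    have k : ∀ n : ℕ, 0 < n → n < 7 → (n : K) ≠ 0 := fun n a c => small_ne n a (by omega)
    rcases pair_three p h7 hω e with f | f | f <;> field_simp at f
    · exact k 1 (by omega) (by omega) (by push_cast; linear_combination f)
    · exact k 1 (by omega) (by omega) (by push_cast; linear_combination -f)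
    · exact k 5 (by omega) (by omega) (by push_cast; linear_combination -f)

end Setup

end CfsgLib.HessianMax
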