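import Cfsg.Agent.Lib.HessianMax.Core

/-!
The plane of the central involution: kernel of the action and the absence of an element of order three.
-/

set_option autoImplicit false
set_option linter.unusedSectionVars false

namespace CfsgLib.HessianMax

open Matrix TwoDim
open scoped MatrixGroups

variable {K : Type*} [Field K] [Finite K] {p : ℕ} [hp : Fact p.Prime] [CharP K p]

local notation "M2" => Matrix (Fin 2) (Fin 2) K
local notation "M3" => Matrix (Fin 3) (Fin 3) K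

theorem isRoot_of_eigvec {g : M3} {x : K} {v : Fin 3 → K} (hv : v ≠ 0) (h : g *ᵥ v = x • v) :
    g.charpoly.IsRoot x := by
  rw [Polynomial.IsRoot, Matrix.eval_charpoly, ← Matrix.exists_mulVec_eq_zero_iff]
  refine ⟨v, hv, ?_⟩
  rw [sub_mulVec, scalar_apply, h]
  ext i
  simp [mulVec_diagonal]

theorem Blk.k_ne (b : Blk K) : b.k ≠ 0 := fun e => by have := b.χk; rw [e, dotProduct_zero] at this; exact zero_ne_one this

theorem Blk.Fits.isRoot_ln {b : Blk K} {g : M3} (h : b.Fits g) : g.charpoly.IsRoot (b.ln g) :=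
  isRoot_of_eigvec b.k_ne h.mulVec_k

theorem Blk.pl_scalar_mulVec {b : Blk K} {g : M3} (h : b.Fits g) {β : K} (hg : b.pl g = β • 1) (v : Fin 2 → K) :
    g *ᵥ (b.E *ᵥ v) = β • (b.E *ᵥ v) := by
  have e : g * b.E = β • b.E := by
    calc g * b.E = g * b.prj * b.E := by
          rw [Blk.prj, Matrix.mul_assoc, Matrix.mul_assoc b.E, b.DE, Matrix.mul_one]
      _ = b.E * b.pl g := by rw [h, Blk.prj, Blk.pl]; simp only [Matrix.mul_assoc]
      _ = _ := by rw [hg, Matrix.mul_smul, Matrix.mul_one]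
  rw [mulVec_mulVec, e, smul_mulVec]

/-- The block of the involution `tm`. -/
def tB (h2 : (2 : K) ≠ 0) : Blk K where
  E := !![1, 0; 0, 1; 0, 1]
  D := !![1, 0, 0; 0, 2⁻¹, 2⁻¹]
  k := ![0, 1, -1]
  χ := ![0, 2⁻¹, -2⁻¹]
  DE := by
    ext i j
    fin_cases i <;> fin_cases j <;> simp [Matrix.mul_apply, Fin.sum_univ_three] <;> field_simp <;> ring
  sum := by
    ext i j
    fin_cases i <;> fin_cases j <;>
      simp [Matrix.mul_apply, Fin.sum_univ_two, vecMulVec_apply] <;> field_simp <;> ring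
  χk := by
    simp [dotProduct, Fin.sum_univ_three]
    field_simp
    ring

section vals

variable (h2 : (2 : K) ≠ 0)

local notation "B" => tB h2

theorem tB_prj : (2 : K) • (B).prj = 1 - (tm : M3) := by
  ext i j
  fin_cases i <;> fin_cases j <;>
    simp [tB, Blk.prj, tm, Matrix.mul_apply, Fin.sum_univ_two, h2] <;> ring

theorem tB_fits_iff (g : M3) : (B).Fits g ↔ g * tm = (tm : M3) * g := by
  have e : (tm : M3) = 1 - (2 : K) • (B).prj := by rw [tB_prj, sub_sub_cancel]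
  rw [Blk.Fits, e, Matrix.mul_sub, Matrix.sub_mul, Matrix.mul_one, Matrix.one_mul, Matrix.mul_smul,
    Matrix.smul_mul, sub_right_inj]
  exact ⟨fun h => by rw [h], fun h => smul_right_injective _ h2 h⟩

theorem tB_pl_apply (g : M3) : (B).pl g = !![g 0 0, g 0 1 + g 0 2;
    2⁻¹ * (g 1 0 + g 2 0), 2⁻¹ * (g 1 1 + g 1 2 + g 2 1 + g 2 2)] := by
  ext i j
  fin_cases i <;> fin_cases j <;> simp [tB, Blk.pl, Matrix.mul_apply, vecMul, dotProduct, Fin.sum_univ_three] <;> ring

theorem tB_ln_apply (g : M3) : (B).ln g = 2⁻¹ * (g 1 1 - g 1 2 - g 2 1 + g 2 2) := by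
  simp [tB, Blk.ln, dotProduct, mulVec, Fin.sum_univ_three]
  ring

theorem tB_fits_t : (B).Fits (tm : M3) := (tB_fits_iff h2 _).2 rfl

theorem tB_pl_t : (B).pl (tm : M3) = -1 := by
  rw [tB_pl_apply]
  ext i j
  fin_cases i <;> fin_cases j <;> simp [tm] <;> field_simp <;> ring

theorem tB_ln_t : (B).ln (tm : M3) = 1 := by
  rw [tB_ln_apply]
  simp [tm]
  field_simp
  ring

variable {ω : K} (hω : ω ^ 2 + ω + 1 = 0) (h3 : (3 : K) ≠ 0)
include hω h3

theorem tB_fits_g : (B).Fits (gm ω) := (tB_fits_iff h2 _).2 (by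
  rw [← gm_sq hω h3, Matrix.mul_assoc])

theorem tB_pl_g : (B).pl (gm ω) = (ω - ω ^ 2)⁻¹ • !![1, 2; 1, -1] := by
  have hd := delta_ne hω h3
  rw [tB_pl_apply]
  ext i j
  fin_cases i <;> fin_cases j <;> simp [gm] <;> field_simp <;> grind

theorem tB_ln_g : (B).ln (gm ω) = 1 := by
  have hd := delta_ne hω h3
  rw [tB_ln_apply]
  simp [gm]
  field_simp
  grind

theorem tB_fits_h : (B).Fits (hgm ω) := (tB_fits_iff h2 _).2 (by
  rw [← hgm_sq hω h3, Matrix.mul_assoc])

theorem tB_pl_h : (B).pl (hgm ω) = (ω - ω ^ 2)⁻¹ • !![1, 2 * ω; ω ^ 2, -1] := by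
  have hd := delta_ne hω h3
  rw [tB_pl_apply]
  ext i j
  fin_cases i <;> fin_cases j <;> simp [hgm] <;> field_simp <;> grind

theorem tB_ln_h : (B).ln (hgm ω) = 1 := by
  have hd := delta_ne hω h3
  rw [tB_ln_apply]
  simp [hgm]
  field_simp
  grind

omit hω h3

theorem tB_fits_D : (B).Fits (Dm ω) := (tB_fits_iff h2 _).2 (by
  ext i j
  fin_cases i <;> fin_cases j <;> simp [tm, Dm, Matrix.mul_apply, Fin.sum_univ_three])

theorem tB_pl_D : (B).pl (Dm ω) = !![ω, 0; 0, 1] := by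
  rw [tB_pl_apply]
  ext i j
  fin_cases i <;> fin_cases j <;> simp [Dm] <;> field_simp <;> ring

theorem tB_ln_D : (B).ln (Dm ω) = 1 := by
  rw [tB_ln_apply]
  simp [Dm]
  field_simp
  ring

end vals

theorem Dm_h {ω : K} (hω : ω ^ 2 + ω + 1 = 0) (h3 : (3 : K) ≠ 0) :
    Dm ω * hgm ω = gm ω * hgm ω * tm * Dm ω := by
  have hd := delta_ne hω h3
  ext i j
  fin_cases i <;> fin_cases j <;>
    simp [Dm, gm, hgm, tm, Matrix.mul_apply, Fin.sum_univ_three] <;> field_simp <;> grind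

namespace Setup

variable {ω : K} {M : Subgroup (GL3 K)} (h : Setup p ω M)
include h

theorem cube_root {x : K} (hx : x ^ 3 = 1) : ∃ i : ℕ, i < 3 ∧ x = ω ^ i := by
  have hω := h.om
  rcases mul_eq_zero.1 (show (x - 1) * ((x - ω) * (x - ω ^ 2)) = 0 by
    grind) with e | e
  · exact ⟨0, by norm_num, by rw [pow_zero]; exact sub_eq_zero.1 e⟩
  rcases mul_eq_zero.1 e with e | e
  · exact ⟨1, by norm_num, by rw [pow_one]; exact sub_eq_zero.1 e⟩
  · exact ⟨2, by norm_num, sub_eq_zero.1 e⟩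

theorem sq_neg_one : IsSquare (-1 : K) := by
  obtain ⟨t, ht, et⟩ := h.mem_t
  refine h.sq t ht (-1) (isRoot_of_eigvec (v := ![1, 0, 0]) (fun e => one_ne_zero (α := K) (congrFun e 0)) ?_)
  rw [et]
  ext i
  fin_cases i <;> simp [tm, mulVec, dotProduct, Fin.sum_univ_three]

theorem mem_zt {i : ℕ} {s : M3} (hs : s = 1 ∨ s = tm) : ∃ g ∈ M, (g : M3) = ω ^ i • s := by
  obtain ⟨z, hz, ez⟩ := h.mem_scalar
  obtain ⟨t, ht, et⟩ := h.mem_t
  rcases hs with rfl | rfl
  · exact ⟨z ^ i, pow_mem hz i, by rw [Units.val_pow_eq_pow_val, ez, smul_pow, one_pow]⟩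
  · exact ⟨z ^ i * t, mul_mem (pow_mem hz i) ht, by
      rw [Units.val_mul, Units.val_pow_eq_pow_val, ez, et, smul_pow, one_pow, Matrix.smul_mul, Matrix.one_mul]⟩

/-- A homology with centre on the fixed line of `tm` has multiplier of order four or at most two. -/
theorem hom_order {ν : K} (hsq : IsSquare ν) (hν0 : ν ≠ 0) (hν2 : ν ^ 2 ≠ 1) {r : GL3 K}
    (hr : r ∈ withScalars M) (er : (r : M3) = hm ν ![0, 1, -1] ![0, 2⁻¹, -2⁻¹]) :
    ∃ n, 1 ≤ n ∧ n ≤ 5 ∧ ν ^ n = 1 ∧ ν ^ 2 ≠ -1 := by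
  have h2 := h.two
  have h3 := h.three
  have hω := h.om
  have h7 := h.p7
  obtain ⟨μ, hμ⟩ := hsq
  obtain ⟨x, hx, ex⟩ := h.mX
  have hd : (![0, 2⁻¹, -2⁻¹] : Fin 3 → K) ⬝ᵥ ![0, 1, -1] = 1 := by
    simp [dotProduct, Fin.sum_univ_three]; field_simp; ring
  have hdL : (![0, 2⁻¹ * ω ^ 2, -(2⁻¹ * ω)] : Fin 3 → K) ⬝ᵥ ![0, ω, -ω ^ 2] = 1 := by
    simp [dotProduct, Fin.sum_univ_three]; field_simp; linear_combination (2 : K) * om3 hω
  have hxW := le_withScalars M hx
  have ev : (x : M3) *ᵥ ![0, 1, -1] = ![0, ω, -ω ^ 2] := by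
    rw [ex]; ext i; fin_cases i <;> simp [Xm, mulVec, dotProduct, Fin.sum_univ_three]
  have eφ : (![0, 2⁻¹, -2⁻¹] : Fin 3 → K) ᵥ* ((x⁻¹ : GL3 K) : M3) = ![0, 2⁻¹ * ω ^ 2, -(2⁻¹ * ω)] := by
    have e1 : (![0, 2⁻¹ * ω ^ 2, -(2⁻¹ * ω)] : Fin 3 → K) ᵥ* (x : M3) = ![0, 2⁻¹, -2⁻¹] := by
      rw [ex]
      ext i
      fin_cases i <;> simp [Xm, vecMul, dotProduct, Fin.sum_univ_three]
      · linear_combination (2⁻¹ : K) * om3 hω
      · linear_combination (2⁻¹ : K) * om3 hω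
    rw [← e1, vecMul_vecMul, ← Units.val_mul, mul_inv_cancel, Units.val_one, vecMul_one]
  have es : ((x * r * x⁻¹ : GL3 K) : M3) = hm ν ![0, ω, -ω ^ 2] ![0, 2⁻¹ * ω ^ 2, -(2⁻¹ * ω)] := by
    rw [Units.val_mul, Units.val_mul, er, conj_hm, ev, eφ]
  rcases pair p h7 (noTv_withScalars p h.notv) (μ := μ) (by rw [pow_two]; exact hμ.symm) hν0 hν2 hd hdL hr
    (mul_mem (mul_mem hxW hr) (inv_mem hxW)) er es with e | e | e
  · exfalso
    have := congrFun (congrFun e 1) 2
    simp [vecMulVec_apply] at this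
    exact om_ne_one hω h3 (by field_simp at this; grind)
  · exfalso
    obtain ⟨e1, -⟩ := e
    simp [dotProduct, Fin.sum_univ_three] at e1
    field_simp at e1
    exact one_ne_zero (α := K) (by linear_combination hω - e1)
  · have hc : ((![0, 2⁻¹, -2⁻¹] : Fin 3 → K) ⬝ᵥ ![0, ω, -ω ^ 2]) *
        ((![0, 2⁻¹ * ω ^ 2, -(2⁻¹ * ω)] : Fin 3 → K) ⬝ᵥ ![0, 1, -1]) = 4⁻¹ := by
      have h4 : (4 : K) ≠ 0 := by rw [show (4 : K) = 2 * 2 by norm_num]; exact mul_ne_zero h2 h2
      simp [dotProduct, Fin.sum_univ_three]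
      field_simp
      linear_combination (4 * ω ^ 2 + 4 * ω - 4) * hω
    rw [hc] at e
    obtain ⟨-, -, ⟨n, h1, h5, hn⟩, gx, gy, -⟩ := e
    refine ⟨n, h1, h5, hn, fun hi => ?_⟩
    have hT : ν + ν⁻¹ = 0 := by field_simp; linear_combination hi
    rw [hT] at gx gy
    have k : ∀ m : ℕ, 0 < m → m < 6 → (m : K) ≠ 0 := fun m a b => small_ne m a (by omega)
    have h4 : (4 : K) ≠ 0 := by rw [show (4 : K) = 2 * 2 by norm_num]; exact mul_ne_zero h2 h2
    rcases gy with f | f | f | f | f <;> field_simp at f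
    · exact k 2 (by omega) (by omega) (by push_cast; grind)
    · exact k 3 (by omega) (by omega) (by
        push_cast; exact (mul_eq_zero.1 (show (4 : K) * 3 = 0 by linear_combination -f)).resolve_left h4)
    · -- here p = 7
      have h70 : (7 : K) = 0 :=
        (mul_eq_zero.1 (show (4 : K) * 7 = 0 by linear_combination -f)).resolve_left h4
      rcases gx with g | g | g | g | g <;> field_simp at g
      · exact k 3 (by omega) (by omega) (by push_cast; grind)
      · exact k 5 (by omega) (by omega) (by push_cast; grind)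
      · exact k 1 (by omega) (by omega) (by push_cast; grind)
      · exact k 1 (by omega) (by omega) (by push_cast; grind)
      · exact k 4 (by omega) (by omega) (by push_cast; grind)
    · exact k 5 (by omega) (by omega) (by
        push_cast; exact (mul_eq_zero.1 (show (4 : K) * 5 = 0 by linear_combination -f)).resolve_left h4)
    · exact k 1 (by omega) (by omega) (by push_cast; grind)

/-- An element acting as a scalar on the plane is `ω^i` or `ω^i tm`. -/
theorem plane_kernel {g : GL3 K} (hg : g ∈ M) (hf : (tB h.two).Fits (g : M3)) {β : K}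
    (hpl : (tB h.two).pl (g : M3) = β • 1) :
    ∃ i < 3, (g : M3) = ω ^ i • 1 ∨ (g : M3) = ω ^ i • tm := by
  have h2 := h.two
  set b := tB h2
  set α := b.ln (g : M3)
  have hdet : α * β ^ 2 = 1 := by
    rw [← h.det g hg, hf.det_eq, hpl, det_smul, det_one, mul_one, Fintype.card_fin]
  have hβ : β ≠ 0 := by rintro rfl; simp at hdet
  have hα : α ≠ 0 := left_ne_zero_of_mul_eq_one hdet
  have eg : (g : M3) = β • hm (α / β) ![0, 1, -1] ![0, 2⁻¹, -2⁻¹] := by
    rw [hf.decomp, hpl, Matrix.mul_smul, Matrix.mul_one, Matrix.smul_mul, hm, smul_add, smul_smul, mul_sub, mul_one,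
      mul_div_cancel₀ _ hβ]
    rw [show b.E * b.D = 1 - vecMulVec b.k b.χ by rw [eq_sub_iff_add_eq]; exact b.sum]
    show β • (1 - vecMulVec b.k b.χ) + α • vecMulVec b.k b.χ = β • 1 + (α - β) • vecMulVec b.k b.χ
    module
  have hm_neg : hm (-1 : K) ![0, 1, -1] ![0, 2⁻¹, -2⁻¹] = -(tm : M3) := by
    ext i j
    fin_cases i <;> fin_cases j <;> simp [hm, tm, vecMulVec_apply] <;> field_simp <;> ring
  rcases (show α = β ∨ α = -β ∨ (α / β) ^ 2 ≠ 1 by
    by_cases e : (α / β) ^ 2 = 1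
    · rcases mul_self_eq_one_iff.1 ((pow_two (α / β)).symm.trans e) with e' | e'
      · left; field_simp at e'; exact e'
      · right; left; field_simp at e'; linear_combination e'
    · exact Or.inr (Or.inr e)) with e | e | e
  · rw [e] at hdet
    obtain ⟨i, hi, hx⟩ := h.cube_root (x := β) (by linear_combination hdet)
    refine ⟨i, hi, Or.inl ?_⟩
    rw [eg, e, div_self hβ, hm, sub_self, zero_smul, add_zero, hx]
  · rw [e] at hdet
    obtain ⟨i, hi, hx⟩ := h.cube_root (x := -β) (by linear_combination hdet)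
    refine ⟨i, hi, Or.inr ?_⟩
    rw [eg, e, neg_div, div_self hβ, hm_neg, ← hx, smul_neg, neg_smul]
  · exfalso
    set ν := α / β
    have hν0 : ν ≠ 0 := div_ne_zero hα hβ
    have hsq : IsSquare ν := by
      have s1 : IsSquare α := h.sq g hg α hf.isRoot_ln
      have s2 : IsSquare β := h.sq g hg β (isRoot_of_eigvec (v := b.E *ᵥ ![1, 0]) (fun e0 => by
          have := congrFun e0 0
          simp [b, tB, mulVec, dotProduct, Fin.sum_univ_two] at this) (Blk.pl_scalar_mulVec hf hpl _))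
      exact s1.div s2
    have hd : IsUnit (hm ν ![0, 1, -1] ![0, 2⁻¹, -2⁻¹] : M3).det := by
      have : ((β • hm ν ![0, 1, -1] ![0, 2⁻¹, -2⁻¹] : M3)).det = 1 := eg ▸ h.det g hg
      rw [det_smul] at this
      exact IsUnit.of_mul_eq_one _ ((mul_comm _ _).trans this)
    obtain ⟨r, er⟩ := (Matrix.isUnit_iff_isUnit_det _).2 hd
    have hr : r ∈ withScalars M :=
      ⟨β⁻¹, inv_ne_zero hβ, g, hg, by rw [er, eg, smul_smul, inv_mul_cancel₀ hβ, one_smul]⟩
    obtain ⟨n, h1, h5, hn, hi⟩ := h.hom_order hsq hν0 e hr er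
    obtain ⟨t, ht, et⟩ := h.mem_t
    have hμ : hm (-ν) ![0, 1, -1] ![0, 2⁻¹, -2⁻¹] =
        (-1 : K) • (hm ν ![0, 1, -1] ![0, 2⁻¹, -2⁻¹] * tm) := by
      ext i j
      fin_cases i <;> fin_cases j <;>
        simp [hm, tm, Matrix.mul_apply, Fin.sum_univ_three, vecMulVec_apply] <;> field_simp <;> ring
    have hd' : IsUnit (hm (-ν) ![0, 1, -1] ![0, 2⁻¹, -2⁻¹] : M3).det := by
      rw [hμ, det_smul, det_mul, ← er, ← et, h.det t ht, mul_one]
      exact ((isUnit_neg_one).pow _).mul ((Matrix.isUnit_iff_isUnit_det _).1 r.isUnit)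
    obtain ⟨r', er'⟩ := (Matrix.isUnit_iff_isUnit_det _).2 hd'
    have hr' : r' ∈ withScalars M := by
      refine ⟨-1 * β⁻¹, by simp [hβ], g * t, mul_mem hg ht, ?_⟩
      rw [er', hμ, Units.val_mul, et, eg, Matrix.smul_mul, smul_smul, mul_assoc, inv_mul_cancel₀ hβ, mul_one]
    have hν4 : ν ^ 4 ≠ 1 := fun h4 => by
      rcases mul_self_eq_one_iff.1 (show ν ^ 2 * ν ^ 2 = 1 by linear_combination h4) with a | a
      exacts [e a, hi a]
    obtain ⟨m, m1, m5, hm', -⟩ := h.hom_order (h.sq_neg_one.mul hsq |> fun s => by rwa [neg_one_mul] at s)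
      (neg_ne_zero.2 hν0) (by rwa [neg_sq]) hr' er'
    have h2' : (2 : K) ≠ 0 := h.two
    interval_cases n <;> interval_cases m <;> grind

end Setup

end CfsgLib.HessianMax
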