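import Cfsg.Agent.Lib.HessianMax.Dihedral
import Cfsg.Agent.Lib.HessianMax.Isolated
import Cfsg.Agent.Lib.HessianMax.AbsTwo

/-!
The local structure at the involution, read in the abstract group.
-/

set_option autoImplicit false
set_option linter.unusedSectionVars false

namespace CfsgLib.HessianMax

open Matrix

variable {K : Type*} [Field K] [Finite K] {p : ℕ} [hp : Fact p.Prime] [CharP K p]

local notation "M2" => Matrix (Fin 2) (Fin 2) K
local notation "M3" => Matrix (Fin 3) (Fin 3) K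

namespace Setup

variable {ω : K} {M : Subgroup (GL3 K)} (h : Setup p ω M)
include h

/-- A normal subgroup of odd order containing both generators is the Heisenberg group. -/
theorem of_core {N : Subgroup M} (hN : N.Normal) (hodd : Odd (Nat.card N))
    (hx : ∀ g : M, ((g : GL3 K) : M3) = Xm ω → g ∈ N) (hy : ∀ g : M, ((g : GL3 K) : M3) = Ym → g ∈ N) :
    M ≤ Subgroup.normalizer (Rsub K ω h.om : Set (GL3 K)) := by
  classical
  haveI : Finite (GL3 K) := finite_gl
  have hω := h.om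
  set N' := N.map M.subtype
  have hodd' : Odd (Nat.card N') := by rwa [Subgroup.card_map_of_injective M.subtype_injective]
  have hle : N' ≤ M := Subgroup.map_subtype_le N
  have hconj : ∀ m ∈ M, ∀ n ∈ N', m * n * m⁻¹ ∈ N' := by
    rintro m hm _ ⟨n, hn, rfl⟩
    refine Subgroup.mem_map.2 ⟨_, hN.conj_mem n hn ⟨m, hm⟩, ?_⟩
    rw [map_mul, map_mul, map_inv]
    rfl
  obtain ⟨x, hxM, ex⟩ := h.mX
  obtain ⟨y, hyM, ey⟩ := h.mY
  obtain ⟨z0, hz0, ez0⟩ := h.mem_scalar
  have hxN : x ∈ N' := ⟨⟨x, hxM⟩, hx _ ex, rfl⟩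
  have hyN : y ∈ N' := ⟨⟨y, hyM⟩, hy _ ey, rfl⟩
  have hzN : z0 ∈ N' := by
    have e : y * x = z0 * (x * y) := Units.ext (by
      rw [Units.val_mul, Units.val_mul, Units.val_mul, ex, ey, ez0, YX hω, Matrix.smul_mul, Matrix.one_mul])
    have := mul_mem (mul_mem hyN hxN) (inv_mem (mul_mem hxN hyN))
    rwa [e, mul_inv_cancel_right] at this
  have hR : Rsub K ω hω ≤ N' := by
    intro g hg
    obtain ⟨i, j, k, e⟩ := mem_Rsub.1 hg
    have : g = z0 ^ i * (x ^ j * y ^ k) := Units.ext (by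
      rw [Units.val_mul, Units.val_mul, Units.val_pow_eq_pow_val, Units.val_pow_eq_pow_val, Units.val_pow_eq_pow_val,
        ex, ey, ez0, e, smul_pow, one_pow, Matrix.smul_mul, Matrix.one_mul])
    rw [this]
    exact mul_mem (pow_mem hzN i) (mul_mem (pow_mem hxN j) (pow_mem hyN k))
  have heq : N' = Rsub K ω hω := le_antisymm (h.eq_Rsub_of_thin
    (h.thin_of_diag hle hconj hR fun n hn => h.diag_scalar hle hconj hodd' hn) hodd') hR
  intro m hm
  rw [Subgroup.mem_normalizer_iff]
  intro g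
  rw [← heq]
  refine ⟨hconj m hm g, fun hg => ?_⟩
  have := hconj m⁻¹ (inv_mem hm) _ hg
  rwa [inv_inv, show m⁻¹ * (m * g * m⁻¹) * m = g by group] at this

/-- The elements of the abstract description. -/
noncomputable def zM : M := ⟨Classical.choose h.mem_scalar, (Classical.choose_spec h.mem_scalar).1⟩

theorem zM_val : ((h.zM : GL3 K) : M3) = ω • 1 := (Classical.choose_spec h.mem_scalar).2

/-- The involution. -/
noncomputable def tM : M := ⟨Classical.choose h.mem_t, (Classical.choose_spec h.mem_t).1⟩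

theorem tM_val : ((h.tM : GL3 K) : M3) = tm := (Classical.choose_spec h.mem_t).2

/-- The diagonal generator. -/
noncomputable def xM : M := ⟨Classical.choose h.mX, (Classical.choose_spec h.mX).1⟩

theorem xM_val : ((h.xM : GL3 K) : M3) = Xm ω := (Classical.choose_spec h.mX).2

variable {k : ℕ} {c j : GL3 K} (hC : CT ω M h.two k c j)
include hC

theorem ct_det {g : GL3 K} (hg : g ∈ M) (hf : (tB h.two).Fits (g : M3)) :
    (tB h.two).ln (g : M3) * ((tB h.two).pl (g : M3)).det = 1 := by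
  rw [← hf.det_eq, h.det g hg]

theorem jpow_c (n : ℕ) : (j : M3) * (c : M3) ^ n = ((c⁻¹ : GL3 K) : M3) ^ n * tm ^ n * (j : M3) := by
  have hct : Commute ((c⁻¹ : GL3 K) : M3) (tm : M3) := by
    have h1 : Commute (c : M3) (tm : M3) := hC.ck ▸ Commute.self_pow _ k
    exact h1.units_inv_left
  induction n with
  | zero => simp
  | succ n ih =>
    rw [pow_succ, ← mul_assoc, ih, mul_assoc, hC.jc]
    calc ((c⁻¹ : GL3 K) : M3) ^ n * tm ^ n * (((c⁻¹ : GL3 K) : M3) * tm * (j : M3))
        = ((c⁻¹ : GL3 K) : M3) ^ n * (tm ^ n * ((c⁻¹ : GL3 K) : M3)) * tm * (j : M3) := by simp only [mul_assoc]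
      _ = _ := by rw [← (hct.pow_right n).eq, pow_succ, pow_succ]; simp only [mul_assoc]

/-- The group is thin. -/
theorem thin : h.Thin M := by
  refine h.thin_of_diag le_rfl (fun m hm n hn => mul_mem (mul_mem hm hn) (inv_mem hm)) h.Rsub_le
    fun n hn hnX hnt => ?_
  have h2 := h.two
  have h3 := h.three
  have hω := h.om
  have hd := delta_ne hω h3
  have hω1 := om_ne_one hω h3
  have hω0 := om_ne_zero hω
  have hω2 : ω ^ 2 ≠ 1 := fun e => hω1 (by linear_combination -ω * e + om3 hω)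
  set B := tB h2
  have hfn : B.Fits (n : M3) := (tB_fits_iff h2 _).2 hnt
  obtain ⟨g, hg, eg⟩ := h.mg
  obtain ⟨g', hg', eg'⟩ := h.mh
  have fg : B.Fits (g : M3) := eg ▸ tB_fits_g h2 hω h3
  have fg' : B.Fits (g' : M3) := eg' ▸ tB_fits_h h2 hω h3
  obtain ⟨fc, fj⟩ := (⟨hC.fc, hC.fj⟩ : B.Fits (c : M3) ∧ B.Fits (j : M3))
  have pw : ∀ m : ℕ, B.Fits ((c : M3) ^ m) := fun m => (Blk.pl_pow fc m).1
  have plt : ∀ m : ℕ, B.pl ((tm : M3) ^ m) = (-1 : K) ^ m • 1 := fun m => by
    rw [(Blk.pl_pow (tB_fits_t h2) m).2.1, tB_pl_t, show (-1 : M2) = (-1 : K) • 1 by rw [neg_one_smul], smul_pow,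
      one_pow]
  -- a rotation of order four with non-zero first row
  obtain ⟨m, β, Z, hm, hβ, hZ0, hZ1, eZ⟩ : ∃ (m : ℕ) (β : K) (Z : M2), k ∣ 2 * m ∧ β ≠ 0 ∧ Z 0 0 ≠ 0 ∧ Z 0 1 ≠ 0 ∧
      B.pl ((c : M3) ^ m) = β • Z := by
    have sq : ∀ {y : GL3 K}, (y : M3) * (y : M3) = tm → ∀ i m : ℕ, (y : M3) = ω ^ i • (c : M3) ^ m → k ∣ 2 * m := by
      intro y hy i m e
      rw [e, Matrix.smul_mul, Matrix.mul_smul, smul_smul, ← pow_add, ← pow_add, ← two_mul m] at hy
      refine hC.scal _ (-(ω ^ (i + i))⁻¹) ?_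
      have h' := congrArg B.pl hy
      rw [Blk.pl_smul, tB_pl_t] at h'
      rw [neg_smul, ← smul_neg, ← h', smul_smul, inv_mul_cancel₀ (pow_ne_zero _ hω0), one_smul]
    have e1 : B.pl (g : M3) = (ω - ω ^ 2)⁻¹ • !![1, 2; 1, -1] := by rw [eg, tB_pl_g h2 hω h3]
    have e2 : B.pl (g' : M3) = (ω - ω ^ 2)⁻¹ • !![1, 2 * ω; ω ^ 2, -1] := by rw [eg', tB_pl_h h2 hω h3]
    have hdi : (ω - ω ^ 2)⁻¹ ≠ 0 := inv_ne_zero hd
    have fin : ∀ {y : GL3 K} {i m : ℕ} {β : K} {Z : M2}, (y : M3) = ω ^ i • (c : M3) ^ m → B.pl (y : M3) = β • Z →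
        B.pl ((c : M3) ^ m) = ((ω ^ i)⁻¹ * β) • Z := by
      intro y i m β Z e ep
      rw [← smul_smul, ← ep, e, Blk.pl_smul, smul_smul, inv_mul_cancel₀ (pow_ne_zero _ hω0), one_smul]
    have hne : ∀ i : ℕ, (ω ^ i)⁻¹ * (ω - ω ^ 2)⁻¹ ≠ 0 := fun i => mul_ne_zero (inv_ne_zero (pow_ne_zero _ hω0)) hdi
    obtain ⟨i, m, e | e⟩ := hC.cover g hg fg
    · exact ⟨m, _, _, sq (by rw [eg, gm_sq hω h3]) i m e, hne i, by simp, by simp [h2], fin e e1⟩
    obtain ⟨i', m', e' | e'⟩ := hC.cover g' hg' fg'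
    · exact ⟨m', _, _, sq (by rw [eg', hgm_sq hω h3]) i' m' e', hne i', by simp, by simp [h2, hω0], fin e' e2⟩
    -- the product of two reflections is a rotation
    set d := ((ω - ω ^ 2)⁻¹ * (ω - ω ^ 2)⁻¹)
    set m'' := m + m' * (2 * k - 1) + k * m' + k
    have ep : B.pl ((g * g' : GL3 K) : M3) = d • (!![1, 2; 1, -1] * !![1, 2 * ω; ω ^ 2, -1]) := by
      rw [Units.val_mul, Blk.pl_mul fg', e1, e2, Matrix.smul_mul, Matrix.mul_smul, smul_smul]
    have eprod : ((g * g' : GL3 K) : M3) = ω ^ (i + i') • (c : M3) ^ m'' := by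
      have hi : ((c⁻¹ : GL3 K) : M3) = (c : M3) ^ (2 * k - 1) := by
        have h1 : (c : M3) ^ (2 * k) = 1 := by rw [mul_comm, pow_mul, hC.ck, pow_two, tm_sq]
        calc ((c⁻¹ : GL3 K) : M3) = ((c⁻¹ : GL3 K) : M3) * (c : M3) ^ (2 * k) := by rw [h1, Matrix.mul_one]
          _ = _ := by
            have := hC.kpos
            rw [show 2 * k = 2 * k - 1 + 1 by omega, pow_succ', ← Matrix.mul_assoc, ← Units.val_mul, inv_mul_cancel,
              Units.val_one, Matrix.one_mul, Nat.add_sub_cancel]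
      rw [Units.val_mul, e, e', Matrix.smul_mul, Matrix.mul_smul, smul_smul, ← pow_add]
      congr 1
      calc (c : M3) ^ m * (j : M3) * ((c : M3) ^ m' * (j : M3))
          = (c : M3) ^ m * ((j : M3) * (c : M3) ^ m') * (j : M3) := by simp only [mul_assoc]
        _ = (c : M3) ^ m * (((c⁻¹ : GL3 K) : M3) ^ m' * tm ^ m') * ((j : M3) * (j : M3)) := by
            rw [h.jpow_c hC]; simp only [mul_assoc]
        _ = _ := by
            rw [hC.jj, hi, ← hC.ck, ← pow_mul, ← pow_mul, ← pow_add, ← pow_add, ← pow_add]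
            congr 1
            simp only [m'']
            ring
    refine ⟨m'', _, _, ?_, ?_, ?_, ?_, fin eprod ep⟩
    · have hsq : (!![1, 2; 1, -1] * !![1, 2 * ω; ω ^ 2, -1] : M2) * (!![1, 2; 1, -1] * !![1, 2 * ω; ω ^ 2, -1]) =
          (-9 : K) • 1 := by
        ext a b
        fin_cases a <;> fin_cases b <;> simp [Matrix.mul_apply, Fin.sum_univ_two] <;> grind
      refine hC.scal _ (((ω ^ (i + i'))⁻¹ * d) * ((ω ^ (i + i'))⁻¹ * d) * (-9)) ?_
      rw [two_mul m'', pow_add, Blk.pl_mul (pw _), fin eprod ep, Matrix.smul_mul, Matrix.mul_smul, smul_smul, hsq,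
        smul_smul]
    · exact mul_ne_zero (inv_ne_zero (pow_ne_zero _ hω0)) (mul_ne_zero hdi hdi)
    · simp [Matrix.mul_apply, Fin.sum_univ_two]
      intro h'
      apply hd
      linear_combination (-1 : K) * h' + hω
    · simp [Matrix.mul_apply, Fin.sum_univ_two]
      intro h'
      exact mul_ne_zero h2 (sub_ne_zero.2 hω1) (by linear_combination h')
  -- every element of the centraliser commutes with it up to sign
  obtain ⟨ε, hε⟩ : ∃ ε : K, B.pl (n : M3) * Z = ε • (Z * B.pl (n : M3)) := by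
    obtain ⟨i, a, e | e⟩ := hC.cover n hn hfn
    · refine ⟨1, smul_right_injective M2 hβ ?_⟩
      show β • (B.pl (n : M3) * Z) = β • ((1 : K) • (Z * B.pl (n : M3)))
      rw [one_smul, ← Matrix.mul_smul, ← Matrix.smul_mul β Z, ← eZ, e, Blk.pl_smul, Matrix.smul_mul,
        Matrix.mul_smul, ← Blk.pl_mul (pw m), ← Blk.pl_mul (pw a), ← pow_add, ← pow_add, add_comm]
    · obtain ⟨q, hq⟩ := hm
      refine ⟨(-1) ^ (m + q), smul_right_injective M2 hβ ?_⟩
      show β • (B.pl (n : M3) * Z) = β • ((-1 : K) ^ (m + q) • (Z * B.pl (n : M3)))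
      rw [smul_comm β, ← Matrix.mul_smul, ← Matrix.smul_mul β Z, ← eZ, e, Blk.pl_smul, Matrix.smul_mul,
        Matrix.mul_smul, smul_comm]
      congr 1
      have e1 : ((c⁻¹ : GL3 K) : M3) ^ m = (c : M3) ^ m * tm ^ q := by
        rw [← hC.ck, ← pow_mul, ← hq, ← Units.val_pow_eq_pow_val, ← Units.val_pow_eq_pow_val,
          ← Units.val_pow_eq_pow_val, ← Units.val_mul]
        congr 1
        rw [inv_pow, ← pow_add]
        refine inv_eq_of_mul_eq_one_right ?_
        rw [← pow_add]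
        refine Units.ext ?_
        rw [Units.val_pow_eq_pow_val, Units.val_one, show m + (m + 2 * m) = 2 * (2 * m) by ring, pow_mul' _ 2, hq,
          pow_mul, hC.ck, ← pow_mul, mul_comm q, pow_mul, pow_two, tm_sq, one_pow]
      have ejm : (j : M3) * (c : M3) ^ m = (c : M3) ^ m * tm ^ (m + q) * (j : M3) := by
        rw [h.jpow_c hC, e1, Matrix.mul_assoc ((c : M3) ^ m), ← pow_add, add_comm q]
      have hft : ∀ m : ℕ, B.Fits ((tm : M3) ^ m) := fun m => (Blk.pl_pow (tB_fits_t h2) m).1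
      calc B.pl ((c : M3) ^ a * (j : M3)) * B.pl ((c : M3) ^ m)
          = B.pl ((c : M3) ^ a * ((j : M3) * (c : M3) ^ m)) := by rw [← Blk.pl_mul (pw m), mul_assoc]
        _ = B.pl ((c : M3) ^ m * ((c : M3) ^ a * (tm ^ (m + q) * (j : M3)))) := by
            rw [ejm]
            congr 1
            simp only [← mul_assoc, ← pow_add, add_comm]
        _ = _ := by
            rw [Blk.pl_mul ((pw a).mul ((hft _).mul fj)), Blk.pl_mul ((hft _).mul fj), Blk.pl_mul fj, plt,
              Matrix.smul_mul, Matrix.one_mul, Matrix.mul_smul, Matrix.mul_smul, ← Blk.pl_mul fj]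
  have e' : ∀ a b : Fin 3, ((n : M3) * Xm ω) a b = (Xm ω * (n : M3)) a b := fun a b => by rw [hnX]
  have z0' : ∀ {a x : K}, a ≠ 0 → a * x = 0 → x = 0 := fun ha hx => (mul_eq_zero.1 hx).resolve_left ha
  have hω12 : ω ^ 2 - ω ≠ 0 := fun e' => by
    rcases mul_eq_zero.1 (show ω * (ω - 1) = 0 by linear_combination e') with a | a
    exacts [hω0 a, hω1 (sub_eq_zero.1 a)]
  have e01 := e' 0 1
  have e02 := e' 0 2
  have e10 := e' 1 0
  have e12 := e' 1 2
  have e20 := e' 2 0
  have e21 := e' 2 1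
  simp [Xm, Matrix.mul_apply, vecMul, dotProduct, Fin.sum_univ_three] at e01 e02 e10 e12 e20 e21
  set a := (n : M3) 0 0
  set b := (n : M3) 1 1
  have a01 := z0' (sub_ne_zero.2 hω1) (show (ω - 1) * (n : M3) 0 1 = 0 by linear_combination e01)
  have a02 := z0' (sub_ne_zero.2 hω2) (show (ω ^ 2 - 1) * (n : M3) 0 2 = 0 by linear_combination e02)
  have a10 := z0' (sub_ne_zero.2 hω1) (show (ω - 1) * (n : M3) 1 0 = 0 by linear_combination -e10)
  have a12 := z0' hω12 (show (ω ^ 2 - ω) * (n : M3) 1 2 = 0 by linear_combination e12)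
  have a20 := z0' (sub_ne_zero.2 hω2) (show (ω ^ 2 - 1) * (n : M3) 2 0 = 0 by linear_combination -e20)
  have a21 := z0' hω12 (show (ω ^ 2 - ω) * (n : M3) 2 1 = 0 by linear_combination -e21)
  have hcc : (n : M3) 2 2 = b := by
    have := congrFun (congrFun hnt 1) 2
    simp [tm, Matrix.mul_apply, Fin.sum_univ_three] at this
    exact this.symm
  have dn : (n : M3) = !![a, 0, 0; 0, b, 0; 0, 0, b] := by
    ext u v
    fin_cases u <;> fin_cases v <;> simp [a, b, a01, a02, a10, a12, a20, a21, hcc]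
  have hpl : B.pl (n : M3) = !![a, 0; 0, b] := by
    rw [tB_pl_apply, dn]
    ext u v
    fin_cases u <;> fin_cases v <;> simp [h2] <;> field_simp <;> ring
  have ha0 : a ≠ 0 := fun e0 => by
    have := h.det n hn
    rw [dn, e0] at this
    simp [det_fin_three] at this
  rw [hpl] at hε
  have k00 := congrFun (congrFun hε 0) 0
  have k01 := congrFun (congrFun hε 0) 1
  simp [Matrix.mul_apply, Fin.sum_univ_two] at k00 k01
  have hε1 : ε = 1 := mul_right_cancel₀ (mul_ne_zero ha0 hZ0) (by linear_combination -k00)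
  have hab : a = b := mul_right_cancel₀ hZ1 (by rw [hε1] at k01; linear_combination k01)
  refine ⟨b, ?_⟩
  rw [dn, hab]
  ext u v
  fin_cases u <;> fin_cases v <;> simp

theorem rot_val (i n : ℕ) :
    (((h.zM ^ i * ⟨c, hC.mc⟩ ^ n : M) : GL3 K) : M3) = ω ^ i • (c : M3) ^ n := by
  rw [Subgroup.coe_mul, Subgroup.coe_pow, Subgroup.coe_pow, Units.val_mul, Units.val_pow_eq_pow_val,
    Units.val_pow_eq_pow_val, h.zM_val, smul_pow, one_pow, Matrix.smul_mul, Matrix.one_mul]

/-- The plane part of a rotation off the multiples of `k` does not meet the line part. -/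
theorem fits_of_rot {n : ℕ} (hn : ¬ k ∣ n) {g : M3} (hg : g * (c : M3) ^ n = (c : M3) ^ n * g) :
    (tB h.two).Fits g := by
  have h2 := h.two
  have h7 := h.p7
  set B := tB h2
  obtain ⟨hf, hpl, hln⟩ := Blk.pl_pow hC.fc n
  set A := B.pl ((c : M3) ^ n) with hA
  set l := B.ln ((c : M3) ^ n) with hl
  have hd : l * A.det = 1 := by
    have := h.ct_det hC (g := c ^ n) (pow_mem hC.mc n) (by rw [Units.val_pow_eq_pow_val]; exact hf)
    rwa [Units.val_pow_eq_pow_val] at this
  have hl2 : l * l = 1 := by rw [hln, hC.lc, ← mul_pow, neg_one_mul, neg_neg, one_pow]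
  have hD : A.det = l := by
    calc A.det = (l * l) * A.det := by rw [hl2, one_mul]
      _ = _ := by rw [mul_assoc, hd, mul_one]
  have hch : A * A = A.trace • A - l • 1 := by
    have h' := Matrix.aeval_self_charpoly A
    rw [Matrix.charpoly_fin_two] at h'
    simp [pow_two, Algebra.smul_def] at h'
    rw [Algebra.smul_def, Algebra.smul_def, mul_one, ← hD]
    linear_combination (norm := abel) h'
  set T := A.trace
  have key : l * l - T * l + l ≠ 0 := by
    intro e
    have hl0 : l ≠ 0 := left_ne_zero_of_mul_eq_one hd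
    have hT : T = l + 1 := mul_right_cancel₀ hl0 (by linear_combination -e)
    rcases mul_self_eq_one_iff.1 hl2 with e1 | e1
    · -- a transvection otherwise
      refine hn ?_
      by_cases h1 : (c : M3) ^ n = 1
      · exact hC.scal n 1 (by rw [h1, Blk.pl_one, one_smul])
      exfalso
      have h1' : (c ^ n : GL3 K) ∈ M := pow_mem hC.mc n
      refine h.notv _ h1' ⟨by rwa [Units.val_pow_eq_pow_val], ?_⟩
      rw [Units.val_pow_eq_pow_val]
      have hsub : B.Fits ((c : M3) ^ n - 1) := by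
        rw [Blk.Fits, Matrix.sub_mul, Matrix.mul_sub, Matrix.one_mul, Matrix.mul_one, hf]
      apply (hsub.mul hsub).ext (show B.Fits (0 : M3) by simp [Blk.Fits])
      · rw [Blk.pl_mul hsub, show B.pl ((c : M3) ^ n - 1) = A - 1 by
          rw [hA, Blk.pl, Blk.pl, Matrix.mul_sub, Matrix.sub_mul, Matrix.mul_one, B.DE]]
        rw [Matrix.sub_mul, Matrix.mul_sub, Matrix.one_mul, Matrix.mul_one, hch, hT, e1, add_smul, one_smul]
        simp [Blk.pl] <;> abel
      · rw [Blk.ln_mul hsub, show B.ln ((c : M3) ^ n - 1) = 0 by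
          rw [Blk.ln, sub_mulVec, one_mulVec, dotProduct_sub, B.χk, ← Blk.ln, ← hl, e1, sub_self], mul_zero]
        simp [Blk.ln]
    · rw [e1] at hT hch
      rw [hT, neg_add_cancel, zero_smul, zero_sub, neg_one_smul, neg_neg] at hch
      have hk2 : k ∣ 2 * n := hC.scal _ 1 (by rw [two_mul, pow_add, Blk.pl_mul hf, one_smul, hch])
      obtain ⟨q, hq⟩ := hC.four
      obtain ⟨r, hr⟩ := hk2
      have hr' : 2 * n = 4 * (q * r) := by rw [hr, hq]; ring
      have he : Even n := ⟨q * r, by omega⟩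
      rw [hln, hC.lc, he.neg_one_pow] at e1
      exact h2 (by linear_combination e1)
  set a := (c : M3) ^ n
  have hproj : a * a - T • a + l • 1 = (l * l - T * l + l) • vecMulVec B.k B.χ := by
    have f1 : B.Fits (a * a - T • a + l • 1) := by
      rw [Blk.Fits]
      simp only [Matrix.add_mul, Matrix.sub_mul, Matrix.mul_add, Matrix.mul_sub, Matrix.smul_mul, Matrix.mul_smul,
        Matrix.one_mul, Matrix.mul_one, show a * a * B.prj = B.prj * (a * a) from hf.mul hf, show a * B.prj = B.prj * a from hf]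
    rw [f1.decomp]
    have p1 : B.pl (a * a - T • a + l • 1) = 0 := by
      have : B.pl (a * a - T • a + l • 1) = B.pl (a * a) - T • B.pl a + l • B.pl 1 := by
        simp only [Blk.pl, Matrix.mul_add, Matrix.mul_sub, Matrix.add_mul, Matrix.sub_mul, Matrix.mul_smul,
          Matrix.smul_mul]
      rw [this, Blk.pl_mul hf, Blk.pl_one, ← hA, hch]
      abel
    have l1 : B.ln (a * a - T • a + l • 1) = l * l - T * l + l := by
      have : B.ln (a * a - T • a + l • 1) = B.ln (a * a) - T * B.ln a + l * B.ln 1 := by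
        simp only [Blk.ln, add_mulVec, sub_mulVec, smul_mulVec, dotProduct_add, dotProduct_sub, dotProduct_smul,
          smul_eq_mul]
      rw [this, Blk.ln_mul hf, Blk.ln_one, ← hl, mul_one]
    rw [p1, l1, Matrix.mul_zero, Matrix.zero_mul, zero_add]
  have hcomm : g * (a * a - T • a + l • 1) = (a * a - T • a + l • 1) * g := by
    simp only [Matrix.add_mul, Matrix.sub_mul, Matrix.mul_add, Matrix.mul_sub, Matrix.smul_mul, Matrix.mul_smul,
      Matrix.one_mul, Matrix.mul_one]
    rw [← Matrix.mul_assoc, hg, Matrix.mul_assoc, hg, Matrix.mul_assoc]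
  rw [hproj, Matrix.mul_smul, Matrix.smul_mul, ← B.one_sub_prj] at hcomm
  have := smul_right_injective M3 key hcomm
  rw [Matrix.mul_sub, Matrix.sub_mul, Matrix.mul_one, Matrix.one_mul, sub_right_inj] at this
  exact this

set_option maxHeartbeats 1000000 in
/-- The abstract axioms. -/
theorem ax : Abs.Ax k (h.zM) (h.tM) (⟨c, hC.mc⟩ : M) ⟨j, hC.mj⟩ (h.xM) := by
  have hω := h.om
  have h3 := h.three
  have h2 := h.two
  have hω0 := om_ne_zero hω
  have ev : ∀ {a b : M}, ((a : GL3 K) : M3) = ((b : GL3 K) : M3) → a = b := fun e => Subtype.ext (Units.ext e)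
  refine
    { four := hC.four
      kpos := hC.kpos
      z3 := ev ?_
      zc := fun g => ev ?_
      tsq := ev ?_
      ck := ev ?_
      jj := ev ?_
      jc := ev ?_
      ord := ?_
      jnot := ?_
      cover := ?_
      fit := ?_
      x3 := ev ?_
      xne := fun i e => ?_
      cx := ?_ }
  · rw [Subgroup.coe_pow, Units.val_pow_eq_pow_val, h.zM_val, smul_pow, one_pow, om3 hω, one_smul]
    rfl
  · rw [Subgroup.coe_mul, Subgroup.coe_mul, Units.val_mul, Units.val_mul, h.zM_val, Matrix.smul_mul,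
      Matrix.one_mul, Matrix.mul_smul, Matrix.mul_one]
  · rw [Subgroup.coe_mul, Units.val_mul, h.tM_val, tm_sq]
    rfl
  · rw [Subgroup.coe_pow, Units.val_pow_eq_pow_val, h.tM_val]
    exact hC.ck
  · rw [Subgroup.coe_mul, Units.val_mul, h.tM_val]
    exact hC.jj
  · show ((j * c : GL3 K) : M3) = ((c⁻¹ * (h.tM : GL3 K) * j : GL3 K) : M3)
    rw [Units.val_mul, Units.val_mul, Units.val_mul, h.tM_val]
    exact hC.jc
  · intro i n e
    have e' : ω ^ i • (c : M3) ^ n = 1 := by rw [← h.rot_val hC, e]; rfl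
    have hk : k ∣ n := by
      refine hC.scal n (ω ^ i)⁻¹ ?_
      have h' := congrArg (tB h2).pl e'
      rw [Blk.pl_smul, Blk.pl_one] at h'
      rw [← h', smul_smul, inv_mul_cancel₀ (pow_ne_zero _ hω0), one_smul]
    obtain ⟨d, rfl⟩ := hk
    rw [pow_mul, hC.ck] at e'
    rcases Nat.even_or_odd' d with ⟨q, rfl | rfl⟩
    · rw [pow_mul, pow_two, tm_sq, one_pow] at e'
      have h00 := congrFun (congrFun e' 0) 0
      simp at h00
      exact ⟨h.omega_pow_eq_one.1 h00, ⟨q, by ring⟩⟩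
    · exfalso
      rw [pow_succ, pow_mul, pow_two, tm_sq, one_pow, Matrix.one_mul] at e'
      have h11 := congrFun (congrFun e' 1) 1
      simp [tm] at h11
  · intro i n e
    have e' : (j : M3) = ω ^ i • (c : M3) ^ n := by rw [← h.rot_val hC, e]
    have h1 : (c : M3) * (j : M3) = (j : M3) * (c : M3) := by
      rw [e', Matrix.mul_smul, Matrix.smul_mul, ← pow_succ, ← pow_succ']
    rw [hC.jc] at h1
    have h2' : (c : M3) * (c : M3) = tm := by
      have h3' := congrArg (fun A => A * ((j⁻¹ : GL3 K) : M3)) h1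
      simp only [Matrix.mul_assoc] at h3'
      rw [← Units.val_mul j j⁻¹, mul_inv_cancel, Units.val_one, Matrix.mul_one, Matrix.mul_one] at h3'
      calc (c : M3) * (c : M3) = (c : M3) * (((c⁻¹ : GL3 K) : M3) * tm) := by rw [← h3']
        _ = _ := by rw [← Matrix.mul_assoc, ← Units.val_mul, mul_inv_cancel, Units.val_one, Matrix.one_mul]
    have hk : k ∣ 2 := hC.scal 2 (-1) (by rw [pow_two, h2', tB_pl_t, neg_one_smul])
    have := Nat.le_of_dvd two_pos hk
    have := Nat.le_of_dvd hC.kpos hC.four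
    omega
  · intro g hg
    have hgf : (tB h2).Fits ((g : GL3 K) : M3) := (tB_fits_iff h2 _).2 (by
      have := congrArg (fun a : M => ((a : GL3 K) : M3)) hg
      simp only [Subgroup.coe_mul, Units.val_mul, h.tM_val] at this
      exact this)
    obtain ⟨i, n, e | e⟩ := hC.cover _ g.2 hgf
    · exact ⟨i, n, Or.inl (ev (by rw [h.rot_val hC, e]))⟩
    · refine ⟨i, n, Or.inr (ev ?_)⟩
      rw [Subgroup.coe_mul, Units.val_mul, h.rot_val hC, e, Matrix.smul_mul]
  · intro i n g hn hg
    have h1 := congrArg (fun a : M => ((a : GL3 K) : M3)) hg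
    simp only [Subgroup.coe_mul, Units.val_mul] at h1
    have e := h.rot_val hC i n
    simp only [Subgroup.coe_mul, Units.val_mul] at e
    rw [e, Matrix.mul_smul, Matrix.smul_mul] at h1
    have h2' := (tB_fits_iff h2 _).1 (h.fits_of_rot hC hn (smul_right_injective M3 (pow_ne_zero i hω0) h1))
    exact ev (by rw [Subgroup.coe_mul, Subgroup.coe_mul, Units.val_mul, Units.val_mul, h.tM_val, h2'])
  · rw [Subgroup.coe_pow, Units.val_pow_eq_pow_val, h.xM_val, Xm_cube hω]
    rfl
  · have h1 := congrArg (fun a : M => ((a : GL3 K) : M3)) e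
    simp only [Subgroup.coe_pow, Units.val_pow_eq_pow_val, h.xM_val, h.zM_val, smul_pow, one_pow] at h1
    have h00 := congrFun (congrFun h1 0) 0
    have h11 := congrFun (congrFun h1 1) 1
    simp [Xm] at h00 h11
    exact om_ne_one hω h3 (h11.trans h00.symm)
  · intro g hg
    have h1 := congrArg (fun a : M => ((a : GL3 K) : M3)) hg
    simp only [Subgroup.coe_mul, Units.val_mul, h.xM_val] at h1
    obtain ⟨i, l, q, -, -, hq, e⟩ := InR.norm hω ((h.thin hC).cx _ g.2 h1)
    have hc := h.chr_pow l q i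
    rw [← e] at hc
    have h0 : Chr ω ((g : GL3 K) : M3) ((q : ZMod 3), ((2 * l : ℕ) : ZMod 3)) := hc
    have hω' : ω ^ ((q : ZMod 3)).val = 1 := by
      have h' := h0.1
      rw [h1] at h'
      have h'' := congrArg (fun A : M3 => A * (((h.xM * g)⁻¹ : M) : GL3 K)) h'
      simp only [Matrix.smul_mul] at h''
      rw [show Xm ω * ((g : GL3 K) : M3) = (((h.xM * g : M) : GL3 K) : M3) by
        rw [Subgroup.coe_mul, Units.val_mul, h.xM_val], ← Units.val_mul, ← Subgroup.coe_mul,
        mul_inv_cancel, Subgroup.coe_one, Units.val_one] at h''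
      have h00 := congrFun (congrFun h'' 0) 0
      simpa using h00.symm
    rw [ZMod.val_natCast, Nat.mod_eq_of_lt hq] at hω'
    obtain ⟨d, rfl⟩ := h.omega_pow_eq_one.1 hω'
    obtain rfl : d = 0 := by omega
    refine ⟨i, l, ev ?_⟩
    rw [e, Subgroup.coe_mul, Subgroup.coe_pow, Subgroup.coe_pow, Units.val_mul, Units.val_pow_eq_pow_val,
      Units.val_pow_eq_pow_val, h.zM_val, h.xM_val, mul_zero, pow_zero, Matrix.mul_one, smul_pow, one_pow,
      Matrix.smul_mul, Matrix.one_mul]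

/-- With two classes of involutions the group normalises. -/
theorem two_classes
    (ncls : ¬ ∃ m : M, m * h.tM * m⁻¹ = (⟨c, hC.mc⟩ : M) * ⟨j, hC.mj⟩) :
    M ≤ Subgroup.normalizer (Rsub K ω h.om : Set (GL3 K)) := by
  haveI : Finite (GL3 K) := finite_gl
  obtain ⟨N, hN, hodd, hmem⟩ := (h.ax hC).exists_core ncls
  have hω := h.om
  have e3 : ∀ {g : M} {A : M3}, ((g : GL3 K) : M3) = A → A ^ 3 = 1 → g ^ 3 = 1 := fun e e' =>
    Subtype.ext (Units.ext (by rw [Subgroup.coe_pow, Units.val_pow_eq_pow_val, e, e']; rfl))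
  refine h.of_core hN hodd (fun g e => ?_) (fun g e => ?_)
  · have h1 := hmem g (e3 e (Xm_cube hω))
    have e1 : h.tM * g = g * g * h.tM := Subtype.ext (Units.ext (by
      simp only [Subgroup.coe_mul, Units.val_mul, h.tM_val, e]
      rw [tm_X hω, pow_two]))
    rwa [e1, mul_inv_cancel_right, mul_inv_cancel_right] at h1
  · have h1 := hmem g (e3 e Ym_cube)
    have e1 : h.tM * g = g * g * h.tM := Subtype.ext (Units.ext (by
      simp only [Subgroup.coe_mul, Units.val_mul, h.tM_val, e]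
      rw [tm_Y, pow_two]))
    rwa [e1, mul_inv_cancel_right, mul_inv_cancel_right] at h1

end Setup

end CfsgLib.HessianMax
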