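import Cfsg.Agent.Lib.HessianMax.Gen

/-!
The standard Heisenberg group: irreducibility, transfer of the maximality to any group of the same type.
-/

set_option autoImplicit false
set_option linter.unusedSectionVars false

namespace CfsgLib.HessianMax

open Matrix

variable {F : Type*} [Field F] [Finite F] {ω : F}

local notation "MF" => Matrix (Fin 3) (Fin 3) F
local notation "V" => Fin 3 → F

theorem exists_unit_of_det {A : MF} (h : A.det = 1) : ∃ g : GL (Fin 3) F, (g : MF) = A :=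
  ⟨Matrix.GeneralLinearGroup.mkOfDetNeZero A (by rw [h]; exact one_ne_zero), rfl⟩

variable (hω : ω ^ 2 + ω + 1 = 0)
include hω

theorem exists_XY : (∃ g ∈ Rsub F ω hω, (g : MF) = Xm ω) ∧ (∃ g ∈ Rsub F ω hω, (g : MF) = Ym) := by
  obtain ⟨gX, eX⟩ := exists_unit_of_det (A := Xm ω) (by simp [Xm, det_fin_three]; linear_combination om3 hω)
  obtain ⟨gY, eY⟩ := exists_unit_of_det (A := (Ym : MF)) (by simp [Ym, det_fin_three])
  exact ⟨⟨gX, mem_Rsub.2 ⟨0, 1, 0, by simp [eX]⟩, eX⟩, ⟨gY, mem_Rsub.2 ⟨0, 0, 1, by simp [eY]⟩, eY⟩⟩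

variable (h3 : (3 : F) ≠ 0)
include h3

theorem irreducible_Rsub : Cfsg.Geo.ActsIrreducibly (Cfsg.Geo.matrixSet (Rsub F ω hω)) := by
  intro W hW
  obtain ⟨⟨gX, hX, eX⟩, gY, hY, eY⟩ := exists_XY hω
  have mX : ∀ v ∈ W, (Xm ω) *ᵥ v ∈ W := fun v hv =>
    hW _ ⟨gX, hX, rfl⟩ ⟨v, hv, by show Matrix.toLin' (gX : MF) v = _; rw [Matrix.toLin'_apply, eX]⟩
  have mY : ∀ v ∈ W, (Ym : MF) *ᵥ v ∈ W := fun v hv =>
    hW _ ⟨gY, hY, rfl⟩ ⟨v, hv, by show Matrix.toLin' (gY : MF) v = _; rw [Matrix.toLin'_apply, eY]⟩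
  by_cases hb : W = ⊥
  · exact Or.inl hb
  right
  obtain ⟨v, hv, hv0⟩ := Submodule.exists_mem_ne_zero_of_ne_bot hb
  obtain ⟨i, hi⟩ := Function.ne_iff.1 hv0
  have hXv := mX v hv
  have hXXv := mX _ hXv
  have w3 := om3 hω
  have hX : Xm ω = Matrix.diagonal ![1, ω, ω ^ 2] := by
    ext a b; fin_cases a <;> fin_cases b <;> simp [Xm, diagonal]
  -- one coordinate vector
  have hsum : ∀ a b : F, v + a • ((Xm ω) *ᵥ v) + b • ((Xm ω) *ᵥ ((Xm ω) *ᵥ v)) ∈ W := fun a b =>
    W.add_mem (W.add_mem hv (W.smul_mem _ hXv)) (W.smul_mem _ hXXv)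
  have he : (Pi.single i (3 * v i) : V) ∈ W := by
    fin_cases i
    · convert hsum 1 1 using 1
      funext j; fin_cases j <;> simp [hX, mulVec_diagonal]
      · ring
      · linear_combination (-v 1) * hω
      · linear_combination (-v 2) * hω - v 2 * ω * w3
    · convert hsum (ω ^ 2) ω using 1
      funext j; fin_cases j <;> simp [hX, mulVec_diagonal]
      · linear_combination (-v 0) * hω
      · linear_combination (-2 * v 1) * w3
      · linear_combination (-v 2) * hω - v 2 * ω * w3 - v 2 * ω ^ 2 * w3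
    · convert hsum ω (ω ^ 2) using 1
      funext j; fin_cases j <;> simp [hX, mulVec_diagonal]
      · linear_combination (-v 0) * hω
      · linear_combination (-v 1) * hω - v 1 * ω * w3
      · linear_combination (-v 2) * (2 + ω ^ 3) * w3
  have h1 : (Pi.single i 1 : V) ∈ W := by
    have := W.smul_mem (3 * v i)⁻¹ he
    rwa [← Pi.single_smul, smul_eq_mul, inv_mul_cancel₀ (mul_ne_zero h3 hi)] at this
  have hall : ∀ j, (Pi.single j 1 : V) ∈ W := by
    have step : ∀ j : Fin 3, (Pi.single j 1 : V) ∈ W → (Pi.single (j + 2) 1 : V) ∈ W := by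
      intro j hj
      convert mY _ hj using 1
      funext k; fin_cases j <;> fin_cases k <;> simp [Ym, Matrix.mulVec, dotProduct, Fin.sum_univ_three]
    intro j
    have key : ∀ a b : Fin 3, b = a ∨ b = a + 2 ∨ b = a + 2 + 2 := by decide
    have := key i j
    rcases this with rfl | rfl | rfl
    exacts [h1, step _ h1, step _ (step _ h1)]
  rw [eq_top_iff]
  intro x _
  rw [CfsgLib.RegGen.sum_coord x]
  exact W.sum_mem fun j _ => W.smul_mem _ (hall j)

omit h3

/-- A monomial obstruction to normalising. -/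
theorem not_normal {t : GL (Fin 3) F} {A : MF} (hA : (t : MF) * Xm ω = A * (t : MF)) (h22 : A 2 2 ≠ 0)
    (h01 : A 0 1 ≠ 0) : t ∉ Subgroup.normalizer (Rsub F ω hω : Set (GL (Fin 3) F)) := by
  intro ht
  obtain ⟨⟨gX, hX, eX⟩, -⟩ := exists_XY hω
  have h := (Subgroup.mem_normalizer_iff.1 ht gX).1 hX
  have e : ((t * gX * t⁻¹ : GL (Fin 3) F) : MF) = A := by
    rw [Units.val_mul, Units.val_mul, eX, hA, mul_assoc, Units.mul_inv, mul_one]
  have h' := mem_Rsub.1 h
  rw [e] at h'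
  exact h01 (InR.corner hω h' h22)

end CfsgLib.HessianMax
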