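import Cfsg.Agent.Lib.HessianMax.Ext
import Cfsg.Agent.Lib.HessianMax.StdGroup
import Cfsg.Agent.Lib.Classical.ThreeMax.Glue

/-!
The normaliser of a symplectic-type group of degree three is maximal in `SL₃(p)`, `p ≡ 1 (mod 3)`.
-/

set_option autoImplicit false
set_option linter.unusedSectionVars false

namespace CfsgLib.HessianMax

open Matrix Cfsg.Geo
open scoped MatrixGroups
open CfsgLib.Classical.MinIndex (mem_specialLinear)

variable {F : Type*} [Field F] [Fintype F]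

theorem not_five_dvd (h : Fintype.card F = 7) (M : Subgroup (GL (Fin 3) F)) : ¬ 5 ∣ Nat.card M := by
  intro h5
  have h1 := h5.trans (Subgroup.card_subgroup_dvd_card M)
  rw [Matrix.card_GL_field, Fin.prod_univ_three] at h1
  simp [h] at h1

theorem isMaximalIn_sl_std {p : ℕ} (hp : p.Prime) (hF : Fintype.card F = p) (h7 : 7 ≤ p) {ω : F}
    (hω : ω ^ 2 + ω + 1 = 0) :
    IsMaximalIn (specialLinear (Fin 3) F)
      (Subgroup.normalizer (Rsub F ω hω : Set (GL (Fin 3) F)) ⊓ specialLinear (Fin 3) F) := by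
  haveI : Fact p.Prime := ⟨hp⟩
  haveI : CharP F p := charP_of_card_eq_prime hF
  have h3 : (3 : F) ≠ 0 := fun e => by
    have := Nat.le_of_dvd (by norm_num) ((CharP.cast_eq_zero_iff F p 3).1 (by exact_mod_cast e))
    omega
  have hfix : ∀ c : F, c ^ p = c := fun c => hF ▸ FiniteField.pow_card c
  refine CfsgLib.Classical.ThreeMax.isMaximalIn_of_SL ?_ fun M hM => ?_
  · -- an element outside
    obtain ⟨s, hs⟩ : ∃ s : SpecialLinearGroup (Fin 3) F, (s : Matrix (Fin 3) (Fin 3) F) =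
        !![1, 1, 0; 0, 1, 0; 0, 0, 1] := ⟨⟨!![1, 1, 0; 0, 1, 0; 0, 0, 1], by simp [det_fin_three]⟩, rfl⟩
    refine ⟨s, not_normal hω (A := !![1, ω - 1, 0; 0, ω, 0; 0, 0, ω ^ 2]) ?_ ?_ ?_⟩
    · show (s : Matrix (Fin 3) (Fin 3) F) * _ = _ * (s : Matrix (Fin 3) (Fin 3) F)
      rw [hs]
      ext i j
      fin_cases i <;> fin_cases j <;> simp [Xm, Matrix.mul_apply, Fin.sum_univ_three]
    · simpa using pow_ne_zero 2 (om_ne_zero hω)
    · simpa [sub_eq_zero] using om_ne_one hω h3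
  -- elements of the group inside `M`
  have inM : ∀ g : GL (Fin 3) F, (g : Matrix (Fin 3) (Fin 3) F).det = 1 →
      g ∈ Subgroup.normalizer (Rsub F ω hω : Set (GL (Fin 3) F)) → ∃ s ∈ M, (s : GL (Fin 3) F) = g := by
    intro g hd hg
    obtain ⟨s, rfl⟩ : ∃ s : SpecialLinearGroup (Fin 3) F, (s : GL (Fin 3) F) = g :=
      ⟨⟨(g : Matrix (Fin 3) (Fin 3) F), hd⟩, Units.ext rfl⟩
    exact ⟨s, hM s hg, rfl⟩
  by_cases htv : ∃ t ∈ M, IsTv ((t : SpecialLinearGroup (Fin 3) F) : Matrix (Fin 3) (Fin 3) F)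
  · left
    obtain ⟨t, ht, h⟩ := htv
    refine top_of_tv (irreducible_Rsub hω h3) (fun r hr => ?_) (fun c => exists_natCast (hfix c)) ht h
    obtain ⟨s, hs, e⟩ := inM r (det_of_mem hω hr) (Subgroup.le_normalizer hr)
    exact ⟨s, hs, by rw [← e]; rfl⟩
  right
  push Not at htv
  let G : Subgroup (GL (Fin 3) F) := M.map SpecialLinearGroup.toGL
  have hG : ∀ g ∈ G, ∃ s ∈ M, (s : GL (Fin 3) F) = g := fun g hg => hg
  have hdet : ∀ g ∈ G, (g : Matrix (Fin 3) (Fin 3) F).det = 1 := by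
    intro g hg
    obtain ⟨s, -, rfl⟩ := hG g hg
    exact s.2
  have hnotv : NoTv G := by
    intro g hg
    obtain ⟨s, hs, rfl⟩ := hG g hg
    exact htv s hs
  have mk : ∀ (A : Matrix (Fin 3) (Fin 3) F), A.det = 1 →
      (∀ g : GL (Fin 3) F, (g : Matrix (Fin 3) (Fin 3) F) = A →
        g ∈ Subgroup.normalizer (Rsub F ω hω : Set (GL (Fin 3) F))) →
      ∃ g ∈ G, (g : Matrix (Fin 3) (Fin 3) F) = A := by
    intro A hA hN
    obtain ⟨g, e⟩ := exists_unit_of_det hA
    obtain ⟨s, hs, rfl⟩ := inM g (e ▸ hA) (hN g e)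
    exact ⟨_, ⟨s, hs, rfl⟩, e⟩
  obtain ⟨⟨gX, hX, eX⟩, gY, hY, eY⟩ := exists_XY hω
  have key := le_normalizer_of_notv h7 hω hdet hnotv
    (nopp_of (by omega) hnotv fun _ _ _ _ _ b _ _ _ _ _ => hfix b)
    (mk _ (eX ▸ det_of_mem hω hX) fun g e => Subgroup.le_normalizer (by rwa [Units.ext (e.trans eX.symm)]))
    (mk _ (eY ▸ det_of_mem hω hY) fun g e => Subgroup.le_normalizer (by rwa [Units.ext (e.trans eY.symm)]))
    (mk _ (gm_det hω h3) fun g e => gm_mem hω h3 e) (mk _ (hgm_det hω h3) fun g e => hgm_mem hω h3 e)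
    (fun e => not_five_dvd (hF.trans e) G)
  exact fun s hs => key ⟨s, hs, rfl⟩

/-- The normaliser of a symplectic-type group is maximal in `SL₃(p)`. -/
theorem isMaximalIn_sl :
    ∀ (p : ℕ) (R : Subgroup (Matrix.GeneralLinearGroup (Fin 3) F)), p.Prime → Fintype.card F = p → p % 3 = 1 →
      Cfsg.Geo.IsLinearSymplecticTypeData 3 R →
      Cfsg.Geo.IsMaximalIn (Cfsg.Geo.specialLinear (Fin 3) F)
        (Cfsg.Geo.subgroupNormalizer R ⊓ Cfsg.Geo.specialLinear (Fin 3) F) := by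
  intro p R hp hF h31 hd
  have h7 : 7 ≤ p := by
    by_contra h
    have h4 : p ≠ 4 := fun e => by subst e; norm_num at hp
    have := hp.two_le
    omega
  haveI : Fact p.Prime := ⟨hp⟩
  haveI : CharP F p := charP_of_card_eq_prime hF
  have h3 : (3 : F) ≠ 0 := fun e => by
    have := Nat.le_of_dvd (by norm_num) ((CharP.cast_eq_zero_iff F p 3).1 (by exact_mod_cast e))
    omega
  have hZ : Nat.card (Subgroup.center R) = 3 := by
    obtain ⟨_, _, _, _, h | h | h⟩ := hd.field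
    · exact h.2.2.1
    · exact absurd h.1 (by norm_num)
    · exact absurd h.1 (by norm_num)
  obtain ⟨ω, hω, P, hP⟩ := exists_std h3 hd.symplecticType hd.absIrred hZ
  have hN : (specialLinear (Fin 3) F).Normal := MonoidHom.normal_ker _
  have hR : R = (Rsub F ω hω).map (MulAut.conj P).toMonoidHom := by
    ext g
    rw [hP, Subgroup.mem_map_equiv]
    simp [MulAut.conj_symm_apply]
  rw [subgroupNormalizer, hR, ← Subgroup.map_equiv_normalizer_eq]
  refine isMaximalIn_map _ ?_ (isMaximalIn_sl_std hp hF h7 hω)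
  ext g
  rw [Subgroup.mem_map_equiv]
  simp only [MulAut.conj_symm_apply]
  exact ⟨fun h => by simpa [mul_assoc] using hN.conj_mem _ h P, fun h => by simpa [mul_assoc] using hN.conj_mem _ h P⁻¹⟩

end CfsgLib.HessianMax
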