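import Cfsg.Agent.Lib.HessianMax.SUTop
import Cfsg.Agent.Lib.HessianMax.StdGroup

/-!
The normaliser of a symplectic-type group of degree three is maximal in `SU₃(p)`, `p ≡ 2 (mod 3)`, `p ≥ 11`.
-/

set_option autoImplicit false
set_option linter.unusedSectionVars false

namespace CfsgLib.HessianMax

open Matrix Cfsg
open CfsgLib.ClassicalAut (Unitary.Conj Unitary.herm_apply Unitary.exists_conj)
open CfsgLib.Classical CfsgLib.Classical.Herm
open scoped MatrixGroups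

variable {F : Type*} [Field F] [Finite F]

local notation "MF" => Matrix (Fin 3) (Fin 3) F
local notation "V" => Fin 3 → F
local notation "G[" q "]" => (GU 3 F q ⊓ Cfsg.Geo.specialLinear (Fin 3) F)

theorem mem_G {q : ℕ} {g : GL (Fin 3) F} :
    g ∈ G[q] ↔ (∀ x y, hermForm 3 F q ((g : MF) *ᵥ x) ((g : MF) *ᵥ y) = hermForm 3 F q x y) ∧ (g : MF).det = 1 :=
  ⟨fun h => ⟨h.1, congrArg Units.val (MonoidHom.mem_ker.1 h.2)⟩,
    fun h => ⟨h.1, MonoidHom.mem_ker.2 (Units.ext h.2)⟩⟩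

section std

variable {p : ℕ} [hp : Fact p.Prime] [CharP F p] (K : Unitary.Conj F p) {ω : F} (hω : ω ^ 2 + ω + 1 = 0)
  (h32 : p % 3 = 2) (h11 : 11 ≤ p)
include K hω h32 h11

omit [Finite F] in
theorem three_ne : (3 : F) ≠ 0 := fun e => by
  have := Nat.le_of_dvd (by norm_num) ((CharP.cast_eq_zero_iff F p 3).1 (by exact_mod_cast e))
  omega

theorem bar_om : K.bar ω = ω ^ 2 := by
  rw [K.bar_apply]
  conv_lhs => rw [← Nat.div_add_mod p 3, h32, pow_add, pow_mul, om3 hω, one_pow, one_mul]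

theorem unitary_of {A : MF} (h : Aᵀ * A.map K.bar = 1) (x y : V) :
    hermForm 3 F p (A *ᵥ x) (A *ᵥ y) = hermForm 3 F p x y := by
  have e : ∀ a b : V, hermForm 3 F p a b = a ⬝ᵥ fun i => K.bar (b i) := fun a b => Unitary.herm_apply K a b
  have hb : (fun i => K.bar ((A *ᵥ y) i)) = A.map K.bar *ᵥ fun i => K.bar (y i) := by
    funext i
    simp [Matrix.mulVec, dotProduct]
  rw [e, e, hb, dotProduct_comm, dotProduct_mulVec, ← mulVec_transpose, mulVec_mulVec, h, one_mulVec, dotProduct_comm]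

theorem std_unitary : (∀ x y, hermForm 3 F p (Xm ω *ᵥ x) (Xm ω *ᵥ y) = hermForm 3 F p x y) ∧
    (∀ x y, hermForm 3 F p ((Ym : MF) *ᵥ x) ((Ym : MF) *ᵥ y) = hermForm 3 F p x y) ∧
    (∀ x y, hermForm 3 F p (gm ω *ᵥ x) (gm ω *ᵥ y) = hermForm 3 F p x y) ∧
    (∀ x y, hermForm 3 F p (hgm ω *ᵥ x) (hgm ω *ᵥ y) = hermForm 3 F p x y) := by
  have hb := bar_om K hω h32 h11
  have h3 := three_ne (F := F) K hω h32 h11
  have hd := delta_ne hω h3
  have w3 := om3 hω
  have hd' : ω ^ 2 - ω ^ (2 * 2) ≠ 0 := by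
    rw [show 2 * 2 = 3 + 1 by rfl, pow_add, w3, one_mul, pow_one]
    exact fun e => hd (by linear_combination -e)
  refine ⟨unitary_of K hω h32 h11 ?_, unitary_of K hω h32 h11 ?_, unitary_of K hω h32 h11 ?_,
    unitary_of K hω h32 h11 ?_⟩
  all_goals ext i j
  all_goals fin_cases i <;> fin_cases j <;>
    simp [Xm, Ym, gm, hgm, hb, Matrix.mul_apply, Fin.sum_univ_three, ← pow_mul] <;>
    (try field_simp) <;> grind

theorem det_std : (Xm ω).det = 1 ∧ ((Ym : MF)).det = 1 := by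
  refine ⟨?_, by simp [Ym, det_fin_three]⟩
  simp [Xm, det_fin_three]; linear_combination om3 hω

theorem rsub_le : Rsub F ω hω ≤ G[p] := by
  obtain ⟨uX, uY, -, -⟩ := std_unitary K hω h32 h11
  obtain ⟨⟨gX, -, eX⟩, gY, -, eY⟩ := exists_XY hω
  obtain ⟨dX, dY⟩ := det_std K hω h32 h11
  have mX : gX ∈ G[p] := mem_G.2 ⟨by rw [eX]; exact uX, eX ▸ dX⟩
  have mY : gY ∈ G[p] := mem_G.2 ⟨by rw [eY]; exact uY, eY ▸ dY⟩
  have w3 := om3 hω
  have hb := bar_om K hω h32 h11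
  intro g hg
  obtain ⟨i, j, k, e⟩ := mem_Rsub.1 hg
  obtain ⟨h1, h2⟩ := mem_G.1 (mul_mem (pow_mem mX j) (pow_mem mY k))
  rw [Units.val_mul, Units.val_pow_eq_pow_val, Units.val_pow_eq_pow_val, eX, eY] at h1 h2
  refine mem_G.2 ⟨fun x y => ?_, det_of_mem hω hg⟩
  rw [e, smul_mulVec, smul_mulVec, h_smul_left K, h_smul_right K, h1, ← mul_assoc, map_pow, hb, ← mul_pow,
    ← pow_succ', w3, one_pow, one_mul]

theorem isMaximalIn_su_std :
    Cfsg.Geo.IsMaximalIn G[p] (Subgroup.normalizer (Rsub F ω hω : Set (GL (Fin 3) F)) ⊓ G[p]) := by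
  have h3 := three_ne (F := F) K hω h32 h11
  obtain ⟨uX, uY, ug, uh⟩ := std_unitary K hω h32 h11
  obtain ⟨dX, dY⟩ := det_std K hω h32 h11
  refine ⟨lt_of_le_not_ge inf_le_right fun hle => ?_, fun M hM hM' => ?_⟩
  · -- an element outside
    obtain ⟨a, ha⟩ := K.exists_norm (-1) (by rw [map_neg, map_one])
    obtain ⟨y, hy⟩ := K.exists_moved
    obtain ⟨θ, hθd⟩ : ∃ θ, θ = y - K.bar y := ⟨_, rfl⟩
    have hθ0 : θ ≠ 0 := hθd ▸ sub_ne_zero.2 (Ne.symm hy)
    have hθ : K.bar θ = -θ := by rw [hθd, map_sub, K.bar_bar]; ring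
    have h2 : (2 : F) ≠ 0 := fun e => by
      have := Nat.le_of_dvd (by norm_num) ((CharP.cast_eq_zero_iff F p 2).1 (by exact_mod_cast e))
      omega
    have hθ1 : 1 + θ ≠ 0 := fun e => h2 (by
      have : θ = -1 := by linear_combination e
      rw [this, map_neg, map_one] at hθ
      linear_combination -hθ)
    have ha0 : K.bar a ≠ 0 := fun e => by rw [e, mul_zero] at ha; exact one_ne_zero (neg_eq_zero.1 ha.symm)
    obtain ⟨t, ht⟩ := exists_unit_of_det (A := !![1 + θ, θ * K.bar a, 0; θ * a, 1 - θ, 0; 0, 0, 1]) (by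
      simp [det_fin_three]
      linear_combination (-θ ^ 2) * ha)
    have htG : t ∈ G[p] := by
      refine mem_G.2 ⟨?_, ?_⟩
      · rw [ht]
        refine unitary_of K hω h32 h11 ?_
        ext i j
        fin_cases i <;> fin_cases j <;> simp [Matrix.mul_apply, Fin.sum_univ_three, hθ, K.bar_bar] <;> grind
      · rw [ht]; simp [det_fin_three]; linear_combination (-θ ^ 2) * ha
    refine not_normal hω (t := t)
      (A := !![1 - θ ^ 2 + ω * θ ^ 2, θ * K.bar a * (1 + θ) * (ω - 1), 0;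
               θ * a * (1 - θ) * (1 - ω), θ ^ 2 + ω * (1 - θ ^ 2), 0; 0, 0, ω ^ 2]) ?_ ?_ ?_ (hle htG).1
    · rw [ht]
      ext i j
      fin_cases i <;> fin_cases j <;> simp [Xm, Matrix.mul_apply, Fin.sum_univ_three] <;> grind
    · simpa using pow_ne_zero 2 (om_ne_zero hω)
    · simpa [sub_eq_zero, ha0, hθ0, hθ1] using om_ne_one hω h3
  have hN : ∀ g, g ∈ G[p] → g ∈ Subgroup.normalizer (Rsub F ω hω : Set (GL (Fin 3) F)) → g ∈ M :=
    fun g h1 h2 => hM ⟨h2, h1⟩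
  have hRM : Rsub F ω hω ≤ M := fun g hg => hN g (rsub_le K hω h32 h11 hg) (Subgroup.le_normalizer hg)
  by_cases htv : ∃ t ∈ M, IsTv ((t : GL (Fin 3) F) : MF)
  · obtain ⟨t, ht, h⟩ := htv
    exact Or.inr (le_antisymm hM' (top_of_tv_su K (irreducible_Rsub hω h3) hRM hM' (p := p) rfl (by omega) ht h))
  push Not at htv
  have mk : ∀ A : MF, A.det = 1 → (∀ x y, hermForm 3 F p (A *ᵥ x) (A *ᵥ y) = hermForm 3 F p x y) →
      (∀ g : GL (Fin 3) F, (g : MF) = A → g ∈ Subgroup.normalizer (Rsub F ω hω : Set (GL (Fin 3) F))) →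
      ∃ g ∈ M, (g : MF) = A := by
    intro A hA hu hn
    obtain ⟨g, e⟩ := exists_unit_of_det hA
    exact ⟨g, hN g (mem_G.2 ⟨e ▸ hu, e ▸ hA⟩) (hn g e), e⟩
  obtain ⟨⟨gX, hX, eX⟩, gY, hY, eY⟩ := exists_XY hω
  refine Or.inl (le_antisymm (fun g hg => ⟨?_, hM' hg⟩) hM)
  refine le_normalizer_of_notv (p := p) (by omega) hω (fun g hg => (mem_G.1 (hM' hg)).2) htv
    (nopp_of (by omega) htv fun g hg g' hg' n b c ge h30 h2 he => ?_)
    (mk _ dX uX fun g e => Subgroup.le_normalizer (by rwa [Units.ext (e.trans eX.symm)]))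
    (mk _ dY uY fun g e => Subgroup.le_normalizer (by rwa [Units.ext (e.trans eY.symm)]))
    (mk _ (gm_det hω h3) ug fun g e => gm_mem hω h3 e) (mk _ (hgm_det hω h3) uh fun g e => hgm_mem hω h3 e)
    (fun e => absurd e (by omega)) hg
  rw [← K.bar_apply]
  exact real_coeff K hM' hg hg' ge h30 h2 he

/-- A conjugate of the Heisenberg group inside the similarities preserves the form up to a scalar. -/
theorem conj_mem_iff (P : GL (Fin 3) F) (hR : ∀ g ∈ Rsub F ω hω, P * g * P⁻¹ ∈ GU 3 F p) (g : GL (Fin 3) F) :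
    P * g * P⁻¹ ∈ G[p] ↔ g ∈ G[p] := by
  have h3 := three_ne (F := F) K hω h32 h11
  have hω1 := om_ne_one hω h3
  have w3 := om3 hω
  obtain ⟨⟨gX, hX, eX⟩, gY, hY, eY⟩ := exists_XY hω
  let f : V → V → F := fun x y => hermForm 3 F p ((P : MF) *ᵥ x) ((P : MF) *ᵥ y)
  have inv : ∀ r : GL (Fin 3) F, P * r * P⁻¹ ∈ GU 3 F p → ∀ x y, f ((r : MF) *ᵥ x) ((r : MF) *ᵥ y) = f x y := by
    intro r hr x y
    have e : ∀ z, ((P * r * P⁻¹ : GL (Fin 3) F) : MF) *ᵥ ((P : MF) *ᵥ z) = (P : MF) *ᵥ ((r : MF) *ᵥ z) := fun z => by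
      rw [mulVec_mulVec, mulVec_mulVec, ← Units.val_mul, inv_mul_cancel_right, Units.val_mul]
    show hermForm 3 F p _ _ = _
    rw [← e, ← e]
    exact hr _ _
  have fX := inv gX (hR _ hX)
  have fY := inv gY (hR _ hY)
  rw [eX] at fX
  rw [eY] at fY
  have hXe : ∀ i : Fin 3, Xm ω *ᵥ (Pi.single i 1 : V) = ω ^ (i : ℕ) • (Pi.single i 1 : V) := by
    intro i; funext j
    fin_cases i <;> fin_cases j <;> simp [Xm, mulVec_single_one]
  have hYe : ∀ i : Fin 3, (Ym : MF) *ᵥ (Pi.single i 1 : V) = (Pi.single (i + 2) 1 : V) := by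
    intro i; funext j
    fin_cases i <;> fin_cases j <;> simp [Ym, mulVec_single_one]
  have off : ∀ i j : Fin 3, i ≠ j → f (Pi.single i 1) (Pi.single j 1) = 0 := by
    intro i j hij
    have h := fX (Pi.single i 1) (Pi.single j 1)
    simp only [f, hXe, mulVec_smul, h_smul_left K, h_smul_right K, map_pow, bar_om K hω h32 h11] at h
    rw [← mul_assoc, ← pow_mul, ← pow_add] at h
    show hermForm 3 F p _ _ = 0
    by_contra h0
    have h1 := (mul_eq_right₀ h0).1 h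
    have w2 : ω ^ 2 ≠ 1 := fun e => hω1 (by linear_combination w3 - ω * e)
    rw [pow_eq_pow_mod _ w3] at h1
    fin_cases i <;> fin_cases j <;> simp at hij h1 <;>
      first
        | exact hω1 h1
        | exact w2 h1
        | exact h1.elim hω1 fun e => w2 (by rw [e]; ring)
  obtain ⟨κ, hκ⟩ : ∃ κ, κ = f (Pi.single 0 1) (Pi.single 0 1) := ⟨_, rfl⟩
  have diag : ∀ i : Fin 3, f (Pi.single i 1) (Pi.single i 1) = κ := by
    have s : ∀ i : Fin 3, f (Pi.single (i + 2) 1) (Pi.single (i + 2) 1) = f (Pi.single i 1) (Pi.single i 1) := fun i => by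
      have h := fY (Pi.single i 1) (Pi.single i 1)
      rwa [hYe] at h
    intro i
    fin_cases i
    · exact hκ.symm
    · exact ((s 1).symm.trans hκ.symm)
    · exact ((s 0).trans hκ.symm)
  have hf : ∀ x y, f x y = κ * hermForm 3 F p x y := by
    intro x y
    have ex : ∀ z : V, (P : MF) *ᵥ z = z 0 • ((P : MF) *ᵥ Pi.single 0 1) + z 1 • ((P : MF) *ᵥ Pi.single 1 1) +
        z 2 • ((P : MF) *ᵥ Pi.single 2 1) := fun z => by
      rw [← mulVec_smul, ← mulVec_smul, ← mulVec_smul, ← mulVec_add, ← mulVec_add]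
      congr 1; funext i; fin_cases i <;> simp
    have o : ∀ i j, i ≠ j → hermForm 3 F p ((P : MF) *ᵥ Pi.single i 1) ((P : MF) *ᵥ Pi.single j 1) = 0 := off
    have d : ∀ i, hermForm 3 F p ((P : MF) *ᵥ Pi.single i 1) ((P : MF) *ᵥ Pi.single i 1) = κ := diag
    show hermForm 3 F p _ _ = _
    rw [ex x, ex y]
    simp only [h_add_left K, h_add_right K, h_smul_left K, h_smul_right K, d, o _ _ (show (0 : Fin 3) ≠ 1 by decide),
      o _ _ (show (0 : Fin 3) ≠ 2 by decide), o _ _ (show (1 : Fin 3) ≠ 0 by decide),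
      o _ _ (show (1 : Fin 3) ≠ 2 by decide), o _ _ (show (2 : Fin 3) ≠ 0 by decide),
      o _ _ (show (2 : Fin 3) ≠ 1 by decide), Unitary.herm_apply K, Fin.sum_univ_three]
    ring
  have hκ0 : κ ≠ 0 := by
    intro e
    have h0 : (P : MF) *ᵥ (Pi.single 0 1 : V) = 0 := h_nondeg K fun y => by
      obtain ⟨y', rfl⟩ : ∃ y', y = (P : MF) *ᵥ y' :=
        ⟨(↑P⁻¹ : MF) *ᵥ y, by rw [mulVec_mulVec, Units.mul_inv, one_mulVec]⟩
      have := hf (Pi.single 0 1) y'
      rwa [e, zero_mul] at this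
    have := congrArg (fun v => (↑P⁻¹ : MF) *ᵥ v) h0
    simp only [mulVec_mulVec, Units.inv_mul, one_mulVec, mulVec_zero] at this
    simpa using congrFun this 0
  rw [mem_G, mem_G]
  have e : ∀ z, ((P * g * P⁻¹ : GL (Fin 3) F) : MF) *ᵥ ((P : MF) *ᵥ z) = (P : MF) *ᵥ ((g : MF) *ᵥ z) := fun z => by
    rw [mulVec_mulVec, mulVec_mulVec, ← Units.val_mul, inv_mul_cancel_right, Units.val_mul]
  have edet : ((P * g * P⁻¹ : GL (Fin 3) F) : MF).det = (g : MF).det := by
    rw [Units.val_mul, Units.val_mul, det_mul, det_mul, mul_right_comm, ← det_mul, Units.mul_inv, det_one, one_mul]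
  rw [edet]
  refine and_congr_left fun _ => ⟨fun h x y => ?_, fun h x y => ?_⟩
  · refine mul_left_cancel₀ hκ0 ?_
    rw [← hf, ← hf]
    show hermForm 3 F p _ _ = _
    rw [← e, ← e]
    exact h _ _
  · obtain ⟨x', rfl⟩ : ∃ x', x = (P : MF) *ᵥ x' :=
      ⟨(↑P⁻¹ : MF) *ᵥ x, by rw [mulVec_mulVec, Units.mul_inv, one_mulVec]⟩
    obtain ⟨y', rfl⟩ : ∃ y', y = (P : MF) *ᵥ y' :=
      ⟨(↑P⁻¹ : MF) *ᵥ y, by rw [mulVec_mulVec, Units.mul_inv, one_mulVec]⟩
    rw [e, e]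
    show f _ _ = f _ _
    rw [hf, hf, h]

end std

/-- The normaliser of a symplectic-type group is maximal in `SU₃(p)`. -/
theorem isMaximalIn_su {F : Type*} [Field F] [Fintype F] (q : ℕ) (hF : Fintype.card F = q ^ 2) :
    ∀ (p : ℕ) (R : Subgroup (Matrix.GeneralLinearGroup (Fin 3) F)), p.Prime → q = p → p % 3 = 2 → 11 ≤ p →
      Cfsg.Geo.IsSymplecticTypeGroup 3 R → Cfsg.Geo.ActsAbsolutelyIrreducibly (Cfsg.Geo.matrixSet R) →
      R ≤ Cfsg.Geo.similarityGroup (Cfsg.hermForm 3 F q) → Nat.card R = 27 → Nat.card (Subgroup.center R) = 3 →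
      Cfsg.Geo.IsMaximalIn (Cfsg.GU 3 F q ⊓ Cfsg.Geo.specialLinear (Fin 3) F)
        (Cfsg.Geo.subgroupNormalizer R ⊓ (Cfsg.GU 3 F q ⊓ Cfsg.Geo.specialLinear (Fin 3) F)) := by
  intro p R hp hq h32 h11 hS hI hsim _ hZ
  subst hq
  haveI : Fact q.Prime := ⟨hp⟩
  haveI : CharP F q := charP_of_card_eq_prime_pow hF
  obtain ⟨K⟩ := Unitary.exists_conj (p := q) (f := 1) (F := F) (pow_one q).symm (by rw [Nat.card_eq_fintype_card, hF])
  have h3 : (3 : F) ≠ 0 := fun e => by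
    have := Nat.le_of_dvd (by norm_num) ((CharP.cast_eq_zero_iff F q 3).1 (by exact_mod_cast e))
    omega
  obtain ⟨ω, hω, P, hP⟩ := exists_std h3 hS hI hZ
  -- the multipliers are trivial
  have hGU : ∀ g ∈ R, g ∈ GU 3 F q := by
    intro g hg
    obtain ⟨c, hc⟩ := hsim hg
    have h1 : hermForm 3 F q (Pi.single 0 1) (Pi.single 0 1) = 1 := by
      simp [Unitary.herm_apply K, Fin.sum_univ_three]
    have hreal : K.bar (c : F) = c := by
      have h := bar_self K (((g : Matrix (Fin 3) (Fin 3) F)) *ᵥ Pi.single 0 1)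
      rwa [hc, h1, mul_one] at h
    have h3c : (c : F) ^ 3 = 1 := by
      have e : ∀ u v, hermForm 3 F q (((g ^ 3 : GL (Fin 3) F) : Matrix (Fin 3) (Fin 3) F) *ᵥ u)
          (((g ^ 3 : GL (Fin 3) F) : Matrix (Fin 3) (Fin 3) F) *ᵥ v) = (c : F) ^ 3 * hermForm 3 F q u v := by
        intro u v
        simp only [pow_succ, pow_zero, one_mul, Units.val_mul, ← mulVec_mulVec, hc]
        ring
      have := e (Pi.single 0 1) (Pi.single 0 1)
      rw [isSymplecticTypeGroup_cube hS hg, Units.val_one, one_mulVec, h1, mul_one] at this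
      exact this.symm
    have hc1 : (c : F) = 1 := by
      have h := hreal
      rw [K.bar_apply, ← Nat.div_add_mod q 3, h32, pow_add, pow_mul, h3c, one_pow, one_mul] at h
      exact mul_left_cancel₀ c.ne_zero (by rw [← pow_two, mul_one]; exact h)
    intro u v
    show hermForm 3 F q _ _ = _
    rw [Units.coeHom_apply, hc, hc1, one_mul]
  have hR : R = (Rsub F ω hω).map (MulAut.conj P).toMonoidHom := by
    ext g
    rw [hP, Subgroup.mem_map_equiv]
    simp [MulAut.conj_symm_apply]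
  have hPR : ∀ g ∈ Rsub F ω hω, P * g * P⁻¹ ∈ GU 3 F q := fun g hg => hGU _ (by rw [hP]; simpa [mul_assoc] using hg)
  rw [Cfsg.Geo.subgroupNormalizer, hR, ← Subgroup.map_equiv_normalizer_eq]
  refine isMaximalIn_map _ ?_ (isMaximalIn_su_std K hω h32 h11)
  ext g
  rw [Subgroup.mem_map_equiv, MulAut.conj_symm_apply, ← conj_mem_iff K hω h32 h11 P hPR (P⁻¹ * g * P)]
  simp [mul_assoc]

end CfsgLib.HessianMax
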