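import Cfsg.Agent.Lib.HessianMax.Gen
import Cfsg.Agent.Lib.HessianMax.Ext
import Cfsg.Agent.Lib.Classical.ThreeMax.SUFrame
import Cfsg.Agent.Lib.Classical.ThreeMax.SULine

/-!
In `SU₃(p)` a transvection and an irreducible group generate; the middle coefficient of commuting unipotents is real.
-/

set_option autoImplicit false
set_option linter.unusedSectionVars false

namespace CfsgLib.HessianMax

open Matrix Cfsg
open CfsgLib.ClassicalAut (Unitary.Conj Unitary.herm_apply)
open CfsgLib.Classical CfsgLib.Classical.Herm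
open CfsgLib.Classical.ThreeMax (u u_coe w w_coe w_mul_w ptStab mem_ptStab u_mem_ptStab u_inv)
open CfsgLib.Classical.ThreeMax.SUThree
open CfsgLib.Classical.ThreeMax.HermSL (hj)
open scoped MatrixGroups

variable {F : Type*} [Field F] [Finite F] {q : ℕ}

local notation "S" => SpecialLinearGroup (Fin 3) F
local notation "H" => hermForm 3 F q
local notation "V" => Fin 3 → F
local notation "MF" => Matrix (Fin 3) (Fin 3) F

variable (K : Unitary.Conj F q)
include K

/-- A unitary transvection. -/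
theorem tv_form {t : GL (Fin 3) F} (ht : t ∈ GU 3 F q) (h : IsTv (t : MF)) :
    ∃ (x : V) (d : F), x ≠ 0 ∧ H x x = 0 ∧ d ≠ 0 ∧ d + K.bar d = 0 ∧
      ∀ y, (t : MF) *ᵥ y = y + (d * H y x) • x := by
  obtain ⟨x, f, hx, hf, hfx, hN⟩ := exists_vec (sub_ne_zero.2 h.1) h.2
  have ty : ∀ y, (t : MF) *ᵥ y = y + (f ⬝ᵥ y) • x := fun y => by
    rw [show (t : MF) = 1 + vecMulVec x f by rw [← hN]; abel, add_mulVec, one_mulVec, vecMulVec_mulVec]
    congr 1
    funext i
    simp [mul_comm]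
  have key : ∀ y z, K.bar (f ⬝ᵥ z) * H y x + (f ⬝ᵥ y) * H x z + (f ⬝ᵥ y) * K.bar (f ⬝ᵥ z) * H x x = 0 := by
    intro y z
    have e : H ((t : MF) *ᵥ y) ((t : MF) *ᵥ z) = H y z := ht y z
    rw [ty, ty] at e
    simp only [h_add_left K, h_add_right K, h_smul_left K, h_smul_right K] at e
    linear_combination e
  obtain ⟨z₀, hz₀⟩ : ∃ z, f ⬝ᵥ z ≠ 0 := by
    obtain ⟨i, hi⟩ := Function.ne_iff.1 hf
    exact ⟨Pi.single i 1, by simpa using hi⟩
  have hxx : H x x = 0 := by
    have := key x z₀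
    rw [hfx] at this
    simpa [hz₀] using this
  obtain ⟨y₀, hy₀⟩ : ∃ y, H x y = 1 := by
    obtain ⟨y, hy⟩ : ∃ y, H x y ≠ 0 := by
      by_contra hc
      push Not at hc
      exact hx (h_nondeg K hc)
    refine ⟨(K.bar (H x y))⁻¹ • y, ?_⟩
    rw [h_smul_right K, map_inv₀, K.bar_bar, inv_mul_cancel₀ hy]
  obtain ⟨d, hd⟩ : ∃ d, d = -K.bar (f ⬝ᵥ y₀) := ⟨_, rfl⟩
  have hfy : ∀ y, f ⬝ᵥ y = d * H y x := fun y => by
    have := key y y₀
    rw [hxx, hy₀] at this
    rw [hd]
    linear_combination this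
  refine ⟨x, d, hx, hxx, fun e => hz₀ (by rw [hfy, e, zero_mul]), ?_, fun y => by rw [ty, hfy]⟩
  have h1 : H y₀ x = 1 := by rw [h_swap K x y₀, hy₀, map_one]
  have := key y₀ y₀
  rw [hxx, h1, hy₀, hfy, h1] at this
  simp only [mul_one, mul_zero, add_zero] at this
  linear_combination this

variable {R M : Subgroup (GL (Fin 3) F)} (hI : Cfsg.Geo.ActsIrreducibly (Cfsg.Geo.matrixSet R)) (hRM : R ≤ M)
  (hM : M ≤ GU 3 F q ⊓ Cfsg.Geo.specialLinear (Fin 3) F)
include hI hRM hM

/-- Over a prime field a unitary transvection and an irreducible group give everything. -/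
theorem top_of_tv_su {p : ℕ} [Fact p.Prime] [CharP F p] (hq : q = p) (hq3 : 3 ≤ q) {t : GL (Fin 3) F} (ht : t ∈ M)
    (htv : IsTv (t : MF)) : GU 3 F q ⊓ Cfsg.Geo.specialLinear (Fin 3) F ≤ M := by
  obtain ⟨x, d, hx, hxx, hd0, hd, hty⟩ := tv_form K (hM ht).1 htv
  obtain ⟨P, hP, hPx⟩ := frame_iso K hx hxx
  -- a second point, put in the last coordinate
  have hW1 : (F ∙ x) ≠ ⊤ := fun e => by
    have := congrArg (fun W : Submodule F V => Module.finrank F W) e
    rw [finrank_span_singleton hx, finrank_top, Module.finrank_fin_fun] at this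
    omega
  obtain ⟨r, hr, hrx⟩ := exists_move hI hx hW1
  obtain ⟨s, hs, hsr⟩ := (range_tr K hP r).1 (hM (hRM hr))
  have hsA : s ∉ ptStab := by
    intro hA
    obtain ⟨h10, h20⟩ := mem_ptStab.1 hA
    refine hrx (Submodule.mem_span_singleton.2 ⟨(s : MF) 0 0, ?_⟩)
    rw [← hsr, ← hPx, tr_mulVec, ← mulVec_smul]
    congr 1
    funext i
    fin_cases i <;> simp [Matrix.mulVec, dotProduct, Fin.sum_univ_three, h10, h20]
  obtain ⟨-, a, c, hac, e0, e1⟩ := exists_u_col K hs hsA
  set v : S := u a (-K.bar a) c with hv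
  set Q : GL (Fin 3) F := P * SpecialLinearGroup.toGL v with hQdef
  have hQe : ∀ y : V, (Q : MF) *ᵥ y = (P : MF) *ᵥ ((v : MF) *ᵥ y) := fun y => by
    rw [mulVec_mulVec]; rfl
  have hQ : ∀ y z : V, H ((Q : MF) *ᵥ y) ((Q : MF) *ᵥ z) = hj K y z := fun y z => by
    rw [hQe, hQe, hP, mem_iso K |>.1 (u_mem K hac)]
  have hQx : (Q : MF) *ᵥ ![1, 0, 0] = x := by
    rw [hQe, show (v : MF) *ᵥ ![1, 0, 0] = ![1, 0, 0] by
      funext i; fin_cases i <;> simp [hv, Matrix.mulVec, dotProduct, Fin.sum_univ_three], hPx]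
  -- the group in coordinates
  let φ : S →* GL (Fin 3) F := (MulAut.conj Q).toMonoidHom.comp SpecialLinearGroup.toGL
  have hφ : ∀ g, φ g = tr Q g := fun g => rfl
  let M' : Subgroup S := M.comap φ ⊓ iso K
  have hMi : M' ≤ iso K := inf_le_right
  have hz : ∀ k : F, k + K.bar k = 0 → u 0 0 k ∈ M' := by
    intro k hk
    obtain ⟨i, hi⟩ := exists_natCast (p := p) (x := k / d) (by
      subst hq
      rw [← K.bar_apply, map_div₀, eq_neg_of_add_eq_zero_right hk, eq_neg_of_add_eq_zero_right hd, neg_div_neg_eq])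
    refine ⟨?_, z_mem K hk⟩
    show φ (u 0 0 k) ∈ M
    have hpow : ∀ m : ℕ, ∀ y : V, ((t ^ m : GL (Fin 3) F) : MF) *ᵥ y = y + ((m : F) * d * H y x) • x := by
      intro m
      induction m with
      | zero => intro y; simp
      | succ m ih =>
        intro y
        rw [pow_succ, Units.val_mul, ← mulVec_mulVec, hty, ih, h_add_left K, h_smul_left K, hxx, Nat.cast_succ]
        module
    have e : φ (u 0 0 k) = t ^ i := by
      refine Units.ext (Matrix.toLin'.injective (LinearMap.ext fun y => ?_))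
      rw [Matrix.toLin'_apply, Matrix.toLin'_apply]
      obtain ⟨y', rfl⟩ : ∃ y', y = (Q : MF) *ᵥ y' :=
        ⟨(↑Q⁻¹ : MF) *ᵥ y, by rw [mulVec_mulVec, Units.mul_inv, one_mulVec]⟩
      rw [hφ, tr_mulVec, hpow]
      rw [← hQx, hQ, hi, div_mul_cancel₀ _ hd0, ← mulVec_smul, ← mulVec_add]
      congr 1
      funext j
      fin_cases j <;> simp [hj, Matrix.mulVec, dotProduct, Fin.sum_univ_three]
    rw [e]
    exact M.pow_mem ht i
  have memR : ∀ g ∈ R, ∃ g' ∈ M', tr Q g' = g := by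
    intro g hg
    obtain ⟨g', hg', e⟩ := (range_tr K hQ g).1 (hM (hRM hg))
    refine ⟨g', ⟨?_, hg'⟩, e⟩
    show φ g' ∈ M
    rw [hφ, e]; exact hRM hg
  obtain ⟨n, hn, hne⟩ : ∃ n ∈ M', n = v⁻¹ * s * v := by
    refine ⟨_, ⟨?_, (iso K).mul_mem ((iso K).mul_mem ((iso K).inv_mem (u_mem K hac)) hs) (u_mem K hac)⟩, rfl⟩
    show φ (v⁻¹ * s * v) ∈ M
    have : φ (v⁻¹ * s * v) = r := by
      rw [hφ, ← hsr]
      simp only [tr, hQdef, map_mul, map_inv]
      group
    rw [this]; exact hRM hr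
  have n0 : (n : MF) 0 0 = 0 ∧ (n : MF) 1 0 = 0 := by
    rw [hne]
    constructor
    · rw [← e0]; simp [hv, Matrix.mul_apply, Matrix.vecMul, dotProduct, Fin.sum_univ_three]
    · rw [← e1]; simp [hv, Matrix.mul_apply, Matrix.vecMul, dotProduct, Fin.sum_univ_three]
  have cen1 : CenBy K M' 1 := ⟨one_mem _, fun k hk => by simpa using hz k hk⟩
  have cenw : CenBy K M' (w : S) := by
    have := cen1.move K hMi hn
    rw [mul_one] at this
    refine this.congr K (w_mem K) ?_
    have hw : (w : S)⁻¹ = w := inv_eq_of_mul_eq_one_right w_mul_w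
    have hA : (w : S) * n ∈ ptStab := by
      refine mem_ptStab.2 ⟨?_, ?_⟩ <;> simp [Matrix.mul_apply, Fin.sum_univ_three, n0.1, n0.2]
    have := ptStab.inv_mem hA
    rwa [_root_.mul_inv_rev, hw] at this
  have hlo : ∀ k : F, k + K.bar k = 0 → lo k ∈ M' := by
    intro k hk
    have hw : (w : S)⁻¹ = w := inv_eq_of_mul_eq_one_right w_mul_w
    have := cenw.2 k hk
    rwa [hw, ← lo_eq] at this
  -- a third point off the line
  obtain ⟨x', hx'⟩ : ∃ x', x' = (Q : MF) *ᵥ ![0, 0, 1] := ⟨_, rfl⟩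
  have hW2 : Submodule.span F (Set.range ![x, x']) ≠ ⊤ := fun e => by
    have h1 := finrank_range_le_card (R := F) ![x, x']
    rw [Set.finrank, e, finrank_top, Module.finrank_fin_fun, Fintype.card_fin] at h1
    omega
  obtain ⟨r2, hr2, hr2x⟩ := exists_move hI hx hW2
  obtain ⟨n2, hn2, en2⟩ := memR r2 hr2
  have h10 : (n2 : MF) 1 0 ≠ 0 := by
    intro h10
    apply hr2x
    have : (r2 : MF) *ᵥ x = (n2 : MF) 0 0 • x + (n2 : MF) 2 0 • x' := by
      rw [← hQx, hx', ← en2, tr_mulVec, ← mulVec_smul, ← mulVec_smul, ← mulVec_add]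
      congr 1
      funext i
      fin_cases i <;> simp [Matrix.mulVec, dotProduct, Fin.sum_univ_three, h10]
    rw [this]
    exact Submodule.add_mem _ (Submodule.smul_mem _ _ (Submodule.subset_span ⟨0, rfl⟩))
      (Submodule.smul_mem _ _ (Submodule.subset_span ⟨1, rfl⟩))
  have h20 : (n2 : MF) 2 0 ≠ 0 := fun e => h10 (by
    have := isotropic_col K (hMi hn2)
    rw [e] at this
    simpa using this)
  have cen2 := cen_of_by K (n := n2) (by simpa using cen1.move K hMi hn2) h20
  have htop := top_of_line K hMi hz hlo hq3 (div_ne_zero h10 h20) cen2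
  intro g hg
  obtain ⟨g', hg', e⟩ := (range_tr K hQ g).1 hg
  have hmem : g' ∈ M' := by rw [htop]; exact hg'
  rw [← e, ← hφ]
  exact hmem.1

omit hI hRM

/-- In commuting unitary unipotents the middle coefficient is fixed by the conjugation. -/
theorem real_coeff {g h : GL (Fin 3) F} (hg : g ∈ M) (hh : h ∈ M) {n : MF} {b c : F}
    (ge : (g : MF) = 1 + n) (h30 : n ^ 3 = 0) (h2 : n * n ≠ 0)
    (he : (h : MF) = 1 + b • n + c • (n * n)) : K.bar b = b := by
  have h30' : n * (n * n) = 0 := by rw [← h30, pow_succ, pow_two, mul_assoc]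
  obtain ⟨x, hx, hli, -⟩ := exists_regnil (g := n) h30 h2 rfl
  obtain ⟨y, hy⟩ : ∃ y, y = n *ᵥ x := ⟨_, rfl⟩
  obtain ⟨z, hz⟩ : ∃ z, z = (n * n) *ᵥ x := ⟨_, rfl⟩
  rw [← hy, ← hz] at hli
  have nx : n *ᵥ x = y := hy.symm
  have ny : n *ᵥ y = z := by rw [hy, hz, mulVec_mulVec]
  have nz : n *ᵥ z = 0 := by rw [hz, mulVec_mulVec, h30', zero_mulVec]
  have gx : (g : MF) *ᵥ x = x + y := by rw [ge, add_mulVec, one_mulVec, nx]
  have gy : (g : MF) *ᵥ y = y + z := by rw [ge, add_mulVec, one_mulVec, ny]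
  have gz : (g : MF) *ᵥ z = z := by rw [ge, add_mulVec, one_mulVec, nz, add_zero]
  have G : ∀ a a', H ((g : MF) *ᵥ a) ((g : MF) *ᵥ a') = H a a' := (hM hg).1
  have zz : H z z = 0 := by
    have := G y z
    rw [gy, gz, h_add_left K] at this
    linear_combination this
  have yz : H y z = 0 := by
    have := G x z
    rw [gx, gz, h_add_left K] at this
    linear_combination this
  have zy : H z y = 0 := h_eq_zero_symm K yz
  have xz : H x z + H y y = 0 := by
    have := G x y
    rw [gx, gy, h_add_left K, h_add_right K, h_add_right K, yz] at this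
    linear_combination this
  have xz0 : H x z ≠ 0 := by
    intro e
    refine hli.ne_zero 2 (h_nondeg K fun a => ?_)
    have ha : a ∈ Submodule.span F (Set.range ![x, y, z]) := by
      rw [hli.span_eq_top_of_card_eq_finrank (by rw [Fintype.card_fin, Module.finrank_fin_fun])]; trivial
    show H z a = 0
    refine Submodule.span_induction (fun b hb => ?_) (h_zero_right K z) (fun b b' _ _ h h' => ?_)
      (fun k b _ h => ?_) ha
    · obtain ⟨i, rfl⟩ := hb
      fin_cases i
      exacts [h_eq_zero_symm K e, zy, zz]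
    · rw [h_add_right K, h, h', add_zero]
    · rw [h_smul_right K, h, mul_zero]
  have hx' : (h : MF) *ᵥ x = x + b • y + c • z := by
    rw [he, add_mulVec, add_mulVec, one_mulVec, smul_mulVec, smul_mulVec, nx, ← hz]
  have hy' : (h : MF) *ᵥ y = y + b • z := by
    rw [he, add_mulVec, add_mulVec, one_mulVec, smul_mulVec, smul_mulVec, ny, ← mulVec_mulVec, ny, nz, smul_zero,
      add_zero]
  have := (hM hh).1 x y
  change H ((h : MF) *ᵥ x) ((h : MF) *ᵥ y) = H x y at this
  rw [hx', hy'] at this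
  simp only [h_add_left K, h_add_right K, h_smul_left K, h_smul_right K, yz, zy, zz] at this
  have h0 : (K.bar b - b) * H x z = 0 := by linear_combination this - b * xz
  exact sub_eq_zero.1 ((mul_eq_zero.1 h0).resolve_right xz0)

end CfsgLib.HessianMax
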