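import Cfsg.Agent.Lib.HessianMax.Uncov

/-!
There are no uncounted elements of order prime to the characteristic.
-/

set_option autoImplicit false
set_option linter.unusedSectionVars false

namespace CfsgLib.HessianMax

open Matrix TwoDim CfsgLib.SL2
open scoped MatrixGroups

variable {K : Type*} [Field K]

local notation "M2" => Matrix (Fin 2) (Fin 2) K
local notation "M3" => Matrix (Fin 3) (Fin 3) K
local notation "SL2" => SpecialLinearGroup (Fin 2) K
local notation "PSL" => ProjectiveSpecialLinearGroup (Fin 2) K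

theorem perm_three : ∀ i l : Fin 3, i ≠ l → ∃ σ : Equiv.Perm (Fin 3), σ 0 = i ∧ σ 1 = l := by decide

set_option synthInstance.maxSize 1000 in
theorem small_perm' : ∀ W ∈ (Finset.univ : Finset (Equiv.Perm (Fin 3))).powerset, (∀ a ∈ W, ∀ b ∈ W, a * b ∈ W) →
    (∀ a ∈ W, ∀ b ∈ W, Equiv.Perm.sign a = -1 → Equiv.Perm.sign b = -1 → a = b) → W.card ≤ 3 := by
  decide +kernel

theorem small_perm (W : Finset (Equiv.Perm (Fin 3))) (h1 : ∀ a ∈ W, ∀ b ∈ W, a * b ∈ W)
    (h2 : ∀ a ∈ W, ∀ b ∈ W, Equiv.Perm.sign a = -1 → Equiv.Perm.sign b = -1 → a = b) : W.card ≤ 3 :=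
  small_perm' W (Finset.mem_powerset.2 (Finset.subset_univ W)) h1 h2

theorem three_cases : ∀ r i l m : Fin 3, i ≠ l → m ≠ i → m ≠ l → r = i ∨ r = l ∨ r = m := by decide

theorem six_cases : ∀ i l q : Fin 3, i ≠ l → l ≠ q → i ≠ q →
    (i = 0 ∧ l = 1 ∧ q = 2) ∨ (i = 0 ∧ l = 2 ∧ q = 1) ∨ (i = 1 ∧ l = 0 ∧ q = 2) ∨
    (i = 1 ∧ l = 2 ∧ q = 0) ∨ (i = 2 ∧ l = 0 ∧ q = 1) ∨ (i = 2 ∧ l = 1 ∧ q = 0) := by decide

theorem swap_data : ∀ σ : Equiv.Perm (Fin 3), Equiv.Perm.sign σ = -1 →
    σ * σ = 1 ∧ ∃ i l m : Fin 3, σ i = l ∧ σ l = i ∧ σ m = m ∧ i ≠ l ∧ l ≠ m ∧ i ≠ m := by decide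

theorem fixed_ne : ∀ σ τ : Equiv.Perm (Fin 3), Equiv.Perm.sign σ = -1 → Equiv.Perm.sign τ = -1 → σ ≠ τ →
    ∀ r : Fin 3, ∀ m n : Fin 3, σ m = m → τ n = n → r = m ∨ r = n ∨ (r ≠ m ∧ r ≠ n ∧ m ≠ n) := by decide

namespace Eig

variable {g : Matrix (Fin 3) (Fin 3) K} (B : Eig g)

/-- The block of an eigenbasis. -/
def blk : Blk K where
  E := !![B.P 0 0, B.P 0 1; B.P 1 0, B.P 1 1; B.P 2 0, B.P 2 1]
  D := !![B.P' 0 0, B.P' 0 1, B.P' 0 2; B.P' 1 0, B.P' 1 1, B.P' 1 2]
  k := ![B.P 0 2, B.P 1 2, B.P 2 2]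
  χ := ![B.P' 2 0, B.P' 2 1, B.P' 2 2]
  DE := by
    have e : ∀ i l, (B.P' * B.P) i l = (1 : M3) i l := fun i l => by rw [B.inv']
    have e00 := e 0 0
    have e01 := e 0 1
    have e10 := e 1 0
    have e11 := e 1 1
    simp [Matrix.mul_apply, Fin.sum_univ_three] at e00 e01 e10 e11
    ext i l
    fin_cases i <;> fin_cases l <;> simp [Matrix.mul_apply, Fin.sum_univ_three, e00, e01, e10, e11]
  sum := by
    ext i l
    have e : (B.P * B.P') i l = (1 : M3) i l := by rw [B.inv]
    simp only [Matrix.mul_apply, Fin.sum_univ_three] at e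
    fin_cases i <;> fin_cases l <;> simp [Matrix.mul_apply, Fin.sum_univ_two, vecMulVec_apply] <;> simpa using e
  χk := by
    have e : (B.P' * B.P) 2 2 = (1 : M3) 2 2 := by rw [B.inv']
    simpa [Matrix.mul_apply, Fin.sum_univ_three, dotProduct] using e

theorem blk_prj : B.blk.prj = B.P * !![1, 0, 0; 0, 1, 0; 0, 0, 0] * B.P' := by
  ext i l
  fin_cases i <;> fin_cases l <;>
    simp [Blk.prj, blk, Matrix.mul_apply, Fin.sum_univ_two, Fin.sum_univ_three]

theorem blk_affine (h : B.d 1 = B.d 0) :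
    (B.d 0 - B.d 2) • B.blk.prj = g - B.d 2 • 1 := by
  apply B.φ_inj
  rw [φ, φ, Matrix.mul_smul, Matrix.smul_mul, B.blk_prj, Matrix.mul_sub, Matrix.sub_mul,
    show B.P' * g * B.P = diagonal B.d from B.eq, Matrix.mul_smul, Matrix.mul_one, Matrix.smul_mul, B.inv']
  simp only [← Matrix.mul_assoc]
  rw [B.inv', Matrix.one_mul, Matrix.mul_assoc, B.inv', Matrix.mul_one]
  ext i l
  fin_cases i <;> fin_cases l <;> simp [h]

/-- A commuting matrix fits the block of a repeated eigenvalue. -/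
theorem blk_fits (h : B.d 1 = B.d 0) (hne : B.d 0 ≠ B.d 2) {a : M3} (ha : a * g = g * a) : B.blk.Fits a := by
  refine smul_right_injective M3 (sub_ne_zero.2 hne) ?_
  show (B.d 0 - B.d 2) • (a * B.blk.prj) = (B.d 0 - B.d 2) • (B.blk.prj * a)
  rw [← Matrix.mul_smul, ← Matrix.smul_mul, B.blk_affine h, Matrix.mul_sub, Matrix.sub_mul, ha, Matrix.mul_smul,
    Matrix.mul_one, Matrix.smul_mul, Matrix.one_mul]

end Eig

/-- Commuting idempotents of rank one are equal or orthogonal. -/
theorem orth_or_eq {k k' χ χ' : Fin 3 → K} (hk : χ ⬝ᵥ k = 1) (hk' : χ' ⬝ᵥ k' = 1)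
    (hc : vecMulVec k χ * vecMulVec k' χ' = vecMulVec k' χ' * vecMulVec k χ) :
    (χ ⬝ᵥ k' = 0 ∧ χ' ⬝ᵥ k = 0) ∨ vecMulVec k χ = vecMulVec k' χ' := by
  rw [vecMulVec_mul_vecMulVec, vecMulVec_mul_vecMulVec] at hc
  simp only [vecMulVec_smul] at hc
  have hk0 : k' ≠ 0 := fun e => by rw [e, dotProduct_zero] at hk'; exact zero_ne_one hk'
  have hχ0 : χ ≠ 0 := fun e => by rw [e, zero_dotProduct] at hk; exact zero_ne_one hk
  by_cases ha : χ ⬝ᵥ k' = 0
  · refine Or.inl ⟨ha, ?_⟩
    rw [ha, zero_smul] at hc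
    by_contra hb
    exact vecMulVec_ne_zero hk0 hχ0 ((smul_eq_zero.1 hc.symm).resolve_left hb)
  · right
    have e1 := congrArg (fun A : M3 => A *ᵥ k') hc
    simp only [smul_mulVec, vecMulVec_mulVec, op_smul_eq_smul, hk', one_smul] at e1
    rw [smul_smul, mul_comm, ← smul_smul] at e1
    have e1' : k = (χ' ⬝ᵥ k) • k' := smul_right_injective (Fin 3 → K) ha e1
    have e2 := congrArg (fun A : M3 => χ ᵥ* A) hc
    simp only [vecMul_smul, vecMul_vecMulVec, hk, one_smul] at e2
    rw [smul_smul, mul_comm, ← smul_smul] at e2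
    have e2' : χ' = (χ' ⬝ᵥ k) • χ := smul_right_injective (Fin 3 → K) ha e2
    conv_lhs => rw [e1']
    conv_rhs => rw [e2']
    rw [smul_vecMulVec, vecMulVec_smul]

variable [Finite K] {p : ℕ} [hp : Fact p.Prime] [CharP K p]

namespace Setup

variable {ω : K} {M : Subgroup (GL3 K)} (h : Setup p ω M)
include h

/-- A subgroup of odd order fitting a block is commutative. -/
theorem abelian_fits (b : Blk K) {S : Subgroup (GL3 K)} (hS : S ≤ M) (hodd : Odd (Nat.card S))
    (hf : ∀ g ∈ S, b.Fits (g : M3)) : ∀ x ∈ S, ∀ y ∈ S, x * y = y * x := by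
  classical
  haveI : Finite (GL3 K) := finite_gl
  have h7 := h.p7
  have oddOrd := h.oddOrd hodd
  have hodd' : Odd (Nat.card ((b.planeSL S).map proj : Subgroup PSL)) := by
    rw [← Nat.not_even_iff_odd, even_iff_two_dvd]
    intro h2d
    haveI : Fact (Nat.Prime 2) := ⟨Nat.prime_two⟩
    obtain ⟨a, ha⟩ := exists_prime_orderOf_dvd_card' 2 h2d
    obtain ⟨A, hA, hAa⟩ := a.2
    obtain ⟨g, hg, fg, μ, eA⟩ := (Blk.mem_planeSL b).1 hA
    set m := orderOf g
    have h1 : proj A ^ m = 1 := by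
      rw [← map_pow, ← pm_iff]
      refine scalar_pm _ (c := μ ^ m) ?_
      rw [show ((A ^ m : SL2) : M2) = (A : M2) ^ m from rfl, eA, smul_pow, ← (Blk.pl_pow fg m).2.1,
        ← Units.val_pow_eq_pow_val, pow_orderOf_eq_one, Units.val_one, Blk.pl_one]
    have h4 : orderOf a ∣ m := by
      rw [← Subgroup.orderOf_coe, ← hAa]
      exact orderOf_dvd_of_pow_eq_one h1
    rw [ha] at h4
    exact Nat.not_even_iff_odd.2 (oddOrd g hg) (even_iff_two_dvd.2 h4)
  intro x hx y hy
  have root : ∀ {g : GL3 K}, g ∈ S → ∃ μ : K, μ ≠ 0 ∧ (μ • b.pl (g : M3)).det = 1 := by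
    intro g hg
    have hd := h.det g (hS hg)
    rw [(hf g hg).det_eq] at hd
    obtain ⟨μ, hμ⟩ := h.sq g (hS hg) _ (hf g hg).isRoot_ln
    refine ⟨μ, fun e => ?_, ?_⟩
    · rw [hμ, e] at hd; simp at hd
    · rw [det_smul, Fintype.card_fin, pow_two, ← hμ]; exact hd
  obtain ⟨μ, hμ, dμ⟩ := root hx
  obtain ⟨ν, hν, dν⟩ := root hy
  have key := TwoDim.comm_of_odd p (b.planeSL_pfree p (by omega) (h.notv.mono hS)) (by omega) hodd' ⟨_, dμ⟩
    ((Blk.mem_planeSL b).2 ⟨x, hx, hf x hx, μ, rfl⟩) ⟨_, dν⟩ ((Blk.mem_planeSL b).2 ⟨y, hy, hf y hy, ν, rfl⟩)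
  have key' := congrArg (fun u : SL2 => (u : M2)) key
  change (μ • b.pl (x : M3)) * (ν • b.pl (y : M3)) = (ν • b.pl (y : M3)) * (μ • b.pl (x : M3)) at key'
  rw [Matrix.smul_mul, Matrix.mul_smul, smul_smul, Matrix.smul_mul, Matrix.mul_smul, smul_smul, mul_comm ν μ] at key'
  refine Units.ext ?_
  rw [Units.val_mul, Units.val_mul]
  refine ((hf x hx).mul (hf y hy)).ext ((hf y hy).mul (hf x hx)) ?_ ?_
  · rw [Blk.pl_mul (hf y hy), Blk.pl_mul (hf x hx)]
    exact smul_right_injective M2 (mul_ne_zero hμ hν) key'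
  · rw [Blk.ln_mul (hf y hy), Blk.ln_mul (hf x hx), mul_comm]

variable {k : ℕ} {c j : GL3 K} (hC : CT ω M h.two k c j)
  (cls : ∃ m : M, m * h.tM * m⁻¹ = (⟨c, hC.mc⟩ : M) * ⟨j, hC.mj⟩)
include hC cls

theorem no_p_in_cent {g a : M} (hg : ¬ h.Covd hC g) (hgp : ¬ p ∣ orderOf g) (hc : g * a = a * g) :
    ¬ p ∣ orderOf a := by
  haveI := h.finM hC cls
  intro hd
  have h7 := h.p7
  set u := a ^ (orderOf a / p)
  have hu : orderOf u = p := by
    rw [orderOf_pow_of_dvd (Nat.div_pos (Nat.le_of_dvd (orderOf_pos a) hd) (by omega)).ne' (Nat.div_dvd_of_dvd hd),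
      Nat.div_div_self hd (orderOf_pos a).ne']
  have hu1 : u ≠ 1 := fun e => by rw [e, orderOf_one] at hu; omega
  have hup : u ^ p = 1 := by rw [← hu, pow_orderOf_eq_one]
  obtain ⟨⟨d, hd'⟩, -⟩ := h.comm_unip hC cls hup hu1 (g := g) ((show Commute g a from hc).pow_right _).eq
  have hco : Nat.Coprime p (orderOf g) := (Nat.Prime.coprime_iff_not_dvd hp.out).2 hgp
  obtain ⟨e, -, he⟩ := Nat.exists_mul_mod_eq_of_coprime 1 hco (orderOf_pos g).ne'
  refine hg (Or.inl (h.scalar_z hC cls (a := d ^ e) ?_))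
  have hge : g = g ^ (p * e) := by
    conv_lhs => rw [← pow_one g, ← pow_mod_orderOf, ← he, pow_mod_orderOf]
  rw [hge, Subgroup.coe_pow, Units.val_pow_eq_pow_val, pow_mul, hd', smul_pow, one_pow]

theorem eig_of {g : M} (hgp : ¬ p ∣ orderOf g) : Nonempty (Eig ((g : GL3 K) : M3)) := by
  haveI := h.finM hC cls
  refine exists_eig (N := orderOf g) (fun e => hgp ((CharP.cast_eq_zero_iff K p _).1 e)) ?_ (h.split _ g.2)
  rw [← Units.val_pow_eq_pow_val, ← Subgroup.coe_pow, pow_orderOf_eq_one]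
  rfl

theorem nonscalar {g : M} (hg : ¬ h.Covd hC g) (B : Eig ((g : GL3 K) : M3)) {i l : Fin 3} (e : B.d i = B.d l)
    (hil : i ≠ l) {m : Fin 3} (hm : m ≠ i) (hm' : m ≠ l) : B.d i ≠ B.d m := by
  intro e'
  refine hg (Or.inl (h.scalar_z hC cls (a := B.d i) (B.φ_inj ?_)))
  rw [B.φ_g, B.φ_scalar, smul_one_eq_diagonal]
  congr 1
  funext r
  have : r = i ∨ r = l ∨ r = m := three_cases r i l m hil hm hm'
  rcases this with rfl | rfl | rfl <;> simp [e, e'] <;> simp [← e, e']

theorem cent_abelian {g : M} (hg : ¬ h.Covd hC g) (hgp : ¬ p ∣ orderOf g) {a b : M} (ha : g * a = a * g)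
    (hb : g * b = b * g) : a * b = b * a := by
  haveI := h.finM hC cls
  haveI : Finite (GL3 K) := finite_gl
  obtain ⟨B⟩ := h.eig_of hC cls hgp
  have val : ∀ {a : M}, g * a = a * g → ((a : GL3 K) : M3) * ((g : GL3 K) : M3) =
      ((g : GL3 K) : M3) * ((a : GL3 K) : M3) := fun {a} ha => by
    have := congrArg (fun a : M => ((a : GL3 K) : M3)) ha
    simp only [Subgroup.coe_mul, Units.val_mul] at this
    exact this.symm
  by_cases hd : Function.Injective B.d
  · refine Subtype.ext (Units.ext (B.φ_inj ?_))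
    rw [Subgroup.coe_mul, Subgroup.coe_mul, Units.val_mul, Units.val_mul, B.φ_mul, B.φ_mul,
      B.diag_of_comm hd (val ha), B.diag_of_comm hd (val hb), diagonal_mul_diagonal, diagonal_mul_diagonal]
    congr 1
    funext i
    rw [mul_comm]
  · simp only [Function.Injective, not_forall] at hd
    obtain ⟨i, l, e, hil⟩ := hd
    obtain ⟨σ, hσ0, hσ1⟩ := perm_three i l hil
    set B' := B.perm σ
    have h01 : B'.d 1 = B'.d 0 := by
      show B.d (σ 1) = B.d (σ 0)
      rw [hσ0, hσ1, e]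
    have h02 : B'.d 0 ≠ B'.d 2 := by
      show B.d (σ 0) ≠ B.d (σ 2)
      rw [hσ0]
      exact h.nonscalar hC cls hg B e hil (by rw [← hσ0]; exact fun e' => absurd (σ.injective e') (by decide))
        (by rw [← hσ1]; exact fun e' => absurd (σ.injective e') (by decide))
    set A := Subgroup.centralizer ({g} : Set M)
    have hS := h.abelian_fits B'.blk (S := A.map M.subtype) (Subgroup.map_subtype_le A)
      (by rw [Subgroup.card_map_of_injective M.subtype_injective]; exact h.odd_cent hC cls hg)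
      (by
        rintro _ ⟨x, hx, rfl⟩
        exact B'.blk_fits h01 h02 (val (Subgroup.mem_centralizer_singleton_iff.1 hx).symm))
    exact Subtype.ext (hS a ⟨a, Subgroup.mem_centralizer_singleton_iff.2 ha.symm, rfl⟩ b
      ⟨b, Subgroup.mem_centralizer_singleton_iff.2 hb.symm, rfl⟩)

set_option maxHeartbeats 1000000 in
/-- There are no uncounted elements of order prime to p. -/
theorem no_semi {g : M} (hg : ¬ h.Covd hC g) (hgp : ¬ p ∣ orderOf g) : False := by
  classical
  haveI := h.finM hC cls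
  haveI : Finite (GL3 K) := finite_gl
  haveI := Fintype.ofFinite M
  have AX := h.ax hC
  set A := Subgroup.centralizer ({g} : Set M)
  have memA : ∀ {a : M}, a ∈ A ↔ a * g = g * a := Subgroup.mem_centralizer_singleton_iff
  have hgA : g ∈ A := memA.2 rfl
  have habel : ∀ {a b : M}, a ∈ A → b ∈ A → a * b = b * a := fun ha hb =>
    h.cent_abelian hC cls hg hgp (memA.1 ha).symm (memA.1 hb).symm
  have hunc : ∀ {a : M}, a ∈ A → (∀ i, a ≠ h.zM ^ i) → ¬ h.Covd hC a := fun ha hne hcov => by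
    obtain ⟨i, hi⟩ := h.scalar_of_comm hC cls hg hcov (memA.1 ha).symm
    exact hne i hi
  have hzA : ∀ i : ℕ, h.zM ^ i ∈ A := fun i => memA.2 ((AX.zcomm g).pow_left i).eq
  have hTI : ∀ {a : M}, a ∈ A → (∀ i, a ≠ h.zM ^ i) → ∀ b, b * a = a * b → b ∈ A := fun {a} ha hne b hb => by
    refine memA.2 ?_
    exact h.cent_abelian hC cls (hunc ha hne) (h.no_p_in_cent hC cls hg hgp (memA.1 ha).symm) hb.symm (memA.1 ha)
  set S : Set M := {a | a ∈ A ∧ ∀ i, a ≠ h.zM ^ i}
  set H := Subgroup.normalizer (A : Set M)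
  have hgne : ∀ i, g ≠ h.zM ^ i := fun i e => hg (Or.inl ⟨i, e⟩)
  -- the conjugates of the non-scalar part
  have hcl := Abs.card_cl (S := S) (H := H)
    (fun m hm a ⟨ha, hne⟩ => ⟨(Subgroup.mem_normalizer_iff.1 hm a).1 ha, fun i e => hne i (by
      calc a = m⁻¹ * (m * a * m⁻¹) * m := by group
        _ = m⁻¹ * (h.zM ^ i * m) := by rw [e]; group
        _ = _ := by rw [((AX.zcomm m).pow_left i).eq, inv_mul_cancel_left])⟩)
    (fun m a ⟨ha, hne⟩ ⟨ha', hne'⟩ => by
      have fwd : ∀ b ∈ A, m * b * m⁻¹ ∈ A := fun b hb => hTI ha' hne' _ (by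
        rw [conj_mul, conj_mul, habel hb ha])
      have bwd : ∀ b, m * b * m⁻¹ ∈ A → b ∈ A := fun b hb => hTI ha hne _ (by
        have := habel hb ha'
        rw [conj_mul, conj_mul, mul_left_inj, mul_right_inj] at this
        exact this)
      exact Subgroup.mem_normalizer_iff.2 fun b => ⟨fwd b, bwd b⟩)
  -- its size
  have hZcard : Nat.card (Subgroup.zpowers h.zM) = 3 := by
    haveI : Fact (Nat.Prime 3) := ⟨Nat.prime_three⟩
    rw [Nat.card_zpowers]
    refine orderOf_eq_prime AX.z3 fun e => ?_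
    obtain ⟨h3, -⟩ := AX.ord 1 0 (by rw [e, one_pow, pow_zero, one_mul])
    omega
  have hZA : Subgroup.zpowers h.zM ≤ A := by
    rw [Subgroup.zpowers_le]
    exact pow_one h.zM ▸ hzA 1
  have hcardS : Nat.card S + 3 = Nat.card A := by
    have e : S = ((A : Set M) \ (Subgroup.zpowers h.zM : Set M)) := by
      ext a
      constructor
      · rintro ⟨ha, hne⟩
        refine ⟨ha, fun hz => ?_⟩
        obtain ⟨i, hi⟩ := mem_powers_iff_mem_zpowers.2 hz
        exact hne i hi.symm
      · rintro ⟨ha, hz⟩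
        exact ⟨ha, fun i e => hz (e ▸ Subgroup.npow_mem_zpowers _ _)⟩
    have h0 : Nat.card (↥((A : Set M) \ (Subgroup.zpowers h.zM : Set M))) + Nat.card (Subgroup.zpowers h.zM) =
        Nat.card A := Set.ncard_sdiff_add_ncard_of_subset hZA
    rw [hZcard, ← e] at h0
    exact h0
  have hA3 : 3 ∣ Nat.card A := by
    have h0 := Subgroup.card_dvd_of_le hZA
    rwa [hZcard] at h0
  have hAodd : Odd (Nat.card A) := h.odd_cent hC cls hg
  have hSpos : 0 < Nat.card S := by
    haveI : Nonempty S := ⟨⟨g, hgA, hgne⟩⟩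
    exact Nat.card_pos
  -- the normaliser
  obtain ⟨B⟩ := h.eig_of hC cls hgp
  have val : ∀ {a : M}, a ∈ A → ((a : GL3 K) : M3) * ((g : GL3 K) : M3) =
      ((g : GL3 K) : M3) * ((a : GL3 K) : M3) := fun {a} ha => by
    have := congrArg (fun a : M => ((a : GL3 K) : M3)) (memA.1 ha)
    simp only [Subgroup.coe_mul, Units.val_mul] at this
    exact this
  let Hs : Finset M := Finset.univ.filter (· ∈ H)
  have memH : ∀ {m : M}, m ∈ Hs → ∀ {a : M}, a ∈ A → m * a * m⁻¹ ∈ A := fun hm a ha =>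
    (Subgroup.mem_normalizer_iff.1 (Finset.mem_filter.1 hm).2 a).1 ha
  have hO : (Hs.image fun m => m * g * m⁻¹).card ≤ 3 := by
    set O := Hs.image fun m => m * g * m⁻¹
    by_cases hd : Function.Injective B.d
    · -- permutations of the eigenvalues
      let D : M → Fin 3 → K := fun a i => B.φ ((a : GL3 K) : M3) i i
      have hdia : ∀ {a : M}, a ∈ A → B.φ ((a : GL3 K) : M3) = diagonal (D a) := fun ha => B.diag_of_comm hd (val ha)
      have hDmul : ∀ {a b : M}, a ∈ A → b ∈ A → ∀ i, D (a * b) i = D a i * D b i := by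
        intro a b ha hb i
        show B.φ (((a * b : M) : GL3 K) : M3) i i = _
        rw [Subgroup.coe_mul, Units.val_mul, B.φ_mul, hdia ha, hdia hb, diagonal_mul_diagonal, diagonal_apply_eq]
      have hDg : D g = B.d := by
        funext i
        show B.φ _ i i = _
        rw [B.φ_g, diagonal_apply_eq]
      have hDinj : ∀ {a b : M}, a ∈ A → b ∈ A → D a = D b → a = b := fun ha hb e =>
        Subtype.ext (Units.ext (B.φ_inj (by rw [hdia ha, hdia hb, e])))
      have hσ : ∀ {m : M}, m ∈ H → ∃ f : Fin 3 → Fin 3, ∀ a ∈ A, ∀ i, D (m * a * m⁻¹) i = D a (f i) := by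
        intro m hm
        set Q := B.φ ((m : GL3 K) : M3)
        have hQ : ∀ i, ∃ l, Q i l ≠ 0 := by
          intro i
          by_contra hcon
          push Not at hcon
          have : Q.det = 0 := det_eq_zero_of_row_eq_zero i hcon
          rw [B.φ_det, h.det _ m.2] at this
          exact one_ne_zero this
        choose f hf using hQ
        refine ⟨f, fun a ha i => ?_⟩
        have ha' : m * a * m⁻¹ ∈ A := (Subgroup.mem_normalizer_iff.1 hm a).1 ha
        have e : Q * diagonal (D a) = diagonal (D (m * a * m⁻¹)) * Q := by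
          rw [← hdia ha, ← hdia ha', ← B.φ_mul, ← B.φ_mul, ← Units.val_mul, ← Units.val_mul, ← Subgroup.coe_mul,
            ← Subgroup.coe_mul, inv_mul_cancel_right]
        have e' := congrFun (congrFun e i) (f i)
        rw [mul_diagonal, diagonal_mul, mul_comm] at e'
        exact (mul_right_cancel₀ (hf i) e').symm
      let W : Finset (Equiv.Perm (Fin 3)) := Finset.univ.filter fun σ : Equiv.Perm (Fin 3) =>
        ∃ m ∈ H, ∀ a ∈ A, ∀ i, D (m * a * m⁻¹) i = D a (σ i)
      have hW : ∀ {m : M}, m ∈ H → ∃ σ ∈ W, ∀ a ∈ A, ∀ i, D (m * a * m⁻¹) i = D a (σ i) := by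
        intro m hm
        obtain ⟨f, hf⟩ := hσ hm
        obtain ⟨f', hf'⟩ := hσ (inv_mem hm)
        have hff : ∀ i, f (f' i) = i := fun i => hd (by
          have e1 := hf g hgA (f' i)
          have e2 := hf' (m * g * m⁻¹) ((Subgroup.mem_normalizer_iff.1 hm g).1 hgA) i
          rw [show m⁻¹ * (m * g * m⁻¹) * m⁻¹⁻¹ = g by group] at e2
          rw [← hDg, ← e1, ← e2])
        have hbij : Function.Bijective f := by
          have hsur : Function.Surjective f := fun i => ⟨f' i, hff i⟩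
          exact ⟨Finite.injective_iff_surjective.2 hsur, hsur⟩
        exact ⟨Equiv.ofBijective f hbij, Finset.mem_filter.2 ⟨Finset.mem_univ _, m, hm, hf⟩, hf⟩
      have hmul : ∀ a ∈ W, ∀ b ∈ W, a * b ∈ W := by
        intro σ hσ τ hτ
        obtain ⟨-, m, hm, hm'⟩ := Finset.mem_filter.1 hσ
        obtain ⟨-, n, hn, hn'⟩ := Finset.mem_filter.1 hτ
        refine Finset.mem_filter.2 ⟨Finset.mem_univ _, n * m, mul_mem hn hm, fun a ha i => ?_⟩
        rw [show n * m * a * (n * m)⁻¹ = n * (m * a * m⁻¹) * n⁻¹ by group,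
          hn' _ ((Subgroup.mem_normalizer_iff.1 hm a).1 ha), hm' a ha]
        rfl
      -- a transposition in W forces a cube root of unity at its fixed place
      have hodd1 : ∀ σ ∈ W, Equiv.Perm.sign σ = -1 → ∀ r, σ r = r → B.d r ^ 3 = 1 := by
        intro σ hσ' hsgn r hr
        obtain ⟨-, m, hm, hm'⟩ := Finset.mem_filter.1 hσ'
        obtain ⟨hσ2, i, l, q, hi, hl, hq, hil, hlq, hiq⟩ := swap_data σ hsgn
        have hrq : r = q := by
          refine ((three_cases r i l q hil hiq.symm hlq.symm).resolve_left ?_).resolve_left ?_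
          · rintro rfl; exact hil (hr.symm.trans hi)
          · rintro rfl; exact hil (hl.symm.trans hr)
        subst hrq
        have hm2 : m * m ∈ A := by
          have hg' : m * m * g * (m * m)⁻¹ = g := by
            refine hDinj ((Subgroup.mem_normalizer_iff.1 (mul_mem hm hm) g).1 hgA) hgA (funext fun s => ?_)
            rw [show m * m * g * (m * m)⁻¹ = m * (m * g * m⁻¹) * m⁻¹ by group,
              hm' _ ((Subgroup.mem_normalizer_iff.1 hm g).1 hgA), hm' g hgA, ← Equiv.Perm.mul_apply, hσ2]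
            rfl
          exact memA.2 (mul_inv_eq_iff_eq_mul.1 hg')
        set n := Nat.card A
        set u := m ^ n
        have hu2 : u * u = 1 := by
          rw [← pow_add, ← two_mul, pow_mul, pow_two]
          exact (congrArg Subtype.val (pow_card_eq_one' (G := A) (x := ⟨m * m, hm2⟩)) : _)
        have huH : u ∈ H := pow_mem hm n
        have hpows : ∀ e : ℕ, ∀ a ∈ A, ∀ s, D (m ^ e * a * (m ^ e)⁻¹) s = D a ((σ ^ e) s) := by
          intro e
          induction e with
          | zero => intro a _ s; simp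
          | succ e ih =>
            intro a ha s
            rw [show m ^ (e + 1) * a * (m ^ (e + 1))⁻¹ = m ^ e * (m * a * m⁻¹) * (m ^ e)⁻¹ by rw [pow_succ]; group,
              ih _ ((Subgroup.mem_normalizer_iff.1 hm a).1 ha), hm' a ha, pow_succ']
            rfl
        have hu' : ∀ a ∈ A, ∀ s, D (u * a * u⁻¹) s = D a (σ s) := fun a ha s => by
          obtain ⟨b, hb⟩ := hAodd
          rw [hpows n a ha s, show n = 2 * b + 1 from hb, pow_succ, pow_mul, pow_two, hσ2, one_pow, one_mul]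
        have hug : u * g * u⁻¹ ≠ g := fun e => by
          have := hu' g hgA i
          rw [e, hi, hDg] at this
          exact hil (hd this)
        have hgu : u * g * u⁻¹ ∈ A := (Subgroup.mem_normalizer_iff.1 huH g).1 hgA
        set w := g * (u * g * u⁻¹)
        have hwA : w ∈ A := mul_mem hgA hgu
        by_cases hws : ∀ s, w ≠ h.zM ^ s
        · refine absurd ?_ hug
          have huA : u ∈ A := hTI hwA hws u (by
            have uinv : u⁻¹ = u := inv_eq_of_mul_eq_one_right hu2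
            calc u * w = u * g * u⁻¹ * (u * u) * g * u⁻¹ := by simp only [w]; group
              _ = (u * g * u⁻¹) * g * u⁻¹ := by rw [hu2, mul_one]
              _ = w * u := by simp only [w]; rw [habel hgu hgA, uinv])
          rw [memA.1 huA, mul_inv_cancel_right]
        · push Not at hws
          obtain ⟨e, he⟩ := hws
          have hw : ∀ s, D w s = ω ^ e := fun s => by
            show B.φ ((w : GL3 K) : M3) s s = _
            rw [he, h.zM_pow_val hC cls, B.φ_scalar, smul_one_eq_diagonal, diagonal_apply_eq]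
          have wval : ∀ s, B.d s * B.d (σ s) = ω ^ e := fun s => by
            rw [← hw s, hDmul hgA hgu, hu' g hgA, hDg]
          have h1 := wval r
          have h2 := wval i
          rw [hr] at h1
          rw [hi] at h2
          have hdet : B.d i * B.d l * B.d r = 1 := by
            have h0 := h.det _ g.2
            rw [B.prod_d] at h0
            rcases six_cases i l r hil hlq hiq with h' | h' | h' | h' | h' | h' <;> obtain ⟨rfl, rfl, rfl⟩ := h' <;>
              linear_combination h0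
          rw [← h1] at h2
          linear_combination (-B.d r) * h2 + hdet
      have hsmall := small_perm W hmul (fun σ hσ' τ hτ hs ht => by
        by_contra hne
        refine hg (h.cov_three hC cls ?_)
        obtain ⟨-, _, _, m, _, _, hm, _, _, _⟩ := swap_data σ hs
        obtain ⟨-, _, _, n, _, _, hn, _, _, _⟩ := swap_data τ ht
        have hm3 := hodd1 σ hσ' hs m hm
        have hn3 := hodd1 τ hτ ht n hn
        have h0 := h.det _ g.2
        rw [B.prod_d] at h0
        have hp3 : B.d 0 ^ 3 * B.d 1 ^ 3 * B.d 2 ^ 3 = 1 := by rw [← mul_pow, ← mul_pow, h0, one_pow]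
        have hall : ∀ r, B.d r ^ 3 = 1 := by
          intro r
          rcases fixed_ne σ τ hs ht hne r m n hm hn with e | e | ⟨e1, e2, e3⟩
          · rw [e, hm3]
          · rw [e, hn3]
          · rcases six_cases r m n e1 e3 e2 with h' | h' | h' | h' | h' | h' <;> obtain ⟨rfl, rfl, rfl⟩ := h' <;>
              simpa [hm3, hn3] using hp3
        refine Subtype.ext (Units.ext ?_)
        rw [Subgroup.coe_pow, Units.val_pow_eq_pow_val, B.pow_scalar hall, one_smul]
        rfl)
      refine le_trans ?_ hsmall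
      have hsub : O.image (fun o : M => ((o : GL3 K) : M3)) ⊆
          W.image fun σ : Equiv.Perm (Fin 3) => B.P * diagonal (B.d ∘ σ) * B.P' := by
        intro x hx
        obtain ⟨o, ho, rfl⟩ := Finset.mem_image.1 hx
        obtain ⟨m, hm, rfl⟩ := Finset.mem_image.1 ho
        obtain ⟨σ, hσW, hσ'⟩ := hW (Finset.mem_filter.1 hm).2
        refine Finset.mem_image.2 ⟨σ, hσW, B.φ_inj ?_⟩
        rw [hdia (memH hm hgA), show (D (m * g * m⁻¹)) = B.d ∘ σ from funext fun s => by rw [hσ' g hgA, hDg]; rfl,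
          Eig.φ]
        simp only [← Matrix.mul_assoc]
        rw [B.inv', Matrix.one_mul, Matrix.mul_assoc, B.inv', Matrix.mul_one]
      have h1 := (Finset.card_le_card hsub).trans Finset.card_image_le
      rwa [Finset.card_image_of_injective _ (fun a b e => Subtype.ext (Units.ext e))] at h1
    · -- orthogonal centres
      simp only [Function.Injective, not_forall] at hd
      obtain ⟨i, l, e, hil⟩ := hd
      obtain ⟨σ, hσ0, hσ1⟩ := perm_three i l hil
      set B' := B.perm σ
      have h01 : B'.d 1 = B'.d 0 := by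
        show B.d (σ 1) = B.d (σ 0)
        rw [hσ0, hσ1, e]
      have h02 : B'.d 0 ≠ B'.d 2 := by
        show B.d (σ 0) ≠ B.d (σ 2)
        rw [hσ0]
        exact h.nonscalar hC cls hg B e hil (by rw [← hσ0]; exact fun e' => absurd (σ.injective e') (by decide))
          (by rw [← hσ1]; exact fun e' => absurd (σ.injective e') (by decide))
      set b := B'.blk
      set α := B'.d 0
      set β := B'.d 2
      have hge : ((g : GL3 K) : M3) = α • 1 + (β - α) • vecMulVec b.k b.χ := by
        have := B'.blk_affine h01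
        rw [← b.one_sub_prj, smul_sub, show (β - α) • b.prj = -((α - β) • b.prj) by rw [← neg_smul, neg_sub]]
        rw [this, sub_smul]
        abel
      have hrep : ∀ o ∈ O, ∃ kk χ : Fin 3 → K, χ ⬝ᵥ kk = 1 ∧
          ((o : GL3 K) : M3) = α • 1 + (β - α) • vecMulVec kk χ := by
        intro o ho
        obtain ⟨m, -, rfl⟩ := Finset.mem_image.1 ho
        refine ⟨((m : GL3 K) : M3) *ᵥ b.k, b.χ ᵥ* (((m : GL3 K)⁻¹ : GL3 K) : M3),
          (conj_dot (m : GL3 K) b.k b.χ).trans b.χk, ?_⟩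
        rw [Subgroup.coe_mul, Subgroup.coe_mul, Units.val_mul, Units.val_mul, hge, Matrix.mul_add, Matrix.add_mul,
          Matrix.mul_smul, Matrix.smul_mul, Matrix.mul_one, ← Units.val_mul, Subgroup.coe_inv, mul_inv_cancel,
          Units.val_one, Matrix.mul_smul, Matrix.smul_mul, mul_vecMulVec, vecMulVec_mul]
      choose kk χ hχk hrep using hrep
      have hOA : ∀ o ∈ O, o ∈ A := fun o ho => by
        obtain ⟨m, hm, rfl⟩ := Finset.mem_image.1 ho
        exact memH hm hgA
      have horth : ∀ (o : M) (ho : o ∈ O) (o' : M) (ho' : o' ∈ O), o ≠ o' → χ o ho ⬝ᵥ kk o' ho' = 0 := by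
        intro o ho o' ho' hne
        have hc : ((o : GL3 K) : M3) * ((o' : GL3 K) : M3) = ((o' : GL3 K) : M3) * ((o : GL3 K) : M3) := by
          rw [← Units.val_mul, ← Units.val_mul, ← Subgroup.coe_mul, ← Subgroup.coe_mul,
            habel (hOA o ho) (hOA o' ho')]
        rw [hrep o ho, hrep o' ho'] at hc
        simp only [Matrix.add_mul, Matrix.mul_add, Matrix.smul_mul, Matrix.mul_smul, Matrix.one_mul, Matrix.mul_one,
          smul_add, smul_smul] at hc
        have hne0 : (β - α) * (β - α) ≠ 0 := mul_ne_zero (sub_ne_zero.2 h02.symm) (sub_ne_zero.2 h02.symm)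
        have hc' : vecMulVec (kk o ho) (χ o ho) * vecMulVec (kk o' ho') (χ o' ho') =
            vecMulVec (kk o' ho') (χ o' ho') * vecMulVec (kk o ho) (χ o ho) := by
          refine smul_right_injective M3 hne0 ?_
          show ((β - α) * (β - α)) • _ = ((β - α) * (β - α)) • _
          linear_combination (norm := module) hc
        rcases orth_or_eq (hχk o ho) (hχk o' ho') hc' with h' | h'
        · exact h'.1
        · exact absurd (Subtype.ext (Units.ext (by rw [hrep o ho, hrep o' ho', h']))) hne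
      have hli : LinearIndependent K (fun o : {o // o ∈ O} => kk o.1 o.2) := by
        rw [Fintype.linearIndependent_iff]
        intro f hf o
        have := congrArg (fun v => χ o.1 o.2 ⬝ᵥ v) hf
        rw [dotProduct_sum, dotProduct_zero, Finset.sum_eq_single o] at this
        · rwa [dotProduct_smul, hχk, smul_eq_mul, mul_one] at this
        · intro o' _ hne
          rw [dotProduct_smul, horth o.1 o.2 o'.1 o'.2 (fun e => hne (Subtype.ext e.symm)), smul_zero]
        · intro hno; exact absurd (Finset.mem_univ o) hno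
      have := hli.fintype_card_le_finrank
      rwa [Fintype.card_coe, Module.finrank_pi, Fintype.card_fin] at this
  have hH : Nat.card H ≤ Nat.card A * 3 := by
    have hfib : ∀ o ∈ Hs.image (fun m => m * g * m⁻¹), (Hs.filter fun m => m * g * m⁻¹ = o).card ≤ Nat.card A := by
      intro o ho
      obtain ⟨m0, -, rfl⟩ := Finset.mem_image.1 ho
      rw [← Nat.card_eq_finsetCard]
      refine Nat.card_le_card_of_injective (fun m => (⟨m0⁻¹ * m.1, memA.2 ?_⟩ : A))
        fun x y e => Subtype.ext (by simpa using congrArg Subtype.val e)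
      have hm : m.1 * g * m.1⁻¹ = m0 * g * m0⁻¹ := (Finset.mem_filter.1 m.2).2
      calc m0⁻¹ * m.1 * g = m0⁻¹ * (m.1 * g * m.1⁻¹) * m.1 := by group
        _ = g * (m0⁻¹ * m.1) := by rw [hm]; group
    have h1 := Finset.card_le_mul_card_image Hs (Nat.card A) hfib
    have h2 : Nat.card H = Hs.card := by
      rw [← Nat.card_eq_finsetCard]
      exact Nat.card_congr (Equiv.subtypeEquivRight fun m => by simp [Hs])
    rw [h2]
    exact h1.trans (Nat.mul_le_mul le_rfl hO)
  -- contradiction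
  have hsub : Nat.card (Abs.cl S) ≤ Nat.card (Abs.Ax.Rest k h.zM (⟨c, hC.mc⟩ : M) ⟨j, hC.mj⟩ h.xM) := by
    refine Nat.card_le_card_of_injective (fun q => ⟨q.1, ?_⟩)
      fun x y e => Subtype.ext (congrArg Subtype.val e :)
    obtain ⟨m, s, ⟨hs, hne⟩, e⟩ := q.2
    show ¬ h.Covd hC q.1
    rw [e]
    exact h.uncov_conj hC cls (hunc hs hne) m
  have hrest := AX.rest_card
  have h4 := Nat.le_of_dvd AX.kpos AX.four
  have hA9 : 9 ≤ Nat.card A := by
    obtain ⟨q, hq⟩ := hA3
    obtain ⟨r, hr⟩ := hAodd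
    omega
  have h8 : 8 * Nat.card M ≤ 36 * Nat.card (Abs.Ax.Rest k h.zM (⟨c, hC.mc⟩ : M) ⟨j, hC.mj⟩ h.xM) := by
    have h1 : Nat.card M * Nat.card S ≤
        Nat.card (Abs.Ax.Rest k h.zM (⟨c, hC.mc⟩ : M) ⟨j, hC.mj⟩ h.xM) * (Nat.card A * 3) :=
      hcl ▸ Nat.mul_le_mul hsub hH
    have h2 : Nat.card M * (2 * Nat.card A) ≤ Nat.card M * (3 * Nat.card S) := Nat.mul_le_mul le_rfl (by omega)
    nlinarith
  have hMpos : 0 < Nat.card M := Nat.card_pos
  nlinarith

end Setup

end CfsgLib.HessianMax
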