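import Cfsg.Agent.Lib.HessianMax.Basic

/-!
The Heisenberg group of order 27 in standard coordinates, and the setting of the maximality proof.
-/

set_option autoImplicit false
set_option linter.unusedSectionVars false

namespace CfsgLib.HessianMax

open Matrix Polynomial

variable {K : Type*} [Field K]

local notation "M3" => Matrix (Fin 3) (Fin 3) K

/-- `diag(1, ω, ω²)`. -/
def Xm (ω : K) : M3 := !![1, 0, 0; 0, ω, 0; 0, 0, ω ^ 2]

/-- The cyclic permutation. -/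
def Ym : M3 := !![0, 1, 0; 0, 0, 1; 1, 0, 0]

/-- The central involution of the quaternion group. -/
def tm : M3 := !![-1, 0, 0; 0, 0, -1; 0, -1, 0]

/-- The scaled Fourier matrix. -/
def gm (ω : K) : M3 := (ω - ω ^ 2)⁻¹ • !![1, 1, 1; 1, ω, ω ^ 2; 1, ω ^ 2, ω]

/-- Its conjugate under `diag(ω, 1, 1)`. -/
def hgm (ω : K) : M3 := (ω - ω ^ 2)⁻¹ • !![1, ω, ω; ω ^ 2, ω, ω ^ 2; ω ^ 2, ω ^ 2, ω]

/-- `diag(ω, 1, 1)`. -/
def Dm (ω : K) : M3 := !![ω, 0, 0; 0, 1, 0; 0, 0, 1]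

/-- The matrices `ω^i X^j Y^k`. -/
def InR (ω : K) (A : M3) : Prop := ∃ i j k : ℕ, A = ω ^ i • (Xm ω ^ j * (Ym : M3) ^ k)

/-- The hypotheses of the maximality proof. -/
structure Setup (p : ℕ) (ω : K) (M : Subgroup (GL3 K)) : Prop where
  p7 : 7 ≤ p
  om : ω ^ 2 + ω + 1 = 0
  det : ∀ g ∈ M, (g : Matrix (Fin 3) (Fin 3) K).det = 1
  notv : NoTv M
  nopp : ∀ u ∈ M, ∀ v ∈ M, u ^ p = 1 → v ^ p = 1 → u ≠ 1 → u * v = v * u → ∃ i : ℕ, v = u ^ i
  mX : ∃ g ∈ M, (g : Matrix (Fin 3) (Fin 3) K) = Xm ω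
  mY : ∃ g ∈ M, (g : Matrix (Fin 3) (Fin 3) K) = Ym
  mg : ∃ g ∈ M, (g : Matrix (Fin 3) (Fin 3) K) = gm ω
  mh : ∃ g ∈ M, (g : Matrix (Fin 3) (Fin 3) K) = hgm ω
  split : ∀ g ∈ M, (g : Matrix (Fin 3) (Fin 3) K).charpoly.Splits
  sq : ∀ g ∈ M, ∀ x : K, (g : Matrix (Fin 3) (Fin 3) K).charpoly.IsRoot x → IsSquare x
  five : p = 7 → ¬ 5 ∣ Nat.card M

section ident

variable {ω : K} (hω : ω ^ 2 + ω + 1 = 0)
include hω

theorem om3 : ω ^ 3 = 1 := by linear_combination (ω - 1) * hω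

theorem om_ne_zero : ω ≠ 0 := by rintro rfl; simp at hω

theorem delta_sq : (ω - ω ^ 2) ^ 2 = (-3 : K) := by linear_combination (ω ^ 2 - 3 * ω + 3) * hω

variable (h3 : (3 : K) ≠ 0)
include h3

theorem delta_ne : ω - ω ^ 2 ≠ 0 := fun e => h3 (by
  have h := delta_sq hω
  rw [e] at h
  linear_combination h)

theorem om_ne_one : ω ≠ 1 := by
  rintro rfl
  exact h3 (by linear_combination hω)

theorem gm_sq : gm ω * gm ω = (tm : M3) := by
  have hd := delta_ne hω h3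
  rw [gm, Matrix.smul_mul, Matrix.mul_smul, smul_smul, ← mul_inv, ← pow_two, delta_sq hω]
  have h3' : (-3 : K) ≠ 0 := neg_ne_zero.2 h3
  ext i j
  fin_cases i <;> fin_cases j <;> simp [tm, Matrix.mul_apply, Fin.sum_univ_three] <;> field_simp <;> grind

theorem gm_det : (gm ω).det = 1 := by
  have hd := delta_ne hω h3
  rw [gm, det_smul, Fintype.card_fin, det_fin_three]
  simp
  field_simp
  grind

theorem gm_X : gm ω * Xm ω = (Ym : M3) * gm ω := by
  rw [gm, Matrix.smul_mul, Matrix.mul_smul]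
  congr 1
  ext i j
  fin_cases i <;> fin_cases j <;> simp [Xm, Ym, Matrix.mul_apply, Fin.sum_univ_three] <;> grind

theorem gm_Y : gm ω * (Ym : M3) = Xm ω ^ 2 * gm ω := by
  rw [gm, Matrix.smul_mul, Matrix.mul_smul]
  congr 1
  ext i j
  fin_cases i <;> fin_cases j <;> simp [Xm, Ym, pow_two, Matrix.mul_apply, Fin.sum_univ_three] <;> grind

theorem hgm_X : hgm ω * Xm ω = (ω • (Xm ω ^ 2 * (Ym : M3))) * hgm ω := by
  rw [hgm, Matrix.smul_mul, Matrix.mul_smul]
  congr 1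
  ext i j
  fin_cases i <;> fin_cases j <;> simp [Xm, Ym, pow_two, Matrix.mul_apply, Fin.sum_univ_three] <;> grind

theorem hgm_sq : hgm ω * hgm ω = (tm : M3) := by
  have hd := delta_ne hω h3
  rw [hgm, Matrix.smul_mul, Matrix.mul_smul, smul_smul, ← mul_inv, ← pow_two, delta_sq hω]
  have h3' : (-3 : K) ≠ 0 := neg_ne_zero.2 h3
  ext i j
  fin_cases i <;> fin_cases j <;> simp [tm, Matrix.mul_apply, Fin.sum_univ_three] <;> field_simp <;> grind

omit h3

theorem YX : (Ym : M3) * Xm ω = ω • (Xm ω * (Ym : M3)) := by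
  ext i j
  fin_cases i <;> fin_cases j <;> simp [Xm, Ym, Matrix.mul_apply, Fin.sum_univ_three] <;> grind

theorem Xm_cube : Xm ω ^ 3 = 1 := by
  ext i j
  fin_cases i <;> fin_cases j <;> simp [Xm, pow_succ, pow_zero, Matrix.mul_apply, Fin.sum_univ_three] <;> grind

theorem tm_X : (tm : M3) * Xm ω = Xm ω ^ 2 * (tm : M3) := by
  ext i j
  fin_cases i <;> fin_cases j <;> simp [Xm, tm, pow_two, Matrix.mul_apply, Fin.sum_univ_three] <;> grind

theorem Dm_X : Dm ω * Xm ω = Xm ω * Dm ω := by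
  ext i j
  fin_cases i <;> fin_cases j <;> simp [Xm, Dm, Matrix.mul_apply, Fin.sum_univ_three] <;> grind

theorem Dm_Y : Dm ω * (Ym : M3) = (ω • (Xm ω ^ 2 * (Ym : M3))) * Dm ω := by
  ext i j
  fin_cases i <;> fin_cases j <;> simp [Xm, Ym, Dm, pow_two, Matrix.mul_apply, Fin.sum_univ_three] <;> grind

theorem Dm_g : Dm ω * gm ω = hgm ω * Dm ω := by
  rw [gm, hgm, Matrix.smul_mul, Matrix.mul_smul]
  congr 1
  ext i j
  fin_cases i <;> fin_cases j <;> simp [Dm, Matrix.mul_apply, Fin.sum_univ_three] <;> grind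

end ident

theorem Ym_cube : (Ym : M3) ^ 3 = 1 := by
  ext i j
  fin_cases i <;> fin_cases j <;> simp [Ym, pow_succ, pow_zero, Matrix.mul_apply, Fin.sum_univ_three]

theorem tm_Y : (tm : M3) * (Ym : M3) = (Ym : M3) ^ 2 * (tm : M3) := by
  ext i j
  fin_cases i <;> fin_cases j <;> simp [Ym, tm, pow_two, Matrix.mul_apply, Fin.sum_univ_three]

theorem tm_sq : (tm : M3) * tm = 1 := by
  ext i j
  fin_cases i <;> fin_cases j <;> simp [tm, Matrix.mul_apply, Fin.sum_univ_three]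

namespace InR

variable {ω : K} (hω : ω ^ 2 + ω + 1 = 0)
include hω

theorem X_pow_Y : ∀ a b : ℕ, (Ym : M3) ^ b * Xm ω ^ a = ω ^ (a * b) • (Xm ω ^ a * (Ym : M3) ^ b) := by
  have h1 : ∀ a : ℕ, (Ym : M3) * Xm ω ^ a = ω ^ a • (Xm ω ^ a * (Ym : M3)) := by
    intro a
    induction a with
    | zero => simp
    | succ a ih =>
      rw [pow_succ (Xm ω), ← Matrix.mul_assoc, ih, Matrix.smul_mul, Matrix.mul_assoc, YX hω, Matrix.mul_smul,
        smul_smul, ← pow_succ, Matrix.mul_assoc]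
  intro a b
  induction b with
  | zero => simp
  | succ b ih =>
    rw [pow_succ' (Ym : M3), Matrix.mul_assoc, ih, Matrix.mul_smul, ← Matrix.mul_assoc, h1, Matrix.smul_mul,
      smul_smul, ← pow_add, Matrix.mul_assoc]
    rfl

theorem mul {A B : M3} (hA : InR ω A) (hB : InR ω B) : InR ω (A * B) := by
  obtain ⟨i, j, k, rfl⟩ := hA
  obtain ⟨i', j', k', rfl⟩ := hB
  refine ⟨i + i' + j' * k, j + j', k + k', ?_⟩
  rw [Matrix.smul_mul, Matrix.mul_smul, smul_smul, Matrix.mul_assoc, ← Matrix.mul_assoc ((Ym : M3) ^ k),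
    X_pow_Y hω j' k, Matrix.smul_mul, Matrix.mul_smul, smul_smul, pow_add, pow_add (Xm ω), pow_add (Ym : M3),
    pow_add]
  simp only [Matrix.mul_assoc]

theorem one : InR ω (1 : M3) := ⟨0, 0, 0, by simp⟩

theorem pow {A : M3} (hA : InR ω A) : ∀ n : ℕ, InR ω (A ^ n)
  | 0 => by rw [pow_zero]; exact one hω
  | n + 1 => by rw [pow_succ]; exact mul hω (pow hA n) hA

theorem norm {A : M3} (hA : InR ω A) :
    ∃ i j k : ℕ, i < 3 ∧ j < 3 ∧ k < 3 ∧ A = ω ^ i • (Xm ω ^ j * (Ym : M3) ^ k) := by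
  obtain ⟨i, j, k, rfl⟩ := hA
  refine ⟨i % 3, j % 3, k % 3, Nat.mod_lt _ (by norm_num), Nat.mod_lt _ (by norm_num), Nat.mod_lt _ (by norm_num), ?_⟩
  rw [← pow_eq_pow_mod i (om3 hω), ← pow_eq_pow_mod j (Xm_cube hω), ← pow_eq_pow_mod k (Ym_cube : (Ym : M3) ^ 3 = 1)]

end InR

variable (K) in
/-- The subgroup of matrices of the form `ω^i X^j Y^k`. -/
def Rsub [Finite K] (ω : K) (hω : ω ^ 2 + ω + 1 = 0) : Subgroup (GL3 K) where
  carrier := {g | InR ω (g : M3)}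
  one_mem' := by show InR ω ((1 : GL3 K) : M3); rw [Units.val_one]; exact InR.one hω
  mul_mem' {a b} ha hb := by show InR ω ((a * b : GL3 K) : M3); rw [Units.val_mul]; exact InR.mul hω ha hb
  inv_mem' {a} ha := by
    show InR ω ((a⁻¹ : GL3 K) : M3)
    haveI : Finite (GL3 K) := Finite.of_injective _ Units.val_injective
    rw [inv_eq_of_mul_eq_one_left (show a ^ (orderOf a - 1) * a = 1 by
      rw [← pow_succ, Nat.sub_add_cancel (orderOf_pos a), pow_orderOf_eq_one]), Units.val_pow_eq_pow_val]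
    exact InR.pow hω ha _

theorem mem_Rsub [Finite K] {ω : K} {hω : ω ^ 2 + ω + 1 = 0} {g : GL3 K} :
    g ∈ Rsub K ω hω ↔ InR ω (g : M3) := Iff.rfl

/-- An element normalises the group as soon as it moves both generators into it. -/
theorem mem_normalizer_Rsub [Finite K] {ω : K} {hω : ω ^ 2 + ω + 1 = 0} {m : GL3 K} {A B : M3}
    (hA : InR ω A) (hB : InR ω B) (hX : (m : M3) * Xm ω = A * (m : M3)) (hY : (m : M3) * Ym = B * (m : M3)) :
    m ∈ Subgroup.normalizer (Rsub K ω hω : Set (GL3 K)) := by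
  haveI : Finite (GL3 K) := Finite.of_injective _ Units.val_injective
  have key : ∀ g ∈ Rsub K ω hω, m * g * m⁻¹ ∈ Rsub K ω hω := by
    intro g hg
    obtain ⟨i, j, k, e⟩ := hg
    show InR ω ((m * g * m⁻¹ : GL3 K) : M3)
    have pw : ∀ {P Q : M3}, (m : M3) * P = Q * (m : M3) → ∀ n : ℕ, (m : M3) * P ^ n = Q ^ n * (m : M3) := by
      intro P Q h n
      exact SemiconjBy.pow_right h n
    have e2 : (m : M3) * (g : M3) = (ω ^ i • (A ^ j * B ^ k)) * (m : M3) := by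
      rw [e, Matrix.mul_smul, ← Matrix.mul_assoc, pw hX, Matrix.mul_assoc, pw hY, Matrix.smul_mul, Matrix.mul_assoc]
    rw [Units.val_mul, Units.val_mul, e2, Matrix.mul_assoc, ← Units.val_mul, mul_inv_cancel, Units.val_one,
      Matrix.mul_one]
    obtain ⟨a, b, c, h⟩ := InR.mul hω (InR.pow hω hA j) (InR.pow hω hB k)
    exact ⟨i + a, b, c, by rw [h, smul_smul, pow_add]⟩
  rw [Subgroup.mem_normalizer_iff]
  intro g
  refine ⟨key g, fun hg => ?_⟩
  let f : Rsub K ω hω → Rsub K ω hω := fun x => ⟨m * x * m⁻¹, key x x.2⟩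
  have hinj : Function.Injective f := fun x y h => Subtype.ext (by simpa [f] using congrArg Subtype.val h)
  obtain ⟨x, hx⟩ := (Finite.injective_iff_surjective.1 hinj) ⟨m * g * m⁻¹, hg⟩
  have : (x : GL3 K) = g := by simpa [f] using congrArg Subtype.val hx
  exact this ▸ x.2

end CfsgLib.HessianMax
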