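import Cfsg.Agent.Lib.HessianMax.Plane
import Cfsg.Agent.Lib.SL2.Census

/-!
Elements centralising or normalising inside the Heisenberg group.
-/

set_option autoImplicit false
set_option linter.unusedSectionVars false

namespace CfsgLib.HessianMax

open Matrix

variable {K : Type*} [Field K] [Finite K] {p : ℕ} [hp : Fact p.Prime] [CharP K p]

local notation "M3" => Matrix (Fin 3) (Fin 3) K

/-- The commutation character of a matrix with the two generators. -/
def Chr (ω : K) (A : M3) (v : ZMod 3 × ZMod 3) : Prop :=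
  A * Xm ω = ω ^ v.1.val • (Xm ω * A) ∧ A * Ym = ω ^ v.2.val • ((Ym : M3) * A)

namespace Setup

variable {ω : K} {M : Subgroup (GL3 K)} (h : Setup p ω M)
include h

theorem Rsub_le : Rsub K ω h.om ≤ M := fun g hg => by
  obtain ⟨g', hg', e⟩ := h.mem_InR (mem_Rsub.1 hg)
  rwa [← Units.ext e]

theorem omega_pow_eq_one {n : ℕ} : ω ^ n = 1 ↔ 3 ∣ n := by
  constructor
  · intro e
    rw [pow_eq_pow_mod n (om3 h.om)] at e
    have hn := Nat.mod_lt n (show 3 > 0 by norm_num)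
    rw [Nat.dvd_iff_mod_eq_zero]
    interval_cases hh : n % 3
    · rfl
    · exact absurd (by rwa [pow_one] at e) (om_ne_one h.om h.three)
    · exfalso
      apply om_ne_one h.om h.three
      linear_combination -e * ω + om3 h.om
  · rintro ⟨q, rfl⟩
    rw [pow_mul, om3 h.om, one_pow]

theorem pow_val (n : ℕ) : ω ^ ((n : ZMod 3)).val = ω ^ n := by
  rw [ZMod.val_natCast, ← pow_eq_pow_mod n (om3 h.om)]

theorem chr_pow (j k : ℕ) (i : ℕ) :
    Chr ω (ω ^ i • (Xm ω ^ j * (Ym : M3) ^ k)) ((k : ZMod 3), ((2 * j : ℕ) : ZMod 3)) := by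
  have hω := h.om
  constructor
  · rw [h.pow_val, Matrix.smul_mul, Matrix.mul_smul, smul_comm (ω ^ k), Matrix.mul_assoc]
    congr 1
    have e := InR.X_pow_Y hω 1 k
    rw [pow_one, one_mul] at e
    rw [e, Matrix.mul_smul, ← Matrix.mul_assoc, ← Matrix.mul_assoc, (Commute.self_pow (Xm ω) j).eq]
  · rw [h.pow_val, Matrix.smul_mul, Matrix.mul_smul, smul_comm (ω ^ (2 * j)), Matrix.mul_assoc, ← pow_succ,
      ← Matrix.mul_assoc]
    congr 1
    have e := InR.X_pow_Y hω j 1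
    rw [pow_one, mul_one] at e
    rw [e, Matrix.smul_mul, smul_smul, ← pow_add, show 2 * j + j = 3 * j by ring, pow_mul, om3 hω, one_pow,
      one_smul, Matrix.mul_assoc, ← pow_succ']

theorem chr_unique {g : GL3 K} {v w : ZMod 3 × ZMod 3} (h1 : Chr ω (g : M3) v) (h2 : Chr ω (g : M3) w) : v = w := by
  have cancel : ∀ {B : GL3 K} {a b : ZMod 3}, ω ^ a.val • ((B : M3) * (g : M3)) = ω ^ b.val • ((B : M3) * (g : M3)) →
      a = b := by
    intro B a b e
    have e' := congrArg (fun N : M3 => N * (((B * g)⁻¹ : GL3 K) : M3)) e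
    simp only [← Units.val_mul, Matrix.smul_mul, mul_inv_cancel, Units.val_one] at e'
    have := congrFun (congrFun e' 0) 0
    simp at this
    apply ZMod.val_injective
    have ha := ZMod.val_lt a
    have hb := ZMod.val_lt b
    have hω0 := om_ne_zero h.om
    rcases le_total a.val b.val with hle | hle
    · have : ω ^ (b.val - a.val) = 1 := by
        apply mul_left_cancel₀ (pow_ne_zero a.val hω0)
        rw [← pow_add, Nat.add_sub_cancel' hle, mul_one, this]
      have := h.omega_pow_eq_one.1 this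
      omega
    · have : ω ^ (a.val - b.val) = 1 := by
        apply mul_left_cancel₀ (pow_ne_zero b.val hω0)
        rw [← pow_add, Nat.add_sub_cancel' hle, mul_one, this]
      have := h.omega_pow_eq_one.1 this
      omega
  obtain ⟨x, -, ex⟩ := h.mX
  obtain ⟨y, -, ey⟩ := h.mY
  refine Prod.ext (cancel (B := x) ?_) (cancel (B := y) ?_)
  · rw [ex, ← h1.1, ← h2.1]
  · rw [ey, ← h1.2, ← h2.2]

theorem scalar_of_chr {r : GL3 K} (hr : InR ω (r : M3)) (h1 : Chr ω (r : M3) 0) :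
    ∃ i < 3, (r : M3) = ω ^ i • 1 := by
  obtain ⟨i, j, k, hi, hj, hk, e⟩ := InR.norm h.om hr
  have := h.chr_unique h1 (e ▸ h.chr_pow j k i)
  simp only [Prod.ext_iff, Prod.fst_zero, Prod.snd_zero] at this
  have a := (ZMod.natCast_eq_zero_iff k 3).1 this.1.symm
  have b := (ZMod.natCast_eq_zero_iff (2 * j) 3).1 this.2.symm
  obtain rfl : k = 0 := by omega
  obtain rfl : j = 0 := by omega
  exact ⟨i, hi, by rw [e, pow_zero, pow_zero, Matrix.one_mul]⟩

theorem chr_of_scalar {r : GL3 K} {c : K} (e : (r : M3) = c • 1) : Chr ω (r : M3) 0 := by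
  simp [Chr, e]

/-- Each non-scalar element of the group is conjugate to a scalar multiple of `X` by an element normalising it. -/
theorem conj_X {r : GL3 K} (hr : InR ω (r : M3)) (hns : ¬ Chr ω (r : M3) 0) :
    ∃ y ∈ M, y ∈ Subgroup.normalizer (Rsub K ω h.om : Set (GL3 K)) ∧
      ∃ i, (y : M3) * Xm ω = ω ^ i • ((r : M3) * (y : M3)) := by
  have hω := h.om
  have h3 := h.three
  obtain ⟨i, j, k, hi, hj, hk, e⟩ := InR.norm hω hr
  have hjk : ¬ (j = 0 ∧ k = 0) := by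
    rintro ⟨rfl, rfl⟩
    exact hns (h.chr_of_scalar (c := ω ^ i) (by rw [e, pow_zero, pow_zero, Matrix.one_mul]))
  obtain ⟨g, hg, eg⟩ := h.mg
  obtain ⟨g', hg', eg'⟩ := h.mh
  obtain ⟨t, ht, et⟩ := h.mem_t
  set Nr := Subgroup.normalizer (Rsub K ω hω : Set (GL3 K))
  have pw : ∀ {P Q T : M3}, T * P = Q * T → ∀ n : ℕ, T * P ^ n = Q ^ n * T := fun h n => SemiconjBy.pow_right h n
  have ng : g ∈ Nr := mem_normalizer_Rsub (A := (Ym : M3)) (B := Xm ω ^ 2) ⟨0, 0, 1, by simp⟩ ⟨0, 2, 0, by simp⟩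
    (by rw [eg]; exact gm_X hω h3) (by rw [eg]; exact gm_Y hω h3)
  have nh : g' ∈ Nr := by
    refine mem_normalizer_Rsub (A := ω • (Xm ω ^ 2 * (Ym : M3))) (B := ω ^ 2 • (Xm ω * (Ym : M3)))
      ⟨1, 2, 1, by simp⟩ ⟨2, 1, 1, by simp⟩ (by rw [eg']; exact hgm_X hω h3) ?_
    rw [eg', hgm, Matrix.smul_mul, Matrix.mul_smul]
    congr 1
    ext a b
    fin_cases a <;> fin_cases b <;> simp [Xm, Ym, Matrix.mul_apply, Fin.sum_univ_three] <;> grind
  have nt : t ∈ Nr := by
    have : t = g * g := Units.ext (by rw [et, Units.val_mul, eg, gm_sq hω h3])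
    rw [this]
    exact mul_mem ng ng
  -- the eight images
  let Img : GL3 K → ℕ → ℕ → Prop := fun y j k => y ∈ M ∧ y ∈ Nr ∧
    ∃ c : ℕ, (y : M3) * Xm ω = (ω ^ c • (Xm ω ^ j * (Ym : M3) ^ k)) * (y : M3)
  suffices hex : ∃ y, Img y j k by
    obtain ⟨y, hy, hy', c, hc⟩ := hex
    refine ⟨y, hy, hy', c + 2 * i, ?_⟩
    rw [hc, e, Matrix.smul_mul, Matrix.smul_mul, smul_smul, ← pow_add, show c + 2 * i + i = c + 3 * i by ring,
      pow_add ω c (3 * i), pow_mul ω 3 i, om3 hω, one_pow, mul_one]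
  have s10 : Img 1 1 0 := ⟨one_mem _, one_mem _, 0, by simp⟩
  have s20 : Img t 2 0 := ⟨ht, nt, 0, by rw [et, tm_X hω]; simp⟩
  have s01 : Img g 0 1 := ⟨hg, ng, 0, by rw [eg, gm_X hω h3]; simp⟩
  have s02 : Img (g * t) 0 2 := ⟨mul_mem hg ht, mul_mem ng nt, 0, by
    rw [Units.val_mul, et, eg, Matrix.mul_assoc, tm_X hω, ← Matrix.mul_assoc, pw (gm_X hω h3) 2, Matrix.mul_assoc]
    simp⟩
  have s21 : Img g' 2 1 := ⟨hg', nh, 1, by rw [eg', hgm_X hω h3]; simp⟩
  have eYX2 : ((Xm ω ^ 2 * (Ym : M3)) * (Xm ω ^ 2 * (Ym : M3))) = ω ^ 2 • (Xm ω ^ 1 * (Ym : M3) ^ 2) := by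
    have e := InR.X_pow_Y hω 2 1
    rw [pow_one, mul_one] at e
    calc (Xm ω ^ 2 * (Ym : M3)) * (Xm ω ^ 2 * (Ym : M3)) = Xm ω ^ 2 * ((Ym : M3) * Xm ω ^ 2) * (Ym : M3) := by
          simp only [Matrix.mul_assoc]
      _ = ω ^ 2 • (Xm ω ^ 4 * (Ym : M3) ^ 2) := by
          rw [e, Matrix.mul_smul, Matrix.smul_mul, pow_two (Ym : M3)]
          simp only [← Matrix.mul_assoc, ← pow_add]
      _ = _ := by rw [pow_eq_pow_mod 4 (Xm_cube hω)]
  have s12 : Img (g' * t) 1 2 := ⟨mul_mem hg' ht, mul_mem nh nt, 4, by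
    rw [Units.val_mul, et, eg', Matrix.mul_assoc, tm_X hω, ← Matrix.mul_assoc, pw (hgm_X hω h3) 2, Matrix.mul_assoc]
    congr 1
    rw [smul_pow, pow_two (Xm ω ^ 2 * (Ym : M3)), eYX2, smul_smul, ← pow_add]⟩
  have eg22 : gm ω * (Xm ω ^ 2 * (Ym : M3)) = (ω • (Xm ω ^ 2 * (Ym : M3) ^ 2)) * gm ω := by
    rw [← Matrix.mul_assoc, pw (gm_X hω h3) 2, Matrix.mul_assoc, gm_Y hω h3, ← Matrix.mul_assoc]
    congr 1
    rw [InR.X_pow_Y hω 2 2, show ω ^ (2 * 2) = ω by rw [pow_eq_pow_mod _ (om3 hω)]; norm_num]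
  have s22 : Img (g * g') 2 2 := ⟨mul_mem hg hg', mul_mem ng nh, 2, by
    rw [Units.val_mul, eg, eg', Matrix.mul_assoc, hgm_X hω h3, Matrix.smul_mul, Matrix.mul_smul,
      ← Matrix.mul_assoc (gm ω), eg22, Matrix.smul_mul, Matrix.smul_mul, smul_smul, ← pow_two,
      Matrix.smul_mul, Matrix.mul_assoc (Xm ω ^ 2 * (Ym : M3) ^ 2)]⟩
  have eX22 : (Xm ω ^ 2 * (Ym : M3) ^ 2) * (Xm ω ^ 2 * (Ym : M3) ^ 2) = ω ^ 4 • (Xm ω ^ 1 * (Ym : M3) ^ 1) := by
    calc _ = Xm ω ^ 2 * ((Ym : M3) ^ 2 * Xm ω ^ 2) * (Ym : M3) ^ 2 := by simp only [Matrix.mul_assoc]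
      _ = ω ^ (2 * 2) • (Xm ω ^ 4 * (Ym : M3) ^ 4) := by
          rw [InR.X_pow_Y hω 2 2, Matrix.mul_smul, Matrix.smul_mul]
          congr 1
          rw [show (4 : ℕ) = 2 + 2 from rfl, pow_add, pow_add]
          simp only [Matrix.mul_assoc]
      _ = _ := by rw [pow_eq_pow_mod 4 (Xm_cube hω), pow_eq_pow_mod 4 (Ym_cube : (Ym : M3) ^ 3 = 1)]
  have s11 : Img (g * g' * t) 1 1 := ⟨mul_mem (mul_mem hg hg') ht, mul_mem (mul_mem ng nh) nt, 8, by
    obtain ⟨-, -, -⟩ := s22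
    have e22 : gm ω * hgm ω * Xm ω = (ω ^ 2 • (Xm ω ^ 2 * (Ym : M3) ^ 2)) * (gm ω * hgm ω) := by
      rw [Matrix.mul_assoc, hgm_X hω h3, Matrix.smul_mul, Matrix.mul_smul, ← Matrix.mul_assoc (gm ω), eg22,
        Matrix.smul_mul, Matrix.smul_mul, smul_smul, ← pow_two, Matrix.smul_mul,
        Matrix.mul_assoc (Xm ω ^ 2 * (Ym : M3) ^ 2)]
    rw [Units.val_mul, Units.val_mul, et, eg, eg', Matrix.mul_assoc, tm_X hω, ← Matrix.mul_assoc, pw e22 2,
      Matrix.mul_assoc]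
    congr 1
    rw [smul_pow, pow_two (Xm ω ^ 2 * (Ym : M3) ^ 2), eX22, smul_smul, ← pow_mul, ← pow_add]⟩
  interval_cases j <;> interval_cases k
  exacts [absurd ⟨rfl, rfl⟩ hjk, ⟨g, s01⟩, ⟨g * t, s02⟩, ⟨1, s10⟩, ⟨g * g' * t, s11⟩, ⟨g' * t, s12⟩, ⟨t, s20⟩,
    ⟨g', s21⟩, ⟨g * g', s22⟩]

/-- A subgroup in which the Heisenberg group is self-centralising. -/
structure Thin (N : Subgroup (GL3 K)) : Prop where
  le : N ≤ M
  conj : ∀ m ∈ M, ∀ n ∈ N, m * n * m⁻¹ ∈ N
  sub : Rsub K ω h.om ≤ N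
  cx : ∀ n ∈ N, (n : M3) * Xm ω = Xm ω * (n : M3) → InR ω (n : M3)

/-- Diagonal elements: enough that those fixed by the involution are scalars. -/
theorem thin_of_diag {N : Subgroup (GL3 K)} (hle : N ≤ M) (hconj : ∀ m ∈ M, ∀ n ∈ N, m * n * m⁻¹ ∈ N)
    (hsub : Rsub K ω h.om ≤ N)
    (hd : ∀ n ∈ N, (n : M3) * Xm ω = Xm ω * (n : M3) → (n : M3) * tm = tm * (n : M3) → ∃ c : K, (n : M3) = c • 1) :
    h.Thin N := by
  refine ⟨hle, hconj, hsub, fun n hn hX => ?_⟩
  have hω := h.om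
  have h3 := h.three
  have hω0 := om_ne_zero hω
  have hω1 := om_ne_one hω h3
  have hω2 : ω ^ 2 ≠ 1 := fun e => hω1 (by linear_combination -ω * e + om3 hω)
  -- diagonal
  have diag : ∀ {z : GL3 K}, (z : M3) * Xm ω = Xm ω * (z : M3) →
      (z : M3) = !![(z : M3) 0 0, 0, 0; 0, (z : M3) 1 1, 0; 0, 0, (z : M3) 2 2] := by
    intro z hz
    have e : ∀ a b, ((z : M3) * Xm ω) a b = (Xm ω * (z : M3)) a b := fun a b => by rw [hz]
    have e01 := e 0 1
    have e02 := e 0 2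
    have e10 := e 1 0
    have e12 := e 1 2
    have e20 := e 2 0
    have e21 := e 2 1
    simp [Xm, Matrix.mul_apply, vecMul, dotProduct, Fin.sum_univ_three] at e01 e02 e10 e12 e20 e21
    have hω12 : ω ^ 2 - ω ≠ 0 := fun e' => by
      rcases mul_eq_zero.1 (show ω * (ω - 1) = 0 by linear_combination e') with a | a
      exacts [hω0 a, hω1 (sub_eq_zero.1 a)]
    have z0 : ∀ {a x : K}, a ≠ 0 → a * x = 0 → x = 0 := fun ha hx => (mul_eq_zero.1 hx).resolve_left ha
    have a01 := z0 (sub_ne_zero.2 hω1) (show (ω - 1) * (z : M3) 0 1 = 0 by linear_combination e01)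
    have a02 := z0 (sub_ne_zero.2 hω2) (show (ω ^ 2 - 1) * (z : M3) 0 2 = 0 by linear_combination e02)
    have a10 := z0 (sub_ne_zero.2 hω1) (show (ω - 1) * (z : M3) 1 0 = 0 by linear_combination -e10)
    have a12 := z0 hω12 (show (ω ^ 2 - ω) * (z : M3) 1 2 = 0 by linear_combination e12)
    have a20 := z0 (sub_ne_zero.2 hω2) (show (ω ^ 2 - 1) * (z : M3) 2 0 = 0 by linear_combination -e20)
    have a21 := z0 hω12 (show (ω ^ 2 - ω) * (z : M3) 2 1 = 0 by linear_combination -e21)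
    ext a b
    fin_cases a <;> fin_cases b <;> simp [a01, a02, a10, a12, a20, a21]
  obtain ⟨t, ht, et⟩ := h.mem_t
  obtain ⟨y, hy, ey⟩ := h.mY
  -- the relation from the involution
  have rel : ∀ {z : GL3 K}, z ∈ N → (z : M3) * Xm ω = Xm ω * (z : M3) →
      (z : M3) 0 0 ^ 2 = (z : M3) 1 1 * (z : M3) 2 2 ∧ (z : M3) 0 0 * (z : M3) 1 1 * (z : M3) 2 2 = 1 := by
    intro z hz hzX
    have dz := diag hzX
    set a := (z : M3) 0 0
    set b := (z : M3) 1 1
    set c := (z : M3) 2 2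
    have htz : ((t * z * t⁻¹ : GL3 K) : M3) = !![a, 0, 0; 0, c, 0; 0, 0, b] := by
      have e' : (t : M3) * (z : M3) = !![a, 0, 0; 0, c, 0; 0, 0, b] * (t : M3) := by
        rw [et, dz]
        ext i j
        fin_cases i <;> fin_cases j <;> simp [tm, Matrix.mul_apply, Fin.sum_univ_three]
      rw [Units.val_mul, Units.val_mul, e', Matrix.mul_assoc, ← Units.val_mul, mul_inv_cancel, Units.val_one,
        Matrix.mul_one]
    have hw : ((z * (t * z * t⁻¹) : GL3 K) : M3) = !![a * a, 0, 0; 0, b * c, 0; 0, 0, c * b] := by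
      rw [Units.val_mul, htz, dz]
      ext i j
      fin_cases i <;> fin_cases j <;> simp [Matrix.mul_apply, Fin.sum_univ_three]
    obtain ⟨k, hk⟩ := hd _ (mul_mem hz (hconj t (ht) z hz)) (by
        rw [hw]; ext i j; fin_cases i <;> fin_cases j <;> simp [Xm, Matrix.mul_apply, Fin.sum_univ_three] <;> ring) (by
        rw [hw]; ext i j; fin_cases i <;> fin_cases j <;> simp [tm, Matrix.mul_apply, Fin.sum_univ_three] <;> ring)
    rw [hw] at hk
    have k0 := congrFun (congrFun hk 0) 0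
    have k1 := congrFun (congrFun hk 1) 1
    simp at k0 k1
    refine ⟨by rw [pow_two, k0, k1], ?_⟩
    rw [← h.det z (hle hz), dz]
    simp [det_fin_three, a, b, c]
  have dn := diag hX
  set a := (n : M3) 0 0
  set b := (n : M3) 1 1
  set c := (n : M3) 2 2
  obtain ⟨ha, hdet⟩ := rel hn hX
  have hyn : ((y * n * y⁻¹ : GL3 K) : M3) = !![b, 0, 0; 0, c, 0; 0, 0, a] := by
    have e' : (y : M3) * (n : M3) = !![b, 0, 0; 0, c, 0; 0, 0, a] * (y : M3) := by
      rw [ey, dn]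
      ext i j
      fin_cases i <;> fin_cases j <;> simp [Ym, Matrix.mul_apply, Fin.sum_univ_three]
    rw [Units.val_mul, Units.val_mul, e', Matrix.mul_assoc, ← Units.val_mul, mul_inv_cancel, Units.val_one,
      Matrix.mul_one]
  obtain ⟨hb, -⟩ := rel (hconj y hy n hn) (by
    rw [hyn]; ext i j; fin_cases i <;> fin_cases j <;> simp [Xm, Matrix.mul_apply, Fin.sum_univ_three] <;> ring)
  simp [hyn] at hb
  obtain ⟨i, -, hi⟩ := h.cube_root (x := a) (by linear_combination hdet + a * ha)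
  obtain ⟨j, -, hj⟩ := h.cube_root (x := b) (by linear_combination hdet + b * hb)
  refine ⟨i, j + 2 * i, 0, ?_⟩
  rw [dn, pow_zero, Matrix.mul_one]
  have ha0 : a ≠ 0 := by rw [hi]; exact pow_ne_zero _ hω0
  have hc : a * c = b * b := by linear_combination -hb
  have e3 : ω ^ (3 * i) = 1 := h.omega_pow_eq_one.2 (dvd_mul_right 3 i)
  have eb : b = ω ^ i * ω ^ (j + 2 * i) := by
    rw [hj, ← pow_add, show i + (j + 2 * i) = j + 3 * i by ring, pow_add, e3, mul_one]
  have ec : c = ω ^ i * (ω ^ (j + 2 * i)) ^ 2 := by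
    apply mul_left_cancel₀ ha0
    rw [hc, eb, hi]
    ring
  have hX' : Xm ω ^ (j + 2 * i) = !![1, 0, 0; 0, ω ^ (j + 2 * i), 0; 0, 0, (ω ^ (j + 2 * i)) ^ 2] := by
    generalize j + 2 * i = m
    induction m with
    | zero => rw [pow_zero, pow_zero, one_pow, one_fin_three]
    | succ m ih =>
      rw [pow_succ, ih]
      ext u v
      fin_cases u <;> fin_cases v <;> simp [Xm, Matrix.mul_apply, Fin.sum_univ_three, pow_succ, mul_pow] <;> ring
  rw [hX']
  ext u v
  fin_cases u <;> fin_cases v <;> simp [hi, eb, ec]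

namespace Thin

variable {h} {N : Subgroup (GL3 K)} (hN : h.Thin N)
include hN

/-- An element centralising a non-scalar element of the group lies in it. -/
theorem cent {r n : GL3 K} (hr : InR ω (r : M3)) (hns : ¬ Chr ω (r : M3) 0) (hn : n ∈ N)
    (hc : n * r = r * n) : InR ω (n : M3) := by
  obtain ⟨y, hy, hy', i, e⟩ := h.conj_X hr hns
  have h1 : y⁻¹ * n * y ∈ N := by simpa using hN.conj y⁻¹ (inv_mem hy) n hn
  have e2 : (y⁻¹ * n * y : GL3 K) ∈ Rsub K ω h.om := by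
    refine hN.cx _ h1 ?_
    have hω0 : ω ^ i ≠ 0 := pow_ne_zero _ (om_ne_zero h.om)
    have eX : Xm ω = ω ^ i • ((y⁻¹ * r * y : GL3 K) : M3) := by
      rw [Units.val_mul, Units.val_mul, Matrix.mul_assoc, ← Matrix.mul_smul, ← e, ← Matrix.mul_assoc, ← Units.val_mul,
        inv_mul_cancel, Units.val_one, Matrix.one_mul]
    rw [eX, Matrix.mul_smul, Matrix.smul_mul, ← Units.val_mul, ← Units.val_mul]
    rw [show y⁻¹ * n * y * (y⁻¹ * r * y) = y⁻¹ * r * y * (y⁻¹ * n * y) by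
      simp only [mul_assoc, mul_inv_cancel_left]; rw [← mul_assoc n, hc, mul_assoc]]
  have := (Subgroup.mem_normalizer_iff.1 hy' _).1 e2
  rwa [show y * (y⁻¹ * n * y) * y⁻¹ = n by group, mem_Rsub] at this

/-- An element fixing a non-scalar element modulo scalars lies in the group. -/
theorem lift {r n : GL3 K} (hr : InR ω (r : M3)) (hns : ¬ Chr ω (r : M3) 0) (hn : n ∈ N) {i : ℕ}
    (hc : (n : M3) * (r : M3) = ω ^ i • ((r : M3) * (n : M3))) : InR ω (n : M3) := by
  obtain ⟨y, hy, hy', k, e⟩ := h.conj_X hr hns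
  obtain ⟨w, -, ew⟩ := h.mY
  have hwR : w ∈ Rsub K ω h.om := ⟨0, 0, 1, by rw [ew]; simp⟩
  obtain ⟨v, hvdef⟩ : ∃ v : GL3 K, v = y * w ^ (2 * i) * y⁻¹ := ⟨_, rfl⟩
  have hv : v ∈ Rsub K ω h.om := hvdef ▸ (Subgroup.mem_normalizer_iff.1 hy' _).1 (pow_mem hwR _)
  have hω0 := om_ne_zero h.om
  have evr : (v : M3) * (r : M3) = ω ^ (2 * i) • ((r : M3) * (v : M3)) := by
    have e' : ω ^ k • (r : M3) = (y : M3) * Xm ω * ((y⁻¹ : GL3 K) : M3) := by
      rw [e, Matrix.smul_mul, Matrix.mul_assoc, ← Units.val_mul, mul_inv_cancel, Units.val_one, Matrix.mul_one]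
    have hwX : (w : M3) ^ (2 * i) * Xm ω = ω ^ (2 * i) • (Xm ω * (w : M3) ^ (2 * i)) := by
      have := InR.X_pow_Y h.om 1 (2 * i)
      rw [pow_one, one_mul] at this
      rw [ew, this]
    apply smul_right_injective _ (pow_ne_zero k hω0)
    show ω ^ k • ((v : M3) * (r : M3)) = ω ^ k • _
    rw [← Matrix.mul_smul, e', smul_comm (ω ^ k), ← Matrix.smul_mul, e']
    simp only [hvdef, Units.val_mul, Units.val_pow_eq_pow_val, Matrix.mul_assoc]
    rw [← Matrix.mul_assoc ((y⁻¹ : GL3 K) : M3) (y : M3), ← Units.val_mul, inv_mul_cancel, Units.val_one,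
      Matrix.one_mul, ← Matrix.mul_assoc ((y⁻¹ : GL3 K) : M3) (y : M3), ← Units.val_mul, inv_mul_cancel, Units.val_one,
      Matrix.one_mul, ← Matrix.mul_assoc ((w : M3) ^ (2 * i)) (Xm ω), hwX]
    simp only [Matrix.smul_mul, Matrix.mul_smul, Matrix.mul_assoc]
  have hcomm : v * n * r = r * (v * n) := Units.ext (by
    rw [Units.val_mul, Units.val_mul, Units.val_mul, Units.val_mul, Matrix.mul_assoc, hc, Matrix.mul_smul,
      ← Matrix.mul_assoc, evr, Matrix.smul_mul, smul_smul, ← pow_add, show i + 2 * i = 3 * i by ring,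
      h.omega_pow_eq_one.2 (dvd_mul_right 3 i), one_smul, Matrix.mul_assoc])
  have h1 : v * n ∈ Rsub K ω h.om := hN.cent hr hns (mul_mem (hN.sub hv) hn) hcomm
  have := mul_mem (inv_mem hv) h1
  rwa [inv_mul_cancel_left, mem_Rsub] at this

/-- Elements of odd order normalising the group lie in it. -/
theorem norm_odd {z : GL3 K} (hz : z ∈ N) (hzn : z ∈ Subgroup.normalizer (Rsub K ω h.om : Set (GL3 K)))
    (hodd : Odd (orderOf z)) : InR ω (z : M3) := by
  classical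
  set R := Rsub K ω h.om
  let A : Subgroup (GL3 K) := N ⊓ Subgroup.normalizer (R : Set (GL3 K))
  let S := {v : ZMod 3 × ZMod 3 // v ≠ 0}
  obtain ⟨x, -, ex⟩ := h.mX
  obtain ⟨w, -, ew⟩ := h.mY
  let rep : S → GL3 K := fun v => x ^ (2 * v.1.2.val) * w ^ v.1.1.val
  have repR : ∀ v, InR ω (rep v : M3) := fun v => ⟨0, 2 * v.1.2.val, v.1.1.val, by
    simp [rep, ex, ew]⟩
  have repC : ∀ v, Chr ω (rep v : M3) v.1 := fun v => by
    have := h.chr_pow (2 * v.1.2.val) v.1.1.val 0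
    rw [pow_zero, one_smul] at this
    have e2 : ((2 * (2 * v.1.2.val) : ℕ) : ZMod 3) = v.1.2 := by
      push_cast
      rw [ZMod.natCast_zmod_val, ← mul_assoc]
      generalize v.1.2 = u
      revert u
      decide
    rw [ZMod.natCast_zmod_val, e2] at this
    simpa [rep, ex, ew] using this
  have repns : ∀ v, ¬ Chr ω (rep v : M3) 0 := fun v hv => v.2 (h.chr_unique (repC v) hv)
  -- images
  have img : ∀ (g : A) (v : S), ∃ u : S, Chr ω (((g : GL3 K) * rep v * (g : GL3 K)⁻¹ : GL3 K) : M3) u.1 := by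
    intro g v
    have hr : InR ω (((g : GL3 K) * rep v * (g : GL3 K)⁻¹ : GL3 K) : M3) :=
      mem_Rsub.1 ((Subgroup.mem_normalizer_iff.1 g.2.2 _).1 (mem_Rsub.2 (repR v)))
    obtain ⟨i, j, k, -, -, -, e⟩ := InR.norm h.om hr
    refine ⟨⟨((k : ZMod 3), ((2 * j : ℕ) : ZMod 3)), fun h0 => ?_⟩, by rw [e]; exact h.chr_pow j k i⟩
    obtain ⟨l, -, el⟩ := h.scalar_of_chr hr (by rw [← h0, e]; exact h.chr_pow j k i)
    refine repns v (h.chr_of_scalar (c := ω ^ l) ?_)
    calc (rep v : M3) = (((g : GL3 K)⁻¹ * ((g : GL3 K) * rep v * (g : GL3 K)⁻¹) * (g : GL3 K) : GL3 K) : M3) := by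
          congr 1; group
      _ = _ := by
        rw [Units.val_mul, Units.val_mul, el, Matrix.mul_smul, Matrix.mul_one, Matrix.smul_mul, ← Units.val_mul,
          inv_mul_cancel, Units.val_one]
  choose f hf using img
  have same : ∀ {r s : GL3 K}, InR ω (r : M3) → InR ω (s : M3) → ∀ {u : ZMod 3 × ZMod 3}, Chr ω (r : M3) u →
      Chr ω (s : M3) u → ∃ i : ℕ, (r : M3) = ω ^ i • (s : M3) := by
    intro r s hr hs u cr cs
    have hq : r * s⁻¹ ∈ R := mul_mem (mem_Rsub.2 hr) (inv_mem (mem_Rsub.2 hs))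
    have c0 : Chr ω ((r * s⁻¹ : GL3 K) : M3) 0 := by
      have step : ∀ {B : M3} {a : K}, a ≠ 0 → (r : M3) * B = a • (B * (r : M3)) → (s : M3) * B = a • (B * (s : M3)) →
          (r : M3) * ((s⁻¹ : GL3 K) : M3) * B = B * ((r : M3) * ((s⁻¹ : GL3 K) : M3)) := by
        intro B a ha e1 e2
        have e3 : ((s⁻¹ : GL3 K) : M3) * B = a⁻¹ • (B * ((s⁻¹ : GL3 K) : M3)) := by
          calc ((s⁻¹ : GL3 K) : M3) * B = ((s⁻¹ : GL3 K) : M3) * (a⁻¹ • ((s : M3) * B)) * ((s⁻¹ : GL3 K) : M3) := by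
                rw [e2, smul_smul, inv_mul_cancel₀ ha, one_smul, Matrix.mul_assoc, Matrix.mul_assoc, ← Units.val_mul,
                  mul_inv_cancel, Units.val_one, Matrix.mul_one]
            _ = _ := by
              rw [Matrix.mul_smul, Matrix.smul_mul, ← Matrix.mul_assoc, ← Units.val_mul, inv_mul_cancel, Units.val_one,
                Matrix.one_mul]
        rw [Matrix.mul_assoc, e3, Matrix.mul_smul, ← Matrix.mul_assoc, e1, Matrix.smul_mul, smul_smul,
          inv_mul_cancel₀ ha, one_smul, Matrix.mul_assoc]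
      have hω0 := om_ne_zero h.om
      rw [Units.val_mul]
      constructor
      · simp only [Prod.fst_zero, ZMod.val_zero, pow_zero, one_smul]
        exact step (pow_ne_zero _ hω0) cr.1 cs.1
      · simp only [Prod.snd_zero, ZMod.val_zero, pow_zero, one_smul]
        exact step (pow_ne_zero _ hω0) cr.2 cs.2
    obtain ⟨i, -, ei⟩ := h.scalar_of_chr (mem_Rsub.1 hq) c0
    refine ⟨i, ?_⟩
    calc (r : M3) = ((r * s⁻¹ : GL3 K) : M3) * (s : M3) := by rw [← Units.val_mul, inv_mul_cancel_right]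
      _ = _ := by rw [ei, Matrix.smul_mul, Matrix.one_mul]
  have hmul : ∀ (g g' : A) (v : S), f (g * g') v = f g (f g' v) := by
    intro g g' v
    apply Subtype.ext
    refine h.chr_unique (hf (g * g') v) ?_
    obtain ⟨i, ei⟩ := same (mem_Rsub.1 ((Subgroup.mem_normalizer_iff.1 g'.2.2 _).1 (mem_Rsub.2 (repR v))))
      (repR (f g' v)) (hf g' v) (repC (f g' v))
    have e : (((g * g' : A) : GL3 K) * rep v * ((g * g' : A) : GL3 K)⁻¹ : GL3 K) =
        (g : GL3 K) * ((g' : GL3 K) * rep v * (g' : GL3 K)⁻¹) * (g : GL3 K)⁻¹ := by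
      rw [Subgroup.coe_mul]; group
    rw [e, Units.val_mul, Units.val_mul, ei, Matrix.mul_smul, Matrix.smul_mul, ← Units.val_mul, ← Units.val_mul]
    obtain ⟨c1, c2⟩ := hf g (f g' v)
    constructor <;> rw [Matrix.smul_mul, Matrix.mul_smul] <;>
      [rw [c1, smul_comm]; rw [c2, smul_comm]]
  have hone : ∀ v, f 1 v = v := fun v => Subtype.ext (h.chr_unique (hf 1 v) (by simpa using repC v))
  let act : A →* Equiv.Perm S :=
    { toFun := fun g => ⟨f g, f g⁻¹, fun v => by rw [← hmul, inv_mul_cancel, hone],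
        fun v => by rw [← hmul, mul_inv_cancel, hone]⟩
      map_one' := Equiv.ext hone
      map_mul' := fun g g' => Equiv.ext (hmul g g') }
  have fixR : ∀ {g : A} {v : S}, f g v = v → InR ω ((g : GL3 K) : M3) := by
    intro g v hv
    obtain ⟨i, ei⟩ := same (mem_Rsub.1 ((Subgroup.mem_normalizer_iff.1 g.2.2 _).1 (mem_Rsub.2 (repR v)))) (repR v)
      (by have := hf g v; rwa [hv] at this) (repC v)
    refine hN.lift (repR v) (repns v) g.2.1 (i := i) ?_
    rw [← Matrix.smul_mul, ← ei, ← Units.val_mul, ← Units.val_mul, inv_mul_cancel_right]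
  have Rfix : ∀ {g : A}, InR ω ((g : GL3 K) : M3) → act g = 1 := by
    intro g hg
    refine Equiv.ext fun v => Subtype.ext ?_
    show (f g v).1 = v.1
    obtain ⟨i, j, k, -, -, -, e⟩ := InR.norm h.om (repR v)
    obtain ⟨i', j', k', -, -, -, e'⟩ := InR.norm h.om hg
    refine h.chr_unique (hf g v) ?_
    -- conjugation by an element of the group changes only the scalar
    have hsc : ∃ a : ℕ, ((g : GL3 K) : M3) * (rep v : M3) = ω ^ a • ((rep v : M3) * ((g : GL3 K) : M3)) := by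
      refine ⟨j * k' + 2 * (j' * k), ?_⟩
      rw [e, e']
      simp only [Matrix.smul_mul, Matrix.mul_smul, smul_smul]
      rw [show Xm ω ^ j' * (Ym : M3) ^ k' * (Xm ω ^ j * (Ym : M3) ^ k) =
        ω ^ (j * k') • (Xm ω ^ (j' + j) * (Ym : M3) ^ (k' + k)) by
        rw [Matrix.mul_assoc, ← Matrix.mul_assoc ((Ym : M3) ^ k'), InR.X_pow_Y h.om, Matrix.smul_mul, Matrix.mul_smul,
          pow_add, pow_add]
        simp only [Matrix.mul_assoc]]
      rw [show Xm ω ^ j * (Ym : M3) ^ k * (Xm ω ^ j' * (Ym : M3) ^ k') =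
        ω ^ (j' * k) • (Xm ω ^ (j' + j) * (Ym : M3) ^ (k' + k)) by
        rw [Matrix.mul_assoc, ← Matrix.mul_assoc ((Ym : M3) ^ k), InR.X_pow_Y h.om, Matrix.smul_mul, Matrix.mul_smul,
          add_comm j', add_comm k', pow_add, pow_add]
        simp only [Matrix.mul_assoc]]
      simp only [smul_smul, ← pow_add]
      congr 1
      rw [pow_eq_pow_mod _ (om3 h.om)]
      conv_rhs => rw [pow_eq_pow_mod _ (om3 h.om)]
      congr 1
      omega
    obtain ⟨a, ha⟩ := hsc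
    obtain ⟨c1, c2⟩ := repC v
    rw [Units.val_mul, Units.val_mul, ha, Matrix.smul_mul, Matrix.mul_assoc, ← Units.val_mul, mul_inv_cancel,
      Units.val_one, Matrix.mul_one]
    constructor <;> rw [Matrix.smul_mul, Matrix.mul_smul] <;>
      [rw [c1, smul_comm]; rw [c2, smul_comm]]
  haveI : Finite (GL3 K) := finite_gl
  have hdvd : Nat.card act.range ∣ 8 := by
    have h8 : Nat.card S = 8 := by rw [Nat.card_eq_fintype_card]; decide
    rw [← h8]
    refine CfsgLib.SL2.Census.card_dvd_of_free (C := act.range) (α := S) fun v c hc => ?_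
    obtain ⟨g, hg⟩ := c.2
    refine Subtype.ext ?_
    rw [← hg, Subgroup.coe_one]
    refine Rfix (fixR (v := v) ?_)
    have : (act g) v = v := by rw [hg]; exact hc
    exact this
  set zA : A := ⟨z, hz, hzn⟩
  have h1 : orderOf (act zA) ∣ 8 := by
    refine dvd_trans ?_ hdvd
    have := orderOf_dvd_natCard (⟨act zA, zA, rfl⟩ : act.range)
    rwa [← Subgroup.orderOf_coe] at this
  have h2 : orderOf (act zA) ∣ orderOf z := by
    have := orderOf_map_dvd act zA
    rwa [← Subgroup.orderOf_coe] at this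
  have h3 : orderOf (act zA) = 1 := by
    have hco : Nat.Coprime 8 (orderOf z) := by
      rw [show (8 : ℕ) = 2 ^ 3 from rfl]
      exact Nat.Coprime.pow_left _ (Nat.coprime_two_left.2 hodd)
    exact Nat.eq_one_of_dvd_coprimes hco h1 h2
  rw [orderOf_eq_one_iff] at h3
  exact fixR (v := ⟨(1, 0), by decide⟩) (by
    show act zA _ = _
    rw [h3]; rfl)

/-- The group is a Sylow three-subgroup. -/
theorem sylow {P : Subgroup (GL3 K)} (hP : P ≤ N) (h3 : IsPGroup 3 P) (hR : Rsub K ω h.om ≤ P) :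
    P = Rsub K ω h.om := by
  haveI : Finite (GL3 K) := finite_gl
  haveI : Fact (Nat.Prime 3) := ⟨Nat.prime_three⟩
  by_contra hne
  haveI : Group.IsNilpotent P := h3.isNilpotent
  have hlt : (Rsub K ω h.om).subgroupOf P < ⊤ := by
    rw [lt_top_iff_ne_top, Ne, Subgroup.subgroupOf_eq_top]
    exact fun h' => hne (le_antisymm h' hR)
  obtain ⟨z, hz, hzR⟩ := SetLike.exists_of_lt (Group.normalizerCondition_of_isNilpotent _ hlt)
  refine hzR (hN.norm_odd (z := (z : GL3 K)) (hP z.2) ?_ ?_)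
  · rw [Subgroup.mem_normalizer_iff]
    intro g
    rw [Subgroup.mem_normalizer_iff] at hz
    constructor
    · intro hg
      exact (hz ⟨g, hR hg⟩).1 hg
    · intro hg
      have hg' : g ∈ P := by
        have h' := mul_mem (mul_mem (inv_mem z.2) (hR hg)) z.2
        rwa [show (z : GL3 K)⁻¹ * ((z : GL3 K) * g * (z : GL3 K)⁻¹) * (z : GL3 K) = g by group] at h'
      exact (hz ⟨g, hg'⟩).2 hg
  · obtain ⟨a, ha⟩ := h3 z
    rw [Subgroup.orderOf_coe]
    exact Odd.of_dvd_nat ((show Odd 3 by decide).pow) (orderOf_dvd_of_pow_eq_one ha)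

end Thin

end Setup

end CfsgLib.HessianMax
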