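import Cfsg.Agent.Lib.HessianMax.Rot
import Cfsg.Agent.Lib.HessianMax.Coord

/-!
Elements outside the classes counted by hand.
-/

set_option autoImplicit false
set_option linter.unusedSectionVars false

namespace CfsgLib.HessianMax

open Matrix

variable {K : Type*} [Field K] [Finite K] {p : ℕ} [hp : Fact p.Prime] [CharP K p]

local notation "M3" => Matrix (Fin 3) (Fin 3) K

namespace Setup

variable {ω : K} {M : Subgroup (GL3 K)} (h : Setup p ω M) {k : ℕ} {c j : GL3 K} (hC : CT ω M h.two k c j)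
  (cls : ∃ m : M, m * h.tM * m⁻¹ = (⟨c, hC.mc⟩ : M) * ⟨j, hC.mj⟩)

/-- The counted elements. -/
def Covd (g : M) : Prop := Abs.Ax.Cov k h.zM (⟨c, hC.mc⟩ : M) ⟨j, hC.mj⟩ h.xM g

include h hC cls

theorem finM : Finite M := by
  haveI : Finite (GL3 K) := finite_gl
  infer_instance

theorem zM_pow_val (i : ℕ) : (((h.zM ^ i : M) : GL3 K) : M3) = ω ^ i • 1 := by
  rw [Subgroup.coe_pow, Units.val_pow_eq_pow_val, h.zM_val, smul_pow, one_pow]

theorem scalar_z {g : M} {a : K} (e : ((g : GL3 K) : M3) = a • 1) : ∃ i, g = h.zM ^ i := by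
  have hd := h.det _ g.2
  rw [e, det_smul, det_one, mul_one, Fintype.card_fin] at hd
  obtain ⟨i, -, rfl⟩ := h.cube_root hd
  exact ⟨i, Subtype.ext (Units.ext (by rw [e, h.zM_pow_val hC cls]))⟩

theorem cov_conj {g : M} (hg : h.Covd hC g) (m : M) : h.Covd hC (m * g * m⁻¹) := by
  rcases hg with ⟨i, rfl⟩ | hg | hg | hg
  · refine Or.inl ⟨i, ?_⟩
    rw [← ((h.ax hC).zcomm m).pow_left i |>.eq, mul_inv_cancel_right]
  · exact Or.inr (Or.inl (Abs.cl_conj hg m))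
  · exact Or.inr (Or.inr (Or.inl (Abs.cl_conj hg m)))
  · exact Or.inr (Or.inr (Or.inr (Abs.cl_conj hg m)))

theorem uncov_conj {g : M} (hg : ¬ h.Covd hC g) (m : M) : ¬ h.Covd hC (m * g * m⁻¹) := fun e => hg (by
  have := h.cov_conj hC cls e m⁻¹
  rwa [show m⁻¹ * (m * g * m⁻¹) * m⁻¹⁻¹ = g by group] at this)

theorem conj_x (i : ℕ) : ∃ m : M, m * h.xM * m⁻¹ = h.zM ^ i * h.xM := by
  obtain ⟨y, hy, ey⟩ := h.mY
  refine ⟨⟨y, hy⟩ ^ i, ?_⟩
  rw [mul_inv_eq_iff_eq_mul]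
  refine Subtype.ext (Units.ext ?_)
  simp only [Subgroup.coe_mul, Subgroup.coe_pow, Units.val_mul, Units.val_pow_eq_pow_val, h.xM_val, h.zM_val]
  have e := InR.X_pow_Y h.om 1 i
  rw [pow_one, one_mul] at e
  rw [ey, e, smul_pow, one_pow, Matrix.smul_mul, Matrix.one_mul, Matrix.smul_mul]

/-- Elements of order three are counted. -/
theorem cov_three {g : M} (hg : g ^ 3 = 1) : h.Covd hC g := by
  haveI : Finite (GL3 K) := finite_gl
  haveI : Fact (Nat.Prime 3) := ⟨Nat.prime_three⟩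
  have hω := h.om
  have hZ : IsPGroup 3 (Subgroup.zpowers g) := by
    rintro ⟨a, i, rfl⟩
    refine ⟨1, Subtype.ext ?_⟩
    show (g ^ i) ^ 3 ^ 1 = 1
    rw [pow_one, ← _root_.zpow_natCast, ← _root_.zpow_mul, mul_comm, _root_.zpow_mul, _root_.zpow_natCast, hg,
      _root_.one_zpow]
  have hR : IsPGroup 3 ((Rsub K ω hω).subgroupOf M) :=
    (isPGroup_Rsub hω).comap_of_ker_isPGroup M.subtype (IsPGroup.ker_isPGroup_of_injective M.subtype_injective)
  obtain ⟨S, hS⟩ := hZ.exists_le_sylow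
  obtain ⟨S0, hS0⟩ := hR.exists_le_sylow
  have hS0' : (S0 : Subgroup M).map M.subtype = Rsub K ω hω :=
    (h.thin hC).sylow (Subgroup.map_subtype_le _) (S0.2.map M.subtype) fun r hr =>
      ⟨⟨r, h.Rsub_le hr⟩, hS0 hr, rfl⟩
  obtain ⟨m, hm⟩ := MulAction.exists_smul_eq M S S0
  have hmem : m * g * m⁻¹ ∈ (S0 : Subgroup M) := by
    rw [← hm]
    exact ⟨g, hS (Subgroup.mem_zpowers g), rfl⟩
  set r := m * g * m⁻¹ with hr
  have hrR : InR ω ((r : GL3 K) : M3) := (mem_Rsub (hω := hω)).1 (hS0' ▸ ⟨r, hmem, rfl⟩)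
  suffices hcov : h.Covd hC r by
    have := h.cov_conj hC cls hcov m⁻¹
    rwa [hr, show m⁻¹ * (m * g * m⁻¹) * m⁻¹⁻¹ = g by group] at this
  by_cases hc : Chr ω ((r : GL3 K) : M3) 0
  · obtain ⟨i, -, e⟩ := h.scalar_of_chr hrR hc
    exact Or.inl (h.scalar_z hC cls e)
  · obtain ⟨y, hy, -, i, e⟩ := h.conj_X hrR hc
    obtain ⟨u, hu⟩ := h.conj_x hC cls (2 * i)
    refine Or.inr (Or.inl ⟨⟨y, hy⟩ * u, h.xM, rfl, ?_⟩)
    rw [show (⟨y, hy⟩ : M) * u * h.xM * (⟨y, hy⟩ * u)⁻¹ = ⟨y, hy⟩ * (u * h.xM * u⁻¹) * (⟨y, hy⟩ : M)⁻¹ by group, hu,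
      eq_mul_inv_iff_mul_eq]
    refine Subtype.ext (Units.ext ?_)
    simp only [Subgroup.coe_mul, Subgroup.coe_pow, Units.val_mul, Units.val_pow_eq_pow_val, h.zM_val, h.xM_val]
    rw [smul_pow, one_pow, Matrix.smul_mul, Matrix.one_mul, Matrix.mul_smul, e, smul_smul, ← pow_add,
      show 2 * i + i = 3 * i by ring, pow_mul, om3 hω, one_pow, one_smul]

/-- A counted element commuting with an uncounted one is scalar. -/
theorem scalar_of_comm {g a : M} (hg : ¬ h.Covd hC g) (ha : h.Covd hC a) (hc : g * a = a * g) :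
    ∃ i, a = h.zM ^ i := by
  haveI := h.finM hC cls
  have A := h.ax hC
  rcases ha with ha | ⟨m, s, (rfl : s = h.xM), rfl⟩ | ⟨m, s, ⟨i, -, rfl⟩, rfl⟩ | ⟨m, s, ⟨i, -, n, n0, n2, rfl⟩, rfl⟩
  · exact ha
  all_goals exfalso
  · have hc' : (m⁻¹ * g * m) * h.xM = h.xM * (m⁻¹ * g * m) := by
      calc m⁻¹ * g * m * h.xM = m⁻¹ * (g * (m * h.xM * m⁻¹)) * m := by group
        _ = m⁻¹ * ((m * h.xM * m⁻¹) * g) * m := by rw [hc]
        _ = _ := by group
    exact h.uncov_conj hC cls hg m⁻¹ (by rw [inv_inv]; exact h.cov_three hC cls (A.cx_pow hc'))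
  · have hc' : (m⁻¹ * g * m) * (h.zM ^ i * ⟨j, hC.mj⟩) = h.zM ^ i * ⟨j, hC.mj⟩ * (m⁻¹ * g * m) := by
      calc m⁻¹ * g * m * (h.zM ^ i * ⟨j, hC.mj⟩) = m⁻¹ * (g * (m * (h.zM ^ i * ⟨j, hC.mj⟩) * m⁻¹)) * m := by group
        _ = m⁻¹ * ((m * (h.zM ^ i * ⟨j, hC.mj⟩) * m⁻¹) * g) * m := by rw [hc]
        _ = _ := by group
    have hj : Commute (m⁻¹ * g * m) (⟨j, hC.mj⟩ : M) := A.cent_zj.1 hc'
    refine h.uncov_conj hC cls hg m⁻¹ ?_
    rw [inv_inv]
    refine A.cov_of_comm cls A.tsq A.t_ne ?_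
    rw [← A.jj]
    exact (hj.mul_right hj).eq
  · set C' : M := ⟨c, hC.mc⟩
    have hc' : (m⁻¹ * g * m) * (h.zM ^ i * C' ^ n) = h.zM ^ i * C' ^ n * (m⁻¹ * g * m) := by
      calc m⁻¹ * g * m * (h.zM ^ i * C' ^ n) = m⁻¹ * (g * (m * (h.zM ^ i * C' ^ n) * m⁻¹)) * m := by group
        _ = m⁻¹ * ((m * (h.zM ^ i * C' ^ n) * m⁻¹) * g) * m := by rw [hc]
        _ = _ := by group
    refine h.uncov_conj hC cls hg m⁻¹ ?_
    rw [inv_inv]
    refine A.cov_of_comm cls A.tsq A.t_ne ?_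
    by_cases hk : k ∣ n
    · obtain ⟨d, rfl⟩ := hk
      obtain rfl : d = 1 := by nlinarith [A.kpos]
      rw [mul_one, A.ck] at hc'
      have hz : Commute (m⁻¹ * g * m) (h.zM ^ i) := ((A.zcomm _).pow_left i).symm
      have h1 : Commute (m⁻¹ * g * m) ((h.zM ^ i)⁻¹ * (h.zM ^ i * h.tM)) :=
        hz.inv_right.mul_right (show Commute (m⁻¹ * g * m) (h.zM ^ i * h.tM) from hc')
      rw [inv_mul_cancel_left] at h1
      exact h1.eq
    · exact A.fit i n _ hk hc'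

/-- An uncounted element commutes with no involution. -/
theorem odd_cent {g : M} (hg : ¬ h.Covd hC g) : Odd (Nat.card (Subgroup.centralizer ({g} : Set M))) := by
  haveI := h.finM hC cls
  haveI : Fact (Nat.Prime 2) := ⟨Nat.prime_two⟩
  rw [← Nat.not_even_iff_odd, even_iff_two_dvd]
  intro h2
  obtain ⟨s, hs⟩ := exists_prime_orderOf_dvd_card' 2 h2
  refine hg ((h.ax hC).cov_of_comm cls (s := (s : M)) ?_ ?_
    (Subgroup.mem_centralizer_singleton_iff.1 s.2).symm)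
  · rw [← Subgroup.coe_mul, ← pow_two, ← hs, pow_orderOf_eq_one, Subgroup.coe_one]
  · intro e
    have : s = 1 := Subtype.ext e
    rw [this, orderOf_one] at hs
    omega

/-- An element of order p is a regular unipotent. -/
theorem unip {u : M} (hu : u ^ p = 1) (hu1 : u ≠ 1) :
    (((u : GL3 K) : M3) - 1) ^ 3 = 0 ∧ (((u : GL3 K) : M3) - 1) * (((u : GL3 K) : M3) - 1) ≠ 0 := by
  refine ⟨cube_zero_of_ppow (p := p) (i := 1) ?_, fun e => h.notv _ u.2 ⟨fun e1 => hu1 ?_, e⟩⟩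
  · rw [pow_one, ← Units.val_pow_eq_pow_val, ← Subgroup.coe_pow, hu]; rfl
  · exact Subtype.ext (Units.ext e1)

/-- The centraliser of an element of order p. -/
theorem comm_unip {u g : M} (hu : u ^ p = 1) (hu1 : u ≠ 1) (hc : g * u = u * g) :
    (∃ d : K, ((g : GL3 K) : M3) ^ p = d • 1) ∧ ∃ a b : ℕ, g = h.zM ^ a * u ^ b := by
  obtain ⟨h3, h2⟩ := h.unip hC cls hu hu1
  have h7 := h.p7
  have A := h.ax hC
  have hc' : ((g : GL3 K) : M3) * (((u : GL3 K) : M3) - 1) = (((u : GL3 K) : M3) - 1) * ((g : GL3 K) : M3) := by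
    have := congrArg (fun a : M => ((a : GL3 K) : M3)) hc
    simp only [Subgroup.coe_mul, Units.val_mul] at this
    rw [Matrix.mul_sub, Matrix.sub_mul, Matrix.mul_one, Matrix.one_mul, this]
  obtain ⟨d, hd⟩ := pow_p_scalar (p := p) (by omega) h3 h2 hc'
  refine ⟨⟨d, hd⟩, ?_⟩
  obtain ⟨i, hi⟩ := h.scalar_z hC cls (g := g ^ p) (a := d) (by
    rw [Subgroup.coe_pow, Units.val_pow_eq_pow_val, hd])
  have hp3 : ¬ 3 ∣ p := fun e => by
    rcases (Nat.dvd_prime hp.out).1 e with e' | e'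
    · omega
    · omega
  set a := i * p
  have hq : (h.zM ^ (2 * a) * g) ^ p = 1 := by
    rw [((A.zcomm g).pow_left _).mul_pow, hi, ← pow_mul, ← pow_add, pow_eq_pow_mod _ A.z3,
      show (2 * a * p + i) % 3 = 0 from ?_, pow_zero]
    have hpp : p % 3 = 1 ∨ p % 3 = 2 := by omega
    have : (p * p) % 3 = 1 := by rcases hpp with e | e <;> rw [Nat.mul_mod, e]
    rw [show 2 * a * p + i = 2 * i * (p * p) + i by simp only [a]; ring, Nat.add_mod, Nat.mul_mod, this]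
    omega
  have hcu : u * (h.zM ^ (2 * a) * g) = h.zM ^ (2 * a) * g * u := by
    rw [← mul_assoc, ← ((A.zcomm u).pow_left (2 * a)).eq, mul_assoc, ← hc, mul_assoc]
  obtain ⟨b, hb⟩ := h.nopp _ u.2 _ (h.zM ^ (2 * a) * g).2
    (by rw [← Subgroup.coe_pow, hu]; rfl) (by rw [← Subgroup.coe_pow, hq]; rfl)
    (fun e => hu1 (Subtype.ext e)) (by rw [← Subgroup.coe_mul, ← Subgroup.coe_mul, hcu])
  refine ⟨a, b, ?_⟩
  have e : h.zM ^ (2 * a) * g = u ^ b := Subtype.ext (by rw [Subgroup.coe_pow]; exact hb)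
  rw [← e, ← mul_assoc, ← pow_add, show a + 2 * a = 3 * a by ring, pow_mul, A.z3, one_pow, one_mul]

/-- An element of order p is uncounted. -/
theorem unip_uncov {u : M} (hu : u ^ p = 1) (hu1 : u ≠ 1) : ¬ h.Covd hC u := by
  haveI := h.finM hC cls
  have A := h.ax hC
  have h7 := h.p7
  intro hcov
  -- no involution commutes with it
  have noinv : ∀ m : M, ¬ (m⁻¹ * u * m) * h.tM = h.tM * (m⁻¹ * u * m) := by
    intro m hm
    set v := m⁻¹ * u * m
    have hv : v ^ p = 1 := by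
      rw [show v = m⁻¹ * u * m⁻¹⁻¹ by rw [inv_inv], conj_pow, hu]
      group
    have hv1 : v ≠ 1 := fun e => hu1 (by
      calc u = m * (m⁻¹ * u * m) * m⁻¹ := by group
        _ = 1 := by show m * v * m⁻¹ = 1; rw [e]; group)
    obtain ⟨h3, h2⟩ := h.unip hC cls hv hv1
    have hf : (tB h.two).Fits ((v : GL3 K) : M3) := (tB_fits_iff h.two _).2 (by
      have := congrArg (fun a : M => ((a : GL3 K) : M3)) hm
      simp only [Subgroup.coe_mul, Units.val_mul, h.tM_val] at this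
      exact this)
    exact h2 (hf.sq_zero h3)
  have hz : ∀ i : ℕ, u ≠ h.zM ^ i := fun i e => by
    have h3' : u ^ 3 = 1 := by rw [e, ← pow_mul, mul_comm, pow_mul, A.z3, one_pow]
    have hco : Nat.gcd 3 p = 1 := (Nat.coprime_primes Nat.prime_three hp.out).2 (by omega)
    have := pow_gcd_eq_one.2 ⟨h3', hu⟩
    rw [hco, pow_one] at this
    exact hu1 this
  rcases hcov with ⟨i, e⟩ | ⟨m, s, (rfl : s = h.xM), e⟩ | ⟨m, s, ⟨i, -, rfl⟩, e⟩ | ⟨m, s, ⟨i, -, n, -, -, rfl⟩, e⟩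
  · exact hz i e
  · have h3' : u ^ 3 = 1 := by rw [e, conj_pow, A.x3]; group
    have hco : Nat.gcd 3 p = 1 := (Nat.coprime_primes Nat.prime_three hp.out).2 (by omega)
    have := pow_gcd_eq_one.2 ⟨h3', hu⟩
    rw [hco, pow_one] at this
    exact hu1 this
  · refine noinv m ?_
    rw [show m⁻¹ * u * m = h.zM ^ i * ⟨j, hC.mj⟩ by rw [e]; group]
    simpa using A.refl_t i 0
  · refine noinv m ?_
    rw [show m⁻¹ * u * m = h.zM ^ i * (⟨c, hC.mc⟩ : M) ^ n by rw [e]; group]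
    exact A.rot_t i n

end Setup

end CfsgLib.HessianMax
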